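import Cfsg.Agent.Known.ClassNumberO.Decomp
import Cfsg.Agent.Known.SpectrumNine.Torus
import Mathlib

/-! A semisimple cyclic block gives a rotation of nontrivial spinor norm in the centraliser. -/

set_option autoImplicit false
set_option linter.style.haveILetI false
set_option linter.unusedSectionVars false

open Polynomial Cfsg.Lib.Classical.Refl
open scoped Matrix

namespace Cfsg.Lib.ClassNumberO

open ClassNumberSp (Isom star gen psi mem_gen self_mem_gen gen_invariant aeval_mul_apply psi_mk range_psi aeval_star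
  root_pow GoodQ symPoly reverse_eq_dual)

universe u

variable {F : Type u} [Field F] [Fintype F]

/-- A rotation of the quotient by a regular self-dual polynomial. -/
theorem exists_lambda (h2 : (2 : F) ≠ 0) {Q : F[X]} (hQ : GoodQ Q) {N0 : ℕ} (hN0 : 1 ≤ N0) (hdvd : Q ∣ X ^ N0 - 1)
    (hrev : ∃ c : F, c ≠ 0 ∧ Q.reverse = C c * Q) :
    ∃ (d N : ℕ) (lam : AdjoinRoot Q), 1 ≤ d ∧ Q.natDegree = 2 * d ∧ lam * tau hN0 hdvd hrev lam = 1 ∧ lam ^ N = 1 ∧
      (∀ (k : ℕ) (r : AdjoinRoot Q), r ≠ 0 → lam ^ k * r = r → N ∣ k) ∧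
      ((N = Fintype.card F ^ d + 1) ∨ (N = Fintype.card F ^ d - 1 ∧ ∃ T : Submodule F (AdjoinRoot Q),
        Module.finrank F T = d ∧ ∀ x ∈ T, tau hN0 hdvd hrev x * x = 0)) := by
  classical
  obtain ⟨hQm, -, hQc, ⟨d, hd⟩, hd2⟩ := hQ.props h2
  set τ := tau hN0 hdvd hrev with hτ
  have hττ : ∀ x, τ (τ x) = x := tau_tau
  obtain ⟨P, hPm, hPi, hP0, hPX, hQP⟩ := hQ
  haveI : Fact (Irreducible P) := ⟨hPi⟩
  simp only [symPoly] at hQP
  by_cases hdual : DualPoly.dual (RingHom.id F) P = P
  · -- the field case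
    rw [if_pos hdual] at hQP
    subst hQP
    haveI : Module.Finite F (AdjoinRoot Q) := hQm.finite_adjoinRoot
    haveI : Finite (AdjoinRoot Q) := Module.finite_of_finite F
    letI := Fintype.ofFinite (AdjoinRoot Q)
    have hfr : Module.finrank F (AdjoinRoot Q) = d + d := by
      rw [(AdjoinRoot.powerBasis' hQm).finrank, AdjoinRoot.powerBasis'_dim, hd]
    have hKc : Fintype.card (AdjoinRoot Q) = Fintype.card F ^ (d + d) := by
      rw [Module.card_eq_pow_finrank (K := F), hfr]
    let σ : AdjoinRoot Q →ₐ[F] AdjoinRoot Q := AlgHom.mk τ (fun c => tau_of c)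
    let σe : AdjoinRoot Q ≃ₐ[F] AdjoinRoot Q := AlgEquiv.ofBijective σ
      ⟨fun x y h => by rw [← hττ x, ← hττ y]; exact congrArg τ h, fun x => ⟨τ x, hττ x⟩⟩
    obtain ⟨j, hj⟩ := (FiniteField.bijective_frobeniusAlgEquivOfAlgebraic_pow F (AdjoinRoot Q)).2 σe
    have hord := FiniteField.orderOf_frobeniusAlgEquivOfAlgebraic F (AdjoinRoot Q)
    rw [hfr] at hord
    set Fr := FiniteField.frobeniusAlgEquivOfAlgebraic F (AdjoinRoot Q)
    have hj0 : (j : ℕ) ≠ 0 := by
      intro h0
      simp only [h0, pow_zero] at hj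
      have h1 : τ (AdjoinRoot.root Q) = AdjoinRoot.root Q := (AlgEquiv.congr_fun hj (AdjoinRoot.root Q)).symm
      obtain ⟨s, t, hst⟩ := hQc
      have e := congrArg (AdjoinRoot.mk Q) hst
      rw [map_add, map_mul, map_mul, AdjoinRoot.mk_self, mul_zero, zero_add, map_sub, map_pow, AdjoinRoot.mk_X,
        map_one] at e
      have h3 : AdjoinRoot.root Q ^ 2 - 1 = 0 := by
        have h4 : AdjoinRoot.root Q * τ (AdjoinRoot.root Q) = 1 := by
          rw [hτ, tau_root, ← pow_succ', Nat.sub_add_cancel hN0, root_pow hdvd]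
        rw [h1] at h4
        rw [sq, h4, sub_self]
      rw [h3, mul_zero] at e
      exact zero_ne_one e
    have hsq : Fr ^ (2 * (j : ℕ)) = 1 := by
      rw [mul_comm, pow_mul, sq]
      simp only at hj
      rw [hj]
      exact AlgEquiv.ext hττ
    have hjd : (j : ℕ) = d := by
      have h1 := orderOf_dvd_of_pow_eq_one hsq
      rw [hord, show d + d = 2 * d by ring] at h1
      obtain ⟨c, hc⟩ := Nat.dvd_of_mul_dvd_mul_left two_pos h1
      have := j.isLt
      rcases c with _ | _ | c
      · omega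
      · omega
      · nlinarith
    have hτpow : ∀ x, τ x = x ^ Fintype.card F ^ d := by
      intro x
      have h1 : ∀ (m : ℕ) (x : AdjoinRoot Q), (Fr ^ m) x = x ^ Fintype.card F ^ m := fun m => by
        induction m with
        | zero => simp
        | succ m ih => intro x; rw [pow_succ', AlgEquiv.mul_apply, ih, pow_succ, pow_mul]; rfl
      rw [← hjd, ← h1]
      exact (AlgEquiv.congr_fun hj x).symm
    obtain ⟨l, hl⟩ := SpectrumNine.exists_unit_order (K := AdjoinRoot Q) (N := Fintype.card F ^ d + 1) (by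
      rw [hKc, pow_add]
      obtain ⟨r, hr⟩ : ∃ r, Fintype.card F ^ d = r + 1 := ⟨Fintype.card F ^ d - 1, by
        have := Nat.one_le_pow d _ (Fintype.card_pos (α := F)); omega⟩
      rw [hr]
      exact ⟨r, by rw [Nat.sub_eq_iff_eq_add (by nlinarith)]; ring⟩)
    have hl1 : (l : AdjoinRoot Q) ^ (Fintype.card F ^ d + 1) = 1 := by
      rw [← Units.val_pow_eq_pow_val, ← hl, pow_orderOf_eq_one]; rfl
    refine ⟨d, Fintype.card F ^ d + 1, (l : AdjoinRoot Q), by omega, by omega, ?_, hl1, fun k r hr hk => ?_, Or.inl rfl⟩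
    · rw [hτpow, ← pow_succ', hl1]
    · rw [← hl]
      exact orderOf_dvd_of_pow_eq_one (Units.ext (by simpa using mul_right_cancel₀ hr (hk.trans (one_mul r).symm)))
  · -- the product case
    rw [if_neg hdual] at hQP
    set D := DualPoly.dual (RingHom.id F) P with hD
    have hDm : D.Monic := DualPoly.dual_monic hP0
    have hDd : D.natDegree = P.natDegree := DualPoly.dual_natDegree hP0
    have hdP : P.natDegree = d := by
      have := hd
      rw [hQP, hPm.natDegree_mul hDm, hDd] at this
      omega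
    have hPD : ¬ P ∣ D := fun h => hdual (eq_of_monic_of_associated hPm hDm
      (hPi.associated_of_dvd (DualPoly.dual_irreducible (fun _ => rfl) hPm hPi hP0) h)).symm
    obtain ⟨a, b, hab⟩ := hPi.coprime_iff_not_dvd.2 hPD
    haveI : Module.Finite F (AdjoinRoot Q) := hQm.finite_adjoinRoot
    haveI : Module.Finite F (AdjoinRoot P) := hPm.finite_adjoinRoot
    haveI : Finite (AdjoinRoot P) := Module.finite_of_finite F
    letI := Fintype.ofFinite (AdjoinRoot P)
    have hKc : Fintype.card (AdjoinRoot P) = Fintype.card F ^ d := by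
      rw [Module.card_eq_pow_finrank (K := F), (AdjoinRoot.powerBasis' hPm).finrank, AdjoinRoot.powerBasis'_dim, hdP]
    have hPDzero : AdjoinRoot.mk Q P * AdjoinRoot.mk Q D = 0 := by
      rw [← map_mul, ← hQP, AdjoinRoot.mk_self]
    -- the involution exchanges the two factors
    have hswap : ∀ f : F[X], f.coeff 0 ≠ 0 → ∃ w, τ (AdjoinRoot.mk Q f) =
        AdjoinRoot.mk Q (DualPoly.dual (RingHom.id F) f) * w := by
      intro f hf
      have h1 := ClassNumberSU.aeval_reverse (K := F) (AdjoinRoot.root Q) (AdjoinRoot.root Q ^ (N0 - 1))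
        (by rw [← pow_succ, Nat.sub_add_cancel hN0, root_pow hdvd]) (Commute.all _ _) f
      rw [← aeval_star, AdjoinRoot.aeval_eq, AdjoinRoot.aeval_eq, reverse_eq_dual hf, map_mul, AdjoinRoot.mk_C] at h1
      refine ⟨AdjoinRoot.of Q (f.coeff 0) * (AdjoinRoot.root Q ^ (N0 - 1)) ^ f.natDegree, ?_⟩
      rw [hτ, tau_mk]
      calc AdjoinRoot.mk Q (ClassNumberSp.star N0 f) = AdjoinRoot.mk Q (ClassNumberSp.star N0 f) *
            (AdjoinRoot.root Q ^ f.natDegree * (AdjoinRoot.root Q ^ (N0 - 1)) ^ f.natDegree) := by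
            rw [← mul_pow, ← pow_succ', Nat.sub_add_cancel hN0, root_pow hdvd, one_pow, mul_one]
        _ = _ := by rw [← mul_assoc, h1]; ring
    obtain ⟨w1, hw1⟩ := hswap P hP0
    obtain ⟨w2, hw2⟩ := hswap D (by rw [hD, DualPoly.dual_coeff_zero hPm]; simpa using hP0)
    rw [← hD] at hw1
    rw [hD, DualPoly.dual_dual (fun _ => rfl) hPm hP0, ← hD] at hw2
    set E := AdjoinRoot.mk Q (b * D) with hE
    have hE1 : 1 - E = AdjoinRoot.mk Q (a * P) := by
      rw [hE, ← map_one (AdjoinRoot.mk Q), ← hab, map_add]; ring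
    have hEE : E * (1 - E) = 0 := by
      rw [hE1, hE, map_mul, map_mul]; linear_combination AdjoinRoot.mk Q b * AdjoinRoot.mk Q a * hPDzero
    have hτE : τ E = 1 - E := by
      have e1 : τ E * E = 0 := by
        rw [hE, map_mul (AdjoinRoot.mk Q), map_mul τ, hw2]
        linear_combination (τ (AdjoinRoot.mk Q b) * w2 * AdjoinRoot.mk Q b) * hPDzero
      have e2 : τ (1 - E) * (1 - E) = 0 := by
        rw [hE1, map_mul (AdjoinRoot.mk Q), map_mul τ, hw1]
        linear_combination (τ (AdjoinRoot.mk Q a) * w1 * AdjoinRoot.mk Q a) * hPDzero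
      rw [map_sub, map_one] at e2
      linear_combination e1 - e2
    obtain ⟨l, hl⟩ := SpectrumNine.exists_unit_order (K := AdjoinRoot P) (N := Fintype.card F ^ d - 1) (by rw [hKc])
    obtain ⟨g, hg⟩ := AdjoinRoot.mk_surjective (l : AdjoinRoot P)
    obtain ⟨g', hg'⟩ := AdjoinRoot.mk_surjective ((l⁻¹ : (AdjoinRoot P)ˣ) : AdjoinRoot P)
    have hkillE : ∀ f : F[X], AdjoinRoot.mk P f = 0 → AdjoinRoot.mk Q f * E = 0 := fun f hf => by
      obtain ⟨c, rfl⟩ := AdjoinRoot.mk_eq_zero.1 hf
      rw [hE, map_mul, map_mul]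
      linear_combination (AdjoinRoot.mk Q c * AdjoinRoot.mk Q b) * hPDzero
    have hcancel : ∀ (f : F[X]) (r : AdjoinRoot Q), r * E ≠ 0 → AdjoinRoot.mk Q f * (r * E) = 0 →
        AdjoinRoot.mk P f = 0 := by
      intro f r hr h
      obtain ⟨s, rfl⟩ := AdjoinRoot.mk_surjective r
      rw [hE, ← map_mul] at hr h
      rw [← map_mul, AdjoinRoot.mk_eq_zero, hQP] at h
      have h' : P ∣ f * (s * (b * D)) := (dvd_mul_right P D).trans h
      refine AdjoinRoot.mk_eq_zero.2 ((hPi.prime.dvd_or_dvd h').resolve_right fun hh => hr ?_)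
      rcases hPi.prime.dvd_or_dvd hh with h'' | h''
      · rw [AdjoinRoot.mk_eq_zero, hQP]
        exact mul_dvd_mul h'' (dvd_mul_left D b)
      · rcases hPi.prime.dvd_or_dvd h'' with h3 | h3
        · rw [AdjoinRoot.mk_eq_zero, hQP]
          exact (mul_dvd_mul_right h3 D).mul_left s
        · exact absurd h3 hPD
    set G := AdjoinRoot.mk Q g
    set G' := AdjoinRoot.mk Q g'
    have hgg : (G * G' - 1) * E = 0 := by
      have := hkillE (g * g' - 1) (by rw [map_sub, map_mul, hg, hg', Units.mul_inv, map_one, sub_self])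
      simpa [G, G', map_sub, map_mul] using this
    have hpow : ∀ k, (G * E + τ G' * (1 - E)) ^ k = G ^ k * E + τ G' ^ k * (1 - E) := fun k => by
      induction k with
      | zero => ring
      | succ k ih => rw [pow_succ, ih]; linear_combination (G ^ k * τ G' + τ G' ^ k * G - G ^ k * G - τ G' ^ k * τ G') * hEE
    have hNG : ∀ (f : F[X]) (u : (AdjoinRoot P)ˣ), AdjoinRoot.mk P f = u → orderOf u = Fintype.card F ^ d - 1 →
        (AdjoinRoot.mk Q f ^ (Fintype.card F ^ d - 1) - 1) * E = 0 := fun f u hf hu => by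
      have := hkillE (f ^ (Fintype.card F ^ d - 1) - 1) (by
        rw [map_sub, map_pow, hf, ← Units.val_pow_eq_pow_val, ← hu, pow_orderOf_eq_one, Units.val_one, map_one, sub_self])
      simpa [map_sub, map_pow] using this
    refine ⟨d, Fintype.card F ^ d - 1, G * E + τ G' * (1 - E), by omega, by omega, ?_, ?_, fun k r hr hk => ?_,
      Or.inr ⟨rfl, ?_⟩⟩
    · have h' := congrArg τ hgg
      rw [map_mul, map_zero, map_sub, map_mul, map_one, hτE] at h'
      rw [map_add, map_mul, map_mul, hττ, map_sub, map_one, hτE]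
      linear_combination hgg + h' + (G * τ G + τ G' * G' - G * G' - τ G * τ G') * hEE
    · rw [hpow]
      have h1 := hNG g l hg hl
      have h2' := congrArg τ (hNG g' l⁻¹ hg' (by rw [orderOf_inv, hl]))
      rw [map_mul, map_zero, map_sub, map_pow, map_one, hτE] at h2'
      linear_combination h1 + h2'
    · rw [hpow] at hk
      have h0 : (G ^ k - 1) * (r * E) + (τ G' ^ k - 1) * (r * (1 - E)) = 0 := by linear_combination hk
      by_cases hrE : r * E = 0
      · have hr' : r * (1 - E) ≠ 0 := fun h => hr (by linear_combination h + hrE)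
        have hr'' : τ r * E ≠ 0 := fun h => hr' (by
          have := congrArg τ h
          rw [map_mul, hττ, map_zero, hτE] at this
          exact this)
        have h1 := congrArg τ h0
        rw [hrE, mul_zero, zero_add, map_mul, map_mul, map_sub, map_pow, hττ, map_one, map_sub τ 1 E, map_one, hτE,
          sub_sub_cancel, map_zero] at h1
        have h3 := hcancel (g' ^ k - 1) _ hr'' (by rw [map_sub, map_pow, map_one]; exact h1)
        rw [map_sub, map_pow, hg', map_one, sub_eq_zero, ← Units.val_pow_eq_pow_val, Units.val_eq_one] at h3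
        rw [← hl, ← orderOf_inv]
        exact orderOf_dvd_of_pow_eq_one h3
      · have h1 : (G ^ k - 1) * (r * E) = 0 := by
          linear_combination E * h0 + (r * (G ^ k - 1) - (τ G' ^ k - 1) * r) * hEE
        have h3 := hcancel (g ^ k - 1) r hrE (by rw [map_sub, map_pow, map_one]; exact h1)
        rw [map_sub, map_pow, hg, map_one, sub_eq_zero, ← Units.val_pow_eq_pow_val, Units.val_eq_one] at h3
        rw [← hl]
        exact orderOf_dvd_of_pow_eq_one h3
    · let M : AdjoinRoot Q →ₗ[F] AdjoinRoot Q := LinearMap.mulLeft F E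
      refine ⟨LinearMap.range M, ?_, ?_⟩
      · have hker : LinearMap.ker M = LinearMap.range (LinearMap.mulLeft F (1 - E)) := by
          ext x
          constructor
          · intro hx
            have hx' : E * x = 0 := hx
            exact ⟨x, by simp only [LinearMap.mulLeft_apply]; linear_combination -hx'⟩
          · rintro ⟨y, rfl⟩
            show E * ((1 - E) * y) = 0
            linear_combination y * hEE
        let T : AdjoinRoot Q ≃ₗ[F] AdjoinRoot Q :=
          { toFun := τ, invFun := τ, left_inv := hττ, right_inv := hττ, map_add' := map_add τ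
            map_smul' := fun c x => by
              simp only [RingHom.id_apply, Algebra.smul_def, map_mul]
              rw [AdjoinRoot.algebraMap_eq, hτ, tau_of] }
        have hmap : (LinearMap.range M).map T.toLinearMap = LinearMap.range (LinearMap.mulLeft F (1 - E)) := by
          ext x
          constructor
          · rintro ⟨_, ⟨y, rfl⟩, rfl⟩
            exact ⟨τ y, by show (1 - E) * τ y = τ (E * y); rw [map_mul, hτE]⟩
          · rintro ⟨y, rfl⟩
            refine ⟨E * τ y, ⟨τ y, rfl⟩, ?_⟩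
            show τ (E * τ y) = (1 - E) * y
            rw [map_mul, hττ, hτE]
        have h1 := M.finrank_range_add_finrank_ker
        rw [hker, ← hmap, LinearEquiv.finrank_map_eq, (AdjoinRoot.powerBasis' hQm).finrank, AdjoinRoot.powerBasis'_dim,
          hd] at h1
        omega
      · rintro _ ⟨y, rfl⟩
        show τ (E * y) * (E * y) = 0
        rw [map_mul, hτE]
        linear_combination τ y * y * hEE

variable [DecidableEq F] {ι : Type} [Fintype ι] [DecidableEq ι]

/-- The centraliser of an element with a regular cyclic block is not inside the spinor kernel. -/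
theorem exists_centraliser_spin (h2 : (2 : F) ≠ 0) (Qf : QuadraticForm F (ι → F))
    (hQf : (QuadraticMap.polarBilin Qf).Nondegenerate) (x : Cfsg.isometryGroup F (⇑Qf)) {N : ℕ}
    (ha : Isom (QuadraticMap.polarBilin Qf) N (Matrix.toLin' ((x : GL ι F) : Matrix ι ι F))) {Q : F[X]} {v : ι → F}
    (hQ : GoodQ Q) (hc : Cyc (QuadraticMap.polarBilin Qf) (Matrix.toLin' ((x : GL ι F) : Matrix ι ι F)) Q v) :
    ∃ z : Cfsg.isometryGroup F (⇑Qf), detHom Qf z = 1 ∧ spin Qf z = -1 ∧ Commute x z := by
  classical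
  set a := Matrix.toLin' ((x : GL ι F) : Matrix ι ι F) with haD
  set B := QuadraticMap.polarBilin Qf
  obtain ⟨d, N', lam, hd, hdeg, hlam, hlamN, hfree, hcase⟩ := exists_lambda h2 hQ ha.pos (hc.dvd_X_pow ha) hc.rev
  set τ := tau ha.pos (hc.dvd_X_pow ha) hc.rev with hτ
  haveI : Module.Finite F (AdjoinRoot Q) := hc.monic.finite_adjoinRoot
  let j := psi a hc.monic v
  let PK : QuadraticForm F (AdjoinRoot Q) := Qf.comp j
  have hB : ∀ u w, B u w = B w u := fun u w => QuadraticMap.polar_comm _ u w
  have hpair : ∀ r s, B (j r) (j s) = B (j (τ s * r)) v := by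
    intro r s
    obtain ⟨f, rfl⟩ := AdjoinRoot.mk_surjective r
    obtain ⟨k, rfl⟩ := AdjoinRoot.mk_surjective s
    rw [hτ, tau_mk, ← map_mul, psi_mk _ hc.kills, psi_mk _ hc.kills, psi_mk _ hc.kills, hB, ha.adjoint, hB,
      aeval_mul_apply]
  have hval : ∀ r, 2 * PK r = B (j (τ r * r)) v := fun r => by
    rw [← hpair]
    show 2 * Qf (j r) = QuadraticMap.polar (⇑Qf) (j r) (j r)
    rw [QuadraticMap.polar_self, nsmul_eq_mul]; norm_num
  have hpol : ∀ r s, QuadraticMap.polar (⇑PK) r s = B (j r) (j s) := fun r s => by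
    simp [QuadraticMap.polar, PK, B, map_add]
  have hPKnd : (QuadraticMap.polarBilin PK).Nondegenerate := by
    have h1 : ∀ r, (∀ s, QuadraticMap.polar (⇑PK) r s = 0) → r = 0 := fun r hr => by
      refine hc.psi_injective ?_
      rw [map_zero]
      refine hc.gen_nondeg ha (range_psi hc.monic hc.kills ▸ LinearMap.mem_range_self _ r) fun y hy => ?_
      rw [← range_psi hc.monic hc.kills] at hy
      obtain ⟨s, rfl⟩ := hy
      rw [← hr s, hpol]
    exact ⟨h1, fun r hr => h1 r fun s => by rw [QuadraticMap.polar_comm]; exact hr s⟩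
  have hfr : Module.finrank F (AdjoinRoot Q) = 2 * d := by
    rw [(AdjoinRoot.powerBasis' hc.monic).finrank, AdjoinRoot.powerBasis'_dim, hdeg]
  let A : AdjoinRoot Q ≃ₗ[F] AdjoinRoot Q := LinearEquiv.ofBijective (LinearMap.mulLeft F lam)
    ⟨fun r s h => by
      have := congrArg (τ lam * ·) h
      simpa [← mul_assoc, mul_comm (τ lam) lam, hlam] using this,
      fun r => ⟨τ lam * r, by simp [← mul_assoc, hlam]⟩⟩
  have hA : ∀ r, PK (A r) = PK r := fun r => mul_left_cancel₀ h2 (by
    rw [hval, hval]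
    show B (j (τ (lam * r) * (lam * r))) v = _
    rw [map_mul τ, show τ lam * τ r * (lam * r) = (lam * τ lam) * (τ r * r) by ring, hlam, one_mul])
  obtain ⟨e, g, hnd, hg⟩ := SpectrumNine.exists_model PK hPKnd hfr A hA
  let R := PK.comp e.symm.toLinearMap
  have hg : ∀ (k : ℕ) (y : Fin (2 * d) → F), mat R (g ^ k) *ᵥ y = e ((A ^ k) (e.symm y)) := hg
  have hApow : ∀ k r, (A ^ k) r = lam ^ k * r := SpectrumNine.linEquiv_pow A (fun k r => lam ^ k * r) (fun r => by simp)
    (fun k r => by show _ = lam * (lam ^ k * r); ring)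
  obtain ⟨hodd, hevp, hevm, h3⟩ := SpectrumNine.q_facts h2 hd
  have hev : Even N' := by rcases hcase with h | ⟨h, -⟩ <;> rw [h] <;> assumption
  have hN1 : N' ≠ 1 := fun h => by rw [h] at hev; exact absurd hev (by decide)
  have hgN : g ^ N' = 1 := ext_mulVec R fun y => by rw [hg, hApow, hlamN, one_mul]; simp [mat]
  have hs : SpectrumNine.Semireg R g N' := fun y hy k hk => by
    rw [hg, hApow, ← LinearEquiv.eq_symm_apply] at hk
    exact hfree k _ (fun h => hy (e.symm.injective (h.trans (map_zero _).symm))) hk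
  have hdet : detHom R g = 1 := SpectrumNine.det_of_free h2 R hnd (by simp) g fun y hy => by
    by_contra h
    exact hN1 (Nat.dvd_one.1 (hs y h 1 (by rwa [pow_one])))
  obtain ⟨c, hcard, hspin⟩ := SpectrumNine.semireg_sphere hgN hev hN1 hs
  have hspin1 : spin R g = -1 := by
    have hsph := SpectrumNine.card_sphere hnd hd (by simp)
    rw [hcard] at hsph
    rcases hcase with h | ⟨h, T, hT, hT0⟩
    · subst h
      have hcop : Nat.Coprime (Fintype.card F ^ d + 1) (Fintype.card F ^ (d - 1)) := by
        refine Nat.Coprime.coprime_dvd_right (pow_dvd_pow _ (Nat.sub_le d 1)) ?_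
        simp
      have hnp : ¬ SpectrumNine.IsPlus R d := fun hp => by
        have := Nat.le_of_dvd (by omega) (hcop.dvd_of_dvd_mul_left ⟨c, (hsph.1 hp).symm⟩)
        omega
      have h' := hsph.2 hnp
      rw [mul_comm, mul_right_cancel_iff_of_pos (by omega : 0 < Fintype.card F ^ d + 1)] at h'
      rw [hspin, h', hodd.neg_one_pow]
    · subst h
      have hp : SpectrumNine.IsPlus R d := ⟨T.map e.toLinearMap, by rw [LinearEquiv.finrank_map_eq, hT], by
        rintro _ ⟨r, hr, rfl⟩
        show PK (e.symm (e r)) = 0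
        rw [e.symm_apply_apply]
        exact mul_left_cancel₀ h2 (by rw [hval, hT0 r hr, map_zero, map_zero, LinearMap.zero_apply, mul_zero])⟩
      have h' := hsph.1 hp
      rw [mul_comm, mul_right_cancel_iff_of_pos (by omega : 0 < Fintype.card F ^ d - 1)] at h'
      rw [hspin, h', hodd.neg_one_pow]
  let em : SpectrumNine.Emb R Qf :=
    { L := j.comp e.symm.toLinearMap
      c := 1
      hc := one_ne_zero
      hL := fun y => by rw [one_mul]; rfl
      hR := hnd }
  have hι : 2 ≤ Fintype.card ι := by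
    have h1 := LinearMap.finrank_le_finrank_of_injective (f := j) hc.psi_injective
    rw [hfr, Module.finrank_fintype_fun_eq_card] at h1
    omega
  refine ⟨em.ext g, by rw [SpectrumNine.det_ext em h2, hdet], ?_, ?_⟩
  · rw [SpectrumNine.spin_ext em h2 hQf hι (by simp; omega) g hdet, hspin1]
  · refine ext_mulVec Qf fun w => ?_
    rw [mat, mat, mulVec_mul, mulVec_mul]
    have hmul : ∀ r, a (j r) = j (AdjoinRoot.root Q * r) := fun r => by
      obtain ⟨f, rfl⟩ := AdjoinRoot.mk_surjective r
      rw [psi_mk _ hc.kills, show AdjoinRoot.root Q = AdjoinRoot.mk Q X from AdjoinRoot.mk_X.symm, ← map_mul,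
        psi_mk _ hc.kills, aeval_mul_apply, aeval_X]
    set ρ : (Fin (2 * d) → F) → (Fin (2 * d) → F) := fun y => e (AdjoinRoot.root Q * e.symm y) with hρ
    have hproj : ∀ w, em.proj (a w) = ρ (em.proj w) := fun w => em.eq_of_polar fun y => by
      have hy : y = ρ (e (AdjoinRoot.root Q ^ (N - 1) * e.symm y)) := by
        simp only [hρ, e.symm_apply_apply, ← mul_assoc, ← pow_succ', Nat.sub_add_cancel ha.pos,
          root_pow (hc.dvd_X_pow ha), one_mul, e.apply_symm_apply]
      set y' := e (AdjoinRoot.root Q ^ (N - 1) * e.symm y)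
      have hLρ : ∀ y, em.L (ρ y) = a (em.L y) := fun y => by
        show j (e.symm (e (AdjoinRoot.root Q * e.symm y))) = a (j (e.symm y))
        rw [e.symm_apply_apply, hmul]
      have hpm : ∀ p p', QuadraticMap.polar (⇑Qf) (a p) (a p') = QuadraticMap.polar (⇑Qf) p p' := fun p p' => ha.isom p p'
      have hRρ : ∀ p p', QuadraticMap.polar (⇑R) (ρ p) (ρ p') = QuadraticMap.polar (⇑R) p p' := fun p p' => by
        have h1 := em.polar_L (ρ p) (ρ p')
        have h2 := em.polar_L p p'
        simp only [em, one_mul] at h1 h2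
        rw [← h1, ← h2]
        show QuadraticMap.polar (⇑Qf) (em.L (ρ p)) (em.L (ρ p')) = _
        rw [hLρ, hLρ, hpm]
      rw [hy, hRρ, em.polar_proj, em.polar_proj, hLρ, hpm]
    have hext : ∀ w, mat Qf (em.ext g) *ᵥ w = w + j (lam * e.symm (em.proj w) - e.symm (em.proj w)) := fun w => by
      rw [em.ext_mulVec', ← pow_one g, hg, hApow, pow_one]
      show w + j (e.symm (e _ - em.proj w)) = _
      rw [map_sub e.symm, e.symm_apply_apply]
    show ((x : GL ι F) : Matrix ι ι F) *ᵥ (mat Qf (em.ext g) *ᵥ w) =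
      mat Qf (em.ext g) *ᵥ (((x : GL ι F) : Matrix ι ι F) *ᵥ w)
    rw [← Matrix.toLin'_apply, ← haD, ← Matrix.toLin'_apply ((x : GL ι F) : Matrix ι ι F) w, ← haD, hext, hext,
      map_add, hmul, hproj]
    simp only [hρ, e.symm_apply_apply]
    congr 2
    ring

end Cfsg.Lib.ClassNumberO
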