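import Cfsg.Agent.Known.ClassNumberSp.Count
import Mathlib

/-! Counting the possible labelled decompositions of isometries of symmetric forms. -/

set_option autoImplicit false
set_option linter.style.haveILetI false

open Polynomial UniqueFactorizationMonoid
open scoped Classical

namespace Cfsg.Lib.ClassNumberO

open ClassNumberSp (Key GoodQ sgn sgn_sq symPoly Pal card_pal_le sum_map_le numOnes numNsq bits halves poly bits_spec
  reverse_prod linear_sq_props count_prod nf_irreducible count_linear_pow goodQ_count sum_ite_eq_count linear_ne)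

universe u

variable {F : Type u} [Field F]

/-- The conditions on labels imposed by blocks. -/
def Valid : Key F → Prop
  | .cyc Q e => GoodQ Q ∧ 1 ≤ e
  | .one _ e _ => Odd e
  | .pair _ e => 1 ≤ e ∧ Even e

theorem part_props (h2 : (2 : F) ≠ 0) {k : Key F} (hk : Valid k) (e : ℕ) :
    (k.part e).Monic ∧ (k.part e).reverse = k.part e ∧ Even (k.part e).natDegree := by
  have h1 : (1 : F[X]).reverse = 1 := by simp [Polynomial.reverse]
  rcases k with ⟨Q, e'⟩ | ⟨b, e', s⟩ | ⟨b, e'⟩ <;> simp only [ClassNumberSp.Key.part]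
  · split_ifs
    · obtain ⟨hm, hr, -, hd, -⟩ := (show GoodQ Q from hk.1).props h2
      exact ⟨hm, hr, hd⟩
    · exact ⟨monic_one, h1, by simp⟩
  · exact ⟨monic_one, h1, by simp⟩
  · split_ifs
    · obtain ⟨hm, hr, hd⟩ := linear_sq_props (F := F) b 1
      rw [mul_one] at hm hr hd
      exact ⟨hm, hr, by rw [hd]; exact even_two⟩
    · exact ⟨monic_one, h1, by simp⟩

theorem poly_props (h2 : (2 : F) ≠ 0) {L : Multiset (Key F)} (hL : ∀ k ∈ L, Valid k) (e : ℕ) :
    (poly L e).Monic ∧ (poly L e).reverse = poly L e ∧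
      (poly L e).natDegree = (L.map fun k => (k.part e).natDegree).sum + 2 * (halves L true e + halves L false e) ∧
      Even (poly L e).natDegree := by
  have hm : ∀ g ∈ L.map (ClassNumberSp.Key.part e), g.Monic ∧ g.reverse = g ∧ Even g.natDegree := fun g hg => by
    obtain ⟨k, hk, rfl⟩ := Multiset.mem_map.1 hg
    exact part_props h2 (hL k hk) e
  have hpm : (L.map (ClassNumberSp.Key.part e)).prod.Monic :=
    monic_multiset_prod_of_monic L (ClassNumberSp.Key.part e) fun k hk => (part_props h2 (hL k hk) e).1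
  obtain ⟨m1, r1, d1⟩ := linear_sq_props (F := F) true (halves L true e)
  obtain ⟨m2, r2, d2⟩ := linear_sq_props (F := F) false (halves L false e)
  have hdeg : (poly L e).natDegree =
      (L.map fun k => (k.part e).natDegree).sum + 2 * (halves L true e + halves L false e) := by
    rw [poly, hpm.natDegree_mul (m1.mul m2), m1.natDegree_mul m2, d1, d2, natDegree_multiset_prod_of_monic _
      (fun g hg => (hm g hg).1), Multiset.map_map, mul_add]
    rfl
  refine ⟨hpm.mul (m1.mul m2), ?_, hdeg, ?_⟩
  · rw [poly, reverse_mul_of_domain, reverse_mul_of_domain, r1, r2, reverse_prod _ fun g hg => (hm g hg).2.1]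
  · rw [hdeg]
    refine Even.add (even_iff_two_dvd.2 (Multiset.dvd_sum fun x hx => ?_)) (even_two_mul _)
    obtain ⟨k, hk, rfl⟩ := Multiset.mem_map.1 hx
    exact even_iff_two_dvd.1 (part_props h2 (hL k hk) e).2.2

theorem poly_count (h2 : (2 : F) ≠ 0) {L : Multiset (Key F)} (hL : ∀ k ∈ L, Valid k) (P : F[X]) (e : ℕ) :
    Multiset.count P (normalizedFactors (poly L e)) =
      (L.map fun k => Multiset.count P (normalizedFactors (k.part e))).sum +
        (2 * halves L true e * Multiset.count P ({X - C (sgn F true)} : Multiset F[X]) +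
          2 * halves L false e * Multiset.count P ({X - C (sgn F false)} : Multiset F[X])) := by
  have hne : ∀ g ∈ L.map (ClassNumberSp.Key.part e), g ≠ 0 := fun g hg => by
    obtain ⟨k, hk, rfl⟩ := Multiset.mem_map.1 hg
    exact (part_props h2 (hL k hk) e).1.ne_zero
  rw [poly, normalizedFactors_mul (Multiset.prod_ne_zero fun h0 => hne 0 h0 rfl)
    (mul_ne_zero (pow_ne_zero _ (X_sub_C_ne_zero _)) (pow_ne_zero _ (X_sub_C_ne_zero _))),
    normalizedFactors_mul (pow_ne_zero _ (X_sub_C_ne_zero _)) (pow_ne_zero _ (X_sub_C_ne_zero _)),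
    Multiset.count_add, Multiset.count_add, count_linear_pow, count_linear_pow, count_prod P _ hne, Multiset.map_map]
  rfl

/-- The polynomials and bits determine a normal multiset of labels. -/
theorem eq_of_data (h2 : (2 : F) ≠ 0) {L L' : Multiset (Key F)} (hL : ∀ k ∈ L, Valid k) (hL' : ∀ k ∈ L', Valid k)
    (hn : ∀ b e, numNsq L b e ≤ 1) (hn' : ∀ b e, numNsq L' b e ≤ 1)
    (hp : ∀ e, 1 ≤ e → poly L e = poly L' e) (hb : ∀ b r c, bits L b (2 * r + 1) c = bits L' b (2 * r + 1) c) :
    L = L' := by
  classical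
  have hnone : ∀ (M : Multiset (Key F)), (∀ k ∈ M, Valid k) → ∀ b e, ¬ Odd e →
      numOnes M b e = 0 ∧ halves M b e = 0 := by
    intro M hM b e he
    have h0 : numOnes M b e = 0 := by
      rw [numOnes, Multiset.sum_eq_zero_iff]
      intro x hx
      obtain ⟨k, hk, rfl⟩ := Multiset.mem_map.1 hx
      rcases k with ⟨Q, e'⟩ | ⟨b', e', s⟩ | ⟨b', e'⟩ <;> simp only [ClassNumberSp.Key.ones]
      rw [if_neg]
      rintro ⟨-, rfl⟩
      exact he (hM _ hk)
    exact ⟨h0, by rw [halves, h0, Nat.zero_sub, Nat.zero_div]⟩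
  have hlin : ∀ (M : Multiset (Key F)), (∀ k ∈ M, Valid k) → ∀ b e,
      Multiset.count (X - C (sgn F b)) (normalizedFactors (poly M e)) =
        2 * M.count (Key.pair b e) + 2 * halves M b e := by
    intro M hM b e
    rw [poly_count h2 hM, sum_ite_eq_count M (Key.pair b e) _ 2 ?_]
    · have hne := linear_ne (F := F) h2 (show (!b) ≠ b by cases b <;> decide)
      cases b
      · simp only [Bool.not_false] at hne
        rw [Multiset.count_singleton_self, Multiset.count_singleton, if_neg (Ne.symm hne)]; ring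
      · simp only [Bool.not_true] at hne
        rw [Multiset.count_singleton_self, Multiset.count_singleton, if_neg (Ne.symm hne)]; ring
    · intro k hk
      have hv := hM k hk
      rcases k with ⟨Q, e'⟩ | ⟨b', e', s⟩ | ⟨b', e'⟩
      · simp only [ClassNumberSp.Key.part, reduceCtorEq, if_false]
        split_ifs
        · obtain ⟨P, hm, hi, h0, hX, rfl⟩ := (show GoodQ Q from hv.1)
          rw [Multiset.count_eq_zero]
          intro hmem
          have hdv := dvd_of_mem_normalizedFactors hmem
          obtain ⟨-, -, hcop, -, -⟩ := (show GoodQ (symPoly P) from ⟨P, hm, hi, h0, hX, rfl⟩).props h2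
          have := hcop.isUnit_of_dvd' hdv (dvd_iff_isRoot.2 (by simp [sq, sgn_sq]))
          exact not_isUnit_X_sub_C _ this
        · simp
      · simp [ClassNumberSp.Key.part]
      · simp only [ClassNumberSp.Key.part, Key.pair.injEq]
        split_ifs with h1 h3 h3
        · rw [count_linear_pow, h3.1, Multiset.count_singleton_self]
        · rw [count_linear_pow, Multiset.count_singleton,
            if_neg (linear_ne h2 fun hbb : b = b' => h3 ⟨hbb.symm, h1⟩)]
        · exact absurd h3.2 h1
        · simp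
  refine Multiset.ext.2 fun k => ?_
  by_cases hv : Valid k
  swap
  · rw [Multiset.count_eq_zero.2 fun h => hv (hL k h), Multiset.count_eq_zero.2 fun h => hv (hL' k h)]
  rcases k with ⟨Q, e⟩ | ⟨b, e, s⟩ | ⟨b, e⟩
  · obtain ⟨hQ, he⟩ := hv
    obtain ⟨P, hPl, hP1, hP0⟩ := goodQ_count h2 hQ
    have key : ∀ (M : Multiset (Key F)), (∀ k ∈ M, Valid k) →
        Multiset.count P (normalizedFactors (poly M e)) = M.count (Key.cyc Q e) := by
      intro M hM
      rw [poly_count h2 hM, sum_ite_eq_count M (Key.cyc Q e) _ 1 ?_, Multiset.count_singleton,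
        Multiset.count_singleton, if_neg (hPl true), if_neg (hPl false)]
      · simp
      · intro k hk
        have hkv := hM k hk
        rcases k with ⟨Q', e'⟩ | ⟨b', e', s⟩ | ⟨b', e'⟩
        · simp only [ClassNumberSp.Key.part, Key.cyc.injEq]
          split_ifs with h1 h3 h3
          · rw [h3.1, hP1]
          · exact hP0 Q' hkv.1 fun h => h3 ⟨h, h1⟩
          · exact absurd h3.2 h1
          · simp
        · simp [ClassNumberSp.Key.part]
        · simp only [ClassNumberSp.Key.part, reduceCtorEq, if_false]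
          split_ifs
          · rw [count_linear_pow, Multiset.count_singleton, if_neg (hPl b'), mul_zero]
          · simp
    rw [← key L hL, ← key L' hL', hp e he]
  · obtain ⟨r', rfl⟩ := (show Odd e from hv)
    have hz : ∀ (M : Multiset (Key F)), (∀ k ∈ M, Valid k) → M.count (Key.pair b (2 * r' + 1)) = 0 := fun M hM =>
      Multiset.count_eq_zero.2 fun hk => by
        exact (Nat.not_even_iff_odd.2 (odd_two_mul_add_one r')) (hM _ hk).2
    have h1 := hlin L hL b (2 * r' + 1)
    have h1' := hlin L' hL' b (2 * r' + 1)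
    rw [hp _ (by omega), h1', hz L hL, hz L' hL'] at h1
    obtain ⟨a1, b1, c1⟩ := bits_spec L b (2 * r' + 1) (hn _ _)
    obtain ⟨a2, b2, c2⟩ := bits_spec L' b (2 * r' + 1) (hn' _ _)
    rw [← hb b r' false, ← hb b r' true] at a2 b2 c2
    have hN : numNsq L b (2 * r' + 1) = numNsq L' b (2 * r' + 1) := by
      revert b1 c1 b2 c2
      cases bits L b (2 * r' + 1) false <;> cases bits L b (2 * r' + 1) true <;> simp <;> omega
    have e1 : ∀ (M : Multiset (Key F)), numNsq M b (2 * r' + 1) = M.count (Key.one b (2 * r' + 1) false) := fun M => by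
      rw [numNsq, sum_ite_eq_count M (Key.one b (2 * r' + 1) false) _ 1 ?_, mul_one]
      intro k _
      rcases k with ⟨Q, e'⟩ | ⟨b', e', s'⟩ | ⟨b', e'⟩ <;> simp [ClassNumberSp.Key.nsq]
    have e2 : ∀ (M : Multiset (Key F)), numOnes M b (2 * r' + 1) =
        M.count (Key.one b (2 * r' + 1) false) + M.count (Key.one b (2 * r' + 1) true) := fun M => by
      induction M using Multiset.induction with
      | empty => simp [numOnes]
      | cons k M ih =>
        rw [numOnes, Multiset.map_cons, Multiset.sum_cons, ← numOnes, ih, Multiset.count_cons, Multiset.count_cons]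
        rcases k with ⟨Q, e'⟩ | ⟨b', e', s'⟩ | ⟨b', e'⟩
        · simp [ClassNumberSp.Key.ones]
        · simp only [ClassNumberSp.Key.ones, Key.one.injEq]
          by_cases hbe : b' = b ∧ e' = 2 * r' + 1
          · obtain ⟨rfl, rfl⟩ := hbe
            cases s' <;> simp <;> omega
          · rw [if_neg hbe, if_neg (fun h => hbe ⟨h.1.symm, h.2.1.symm⟩), if_neg (fun h => hbe ⟨h.1.symm, h.2.1.symm⟩)]
            omega
        · simp [ClassNumberSp.Key.ones]
    have := e1 L
    have := e1 L'
    have := e2 L
    have := e2 L'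
    cases s <;> omega
  · have h1 := hlin L hL b e
    have hno : ¬ Odd e := fun h => Nat.not_even_iff_odd.2 h hv.2
    have h1' := hlin L' hL' b e
    rw [hp _ hv.1, h1', (hnone L hL b e hno).2, (hnone L' hL' b e hno).2] at h1
    omega


theorem part_size (h2 : (2 : F) ≠ 0) {k : Key F} (hk : Valid k) {M : ℕ} (hn : k.size ≤ M) :
    ∑ i ∈ Finset.range M, ((i + 1) * (k.part (i + 1)).natDegree) +
      ∑ r ∈ Finset.range M, (2 * r + 1) * (k.ones true (2 * r + 1) + k.ones false (2 * r + 1)) = k.size := by
  have d1 : ((1 : F[X])).natDegree = 0 := natDegree_one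
  rcases k with ⟨Q, e⟩ | ⟨b, e, s⟩ | ⟨b, e⟩
  · obtain ⟨hQ, he⟩ := hk
    have hd : 2 ≤ Q.natDegree := (hQ.props h2).2.2.2.2
    have he2 : e ≤ M := le_trans (Nat.le_mul_of_pos_left e (by omega)) hn
    simp only [ClassNumberSp.Key.ones, add_zero, mul_zero, Finset.sum_const_zero, ClassNumberSp.Key.part,
      ClassNumberSp.Key.size]
    rw [Finset.sum_eq_single (e - 1)]
    · rw [Nat.sub_add_cancel he, if_pos rfl, mul_comm]
    · intro i _ hi; rw [if_neg (by omega), d1, mul_zero]
    · intro h; exact absurd (Finset.mem_range.2 (by omega)) h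
  · obtain ⟨r, rfl⟩ := (show Odd e from hk)
    simp only [ClassNumberSp.Key.size] at hn
    simp only [ClassNumberSp.Key.part, d1, mul_zero, Finset.sum_const_zero, zero_add, ClassNumberSp.Key.ones,
      ClassNumberSp.Key.size]
    rw [Finset.sum_eq_single r]
    · cases b <;> simp
    · intro i _ hi
      rw [if_neg (by omega), if_neg (by omega), add_zero, mul_zero]
    · intro h; exact absurd (Finset.mem_range.2 (by omega)) h
  · simp only [ClassNumberSp.Key.size] at hn
    have he := hk.1
    simp only [ClassNumberSp.Key.ones, add_zero, mul_zero, Finset.sum_const_zero, ClassNumberSp.Key.part,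
      ClassNumberSp.Key.size]
    rw [Finset.sum_eq_single (e - 1)]
    · rw [Nat.sub_add_cancel he, if_pos rfl, natDegree_pow, natDegree_X_sub_C, mul_one, mul_comm]
    · intro i _ hi; rw [if_neg (by omega), d1, mul_zero]
    · intro h; exact absurd (Finset.mem_range.2 (by omega)) h

/-- The number of bits set at one exponent. -/
def bitCount (c : Bool → Bool → Bool) : ℕ :=
  ((c true false).toNat + (c true true).toNat) + ((c false false).toNat + (c false true).toNat)

/-- The weight of bits at the odd exponents. -/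
def weight {K : ℕ} (b : Fin K → Bool → Bool → Bool) : ℕ := ∑ r : Fin K, (2 * (r : ℕ) + 1) * bitCount (b r)

/-- The admissible degree and bit patterns. -/
def patterns (M : ℕ) (S : Finset (Fin M → Bool → Bool → Bool)) :
    Finset ((Fin M → ℕ) × (Fin M → Bool → Bool → Bool)) :=
  ((Fintype.piFinset fun _ : Fin M => Finset.range (M + 1)) ×ˢ S).filter fun p =>
    2 * ∑ i : Fin M, ((i : ℕ) + 1) * p.1 i + weight p.2 = M

theorem data_mem (h2 : (2 : F) ≠ 0) {L : Multiset (Key F)} (hL : ∀ k ∈ L, Valid k) (hn : ∀ b e, numNsq L b e ≤ 1)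
    {M : ℕ} (hsz : (L.map ClassNumberSp.Key.size).sum = M) (S : Finset (Fin M → Bool → Bool → Bool))
    (hS : (fun (r : Fin M) b c => bits L b (2 * (r : ℕ) + 1) c) ∈ S) :
    ((fun i : Fin M => (poly L ((i : ℕ) + 1)).natDegree / 2,
      fun (r : Fin M) b c => bits L b (2 * (r : ℕ) + 1) c) ∈ patterns M S) ∧
      ∀ e, M < e → poly L e = 1 ∧ ∀ b c, bits L b e c = false := by
  classical
  have hsize : ∀ k ∈ L, k.size ≤ M := fun k hk => hsz ▸ Multiset.le_sum_of_mem (Multiset.mem_map_of_mem _ hk)
  have hodd : ∀ b e, ¬ (Odd e ∧ e ≤ M) → numOnes L b e = 0 ∧ halves L b e = 0 := by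
    intro b e he
    have h0 : numOnes L b e = 0 := by
      rw [numOnes, Multiset.sum_eq_zero_iff]
      intro x hx
      obtain ⟨k, hk, rfl⟩ := Multiset.mem_map.1 hx
      rcases k with ⟨Q, e'⟩ | ⟨b', e', s⟩ | ⟨b', e'⟩ <;> simp only [ClassNumberSp.Key.ones]
      rw [if_neg]
      rintro ⟨-, rfl⟩
      exact he ⟨hL _ hk, hsize _ hk⟩
    exact ⟨h0, by rw [halves, h0, Nat.zero_sub, Nat.zero_div]⟩
  have key : ∑ i ∈ Finset.range M, ((i + 1) * (L.map fun k => (k.part (i + 1)).natDegree).sum) +
      ∑ r ∈ Finset.range M, (2 * r + 1) * (numOnes L true (2 * r + 1) + numOnes L false (2 * r + 1)) = M := by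
    conv_rhs => rw [← hsz]
    clear hn hodd hsz hS
    induction L using Multiset.induction with
    | empty => simp [numOnes]
    | cons k L ih =>
      simp only [numOnes, Multiset.map_cons, Multiset.sum_cons, mul_add, Finset.sum_add_distrib] at ih ⊢
      have h1 := ih (fun x hx => hL x (Multiset.mem_cons_of_mem hx)) fun x hx => hsize x (Multiset.mem_cons_of_mem hx)
      have h2' := part_size h2 (hL k (Multiset.mem_cons_self k L)) (hsize k (Multiset.mem_cons_self k L))
      simp only [mul_add, Finset.sum_add_distrib] at h2'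
      omega
  have hdeg : ∀ e, 2 * ((poly L e).natDegree / 2) =
      (L.map fun k => (k.part e).natDegree).sum + 2 * (halves L true e + halves L false e) := fun e => by
    obtain ⟨-, -, h, he⟩ := poly_props h2 hL e
    rw [Nat.two_mul_div_two_of_even he, h]
  have hhalf : ∑ i ∈ Finset.range M, (i + 1) * (2 * (halves L true (i + 1) + halves L false (i + 1))) =
      ∑ r ∈ Finset.range M, (2 * r + 1) * (2 * (halves L true (2 * r + 1) + halves L false (2 * r + 1))) := by
    refine (Finset.sum_bij_ne_zero (fun r _ _ => 2 * r) ?_ ?_ ?_ ?_).symm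
    · intro r _ hne
      rw [Finset.mem_range]
      by_contra hlt
      apply hne
      rw [(hodd true _ fun h => by omega).2, (hodd false _ fun h => by omega).2]; ring
    · intro r _ _ r' _ _ h; omega
    · intro i hi hne
      rcases (Nat.even_or_odd (i + 1)).symm with ⟨r, hr⟩ | ho
      · refine ⟨r, Finset.mem_range.2 (by simp only [Finset.mem_range] at hi; omega), ?_, by omega⟩
        rw [← hr]
        exact hne
      · exfalso
        apply hne
        have hno : ∀ b, halves L b (i + 1) = 0 := fun b => (hodd b _ fun h => Nat.not_even_iff_odd.2 h.1 ho).2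
        simp [hno]
    · intro r _ _; rfl
  refine ⟨?_, fun e he => ?_⟩
  · have hsum : 2 * ∑ i : Fin M, ((i : ℕ) + 1) * ((poly L ((i : ℕ) + 1)).natDegree / 2) +
        weight (fun (r : Fin M) b c => bits L b (2 * (r : ℕ) + 1) c) = M := by
      unfold weight bitCount
      rw [Fin.sum_univ_eq_sum_range (fun i => (i + 1) * ((poly L (i + 1)).natDegree / 2)),
        Fin.sum_univ_eq_sum_range (fun r => (2 * r + 1) *
          (((bits L true (2 * r + 1) false).toNat + (bits L true (2 * r + 1) true).toNat) +
            ((bits L false (2 * r + 1) false).toNat + (bits L false (2 * r + 1) true).toNat))), Finset.mul_sum]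
      refine Eq.trans ?_ key
      have e1 : ∀ i, 2 * ((i + 1) * ((poly L (i + 1)).natDegree / 2)) =
          (i + 1) * (L.map fun k => (k.part (i + 1)).natDegree).sum +
            (i + 1) * (2 * (halves L true (i + 1) + halves L false (i + 1))) := fun i => by
        rw [← mul_add, ← hdeg]; ring
      have e2 : ∀ r, (2 * r + 1) * (numOnes L true (2 * r + 1) + numOnes L false (2 * r + 1)) =
          (2 * r + 1) * (((bits L true (2 * r + 1) false).toNat + (bits L true (2 * r + 1) true).toNat) +
            ((bits L false (2 * r + 1) false).toNat + (bits L false (2 * r + 1) true).toNat)) +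
          (2 * r + 1) * (2 * (halves L true (2 * r + 1) + halves L false (2 * r + 1))) := fun r => by
        rw [(bits_spec L true _ (hn _ _)).1, (bits_spec L false _ (hn _ _)).1]; ring
      rw [Finset.sum_congr rfl fun i _ => e1 i, Finset.sum_congr rfl fun r _ => e2 r, Finset.sum_add_distrib,
        Finset.sum_add_distrib, hhalf]
      ring
    rw [patterns, Finset.mem_filter, Finset.mem_product, Fintype.mem_piFinset]
    refine ⟨⟨fun i => Finset.mem_range.2 (Nat.lt_succ_of_le ?_), hS⟩, hsum⟩
    refine le_trans (Nat.le_mul_of_pos_left _ (Nat.succ_pos (i : ℕ))) ?_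
    refine le_trans (Finset.single_le_sum (f := fun i : Fin M => ((i : ℕ) + 1) * ((poly L ((i : ℕ) + 1)).natDegree / 2))
      (fun _ _ => Nat.zero_le _) (Finset.mem_univ i)) ?_
    omega
  · have hz : ∀ b, numOnes L b e = 0 ∧ halves L b e = 0 := fun b => hodd b e fun h => by omega
    refine ⟨?_, fun b c => ?_⟩
    · rw [poly, (hz true).2, (hz false).2, mul_zero, pow_zero, pow_zero, mul_one, mul_one]
      refine Multiset.prod_eq_one fun x hx => ?_
      obtain ⟨k, hk, rfl⟩ := Multiset.mem_map.1 hx
      have hs := hsize k hk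
      rcases k with ⟨Q, e'⟩ | ⟨b', e', s⟩ | ⟨b', e'⟩ <;> simp only [ClassNumberSp.Key.part]
      · have := (show GoodQ Q from (hL _ hk).1).props h2
        rw [if_neg]
        rintro rfl
        simp only [ClassNumberSp.Key.size] at hs
        nlinarith [this.2.2.2.2]
      · rw [if_neg]
        rintro rfl
        simp only [ClassNumberSp.Key.size] at hs
        omega
    · have h0 : numNsq L b e = 0 := Nat.le_zero.1 (((sum_map_le _ _ _ fun k _ => by
        rcases k with ⟨Q, e'⟩ | ⟨b', e', s⟩ | ⟨b', e'⟩ <;>
          simp only [ClassNumberSp.Key.nsq, ClassNumberSp.Key.ones, le_refl]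
        split_ifs <;> simp_all)).trans_eq (hz b).1)
      simp [bits, (hz b).1, h0]

/-- The number of normal multisets of labels of total size `M` with bits in `S`. -/
theorem card_labels_le [Fintype F] (h2 : (2 : F) ≠ 0) (M : ℕ) (S : Finset (Fin M → Bool → Bool → Bool)) {ι : Type*}
    (L : ι → Multiset (Key F)) (hinj : Function.Injective L) (hL : ∀ i, ∀ k ∈ L i, Valid k)
    (hn : ∀ i b e, numNsq (L i) b e ≤ 1) (hsz : ∀ i, ((L i).map ClassNumberSp.Key.size).sum = M)
    (hS : ∀ i, (fun (r : Fin M) b c => bits (L i) b (2 * (r : ℕ) + 1) c) ∈ S) :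
    Finite ι ∧ Nat.card ι ≤ ∑ p ∈ patterns M S, Fintype.card F ^ ∑ i, p.1 i := by
  classical
  haveI := fun j => (card_pal_le (F := F) j).1
  let Φ : ι → Σ p : patterns M S, (i : Fin M) → Pal F (p.1.1 i) := fun t =>
    ⟨⟨_, (data_mem h2 (hL t) (hn t) (hsz t) S (hS t)).1⟩, fun i => ⟨poly (L t) ((i : ℕ) + 1),
      (poly_props h2 (hL t) _).1, (Nat.two_mul_div_two_of_even (poly_props h2 (hL t) _).2.2.2).symm,
      (poly_props h2 (hL t) _).2.1⟩⟩
  have hΦ : Function.Injective Φ := by
    intro t t' h
    refine hinj (eq_of_data h2 (hL t) (hL t') (hn t) (hn t') (fun e he => ?_) fun b r c => ?_)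
    · by_cases hle : e ≤ M
      · have := congrArg (fun x : Σ p : patterns M S, (i : Fin M) → Pal F (p.1.1 i) =>
          (x.2 ⟨e - 1, by omega⟩).1) h
        simpa [Φ, Nat.sub_add_cancel he] using this
      · rw [((data_mem h2 (hL t) (hn t) (hsz t) S (hS t)).2 e (by omega)).1,
          ((data_mem h2 (hL t') (hn t') (hsz t') S (hS t')).2 e (by omega)).1]
    · by_cases hr : r < M
      · exact congrArg (fun x : Σ p : patterns M S, (i : Fin M) → Pal F (p.1.1 i) => x.1.1.2 ⟨r, hr⟩ b c) h
      · rw [((data_mem h2 (hL t) (hn t) (hsz t) S (hS t)).2 _ (by omega)).2 b c,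
          ((data_mem h2 (hL t') (hn t') (hsz t') S (hS t')).2 _ (by omega)).2 b c]
  refine ⟨Finite.of_injective Φ hΦ, (Nat.card_le_card_of_injective Φ hΦ).trans ?_⟩
  rw [Nat.card_sigma, ← Finset.sum_coe_sort (patterns M S)]
  refine Finset.sum_le_sum fun p _ => ?_
  rw [Nat.card_pi, ← Finset.prod_pow_eq_pow_sum]
  exact Finset.prod_le_prod' fun i _ => (card_pal_le _).2

end Cfsg.Lib.ClassNumberO
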