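import Cfsg.Agent.Known.ClassNumberSp.Cyclic
import Mathlib

/-! Cyclic blocks of an isometry of a symmetric form over a finite field of odd characteristic. -/

set_option autoImplicit false
set_option linter.style.haveILetI false

open Polynomial

namespace Cfsg.Lib.ClassNumberO

open ClassNumberSp (Isom star gen psi IsoOn mem_gen self_mem_gen gen_invariant aeval_mul_apply psi_mk range_psi
  aeval_star root_pow exists_pow_sq)

set_option maxHeartbeats 1000000

universe u v

variable {F : Type u} [Field F] {V : Type v} [AddCommGroup V] [Module F V]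
variable {B : LinearMap.BilinForm F V} {N : ℕ} {a a' : Module.End F V} {g : F[X]} {v v' : V}

/-- A nondegenerate cyclic block with annihilator `g`. -/
structure Cyc (B : LinearMap.BilinForm F V) (a : Module.End F V) (g : F[X]) (v : V) : Prop where
  monic : g.Monic
  rev : ∃ c : F, c ≠ 0 ∧ g.reverse = C c * g
  kills : aeval a g v = 0
  nondeg : ∀ f, (∀ h, B (aeval a (h * f) v) v = 0) → g ∣ f


theorem Cyc.dvd_of_kills (hc : Cyc B a g v) {f : F[X]} (h : aeval a f v = 0) : g ∣ f :=
  hc.nondeg f fun k => by rw [aeval_mul_apply, h, map_zero, map_zero, LinearMap.zero_apply]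

theorem Cyc.dvd_X_pow (hc : Cyc B a g v) (ha : Isom B N a) : g ∣ X ^ N - 1 :=
  hc.dvd_of_kills (by simp [ha.pow])

theorem Cyc.psi_injective (hc : Cyc B a g v) : Function.Injective (psi a hc.monic v) := by
  refine (injective_iff_map_eq_zero _).2 fun r hr => ?_
  obtain ⟨f, rfl⟩ := AdjoinRoot.mk_surjective r
  rw [psi_mk _ hc.kills] at hr
  exact AdjoinRoot.mk_eq_zero.2 (hc.dvd_of_kills hr)

theorem Cyc.finrank_gen (hc : Cyc B a g v) : Module.finrank F (gen a v) = g.natDegree := by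
  rw [← range_psi hc.monic hc.kills, LinearMap.finrank_range_of_inj hc.psi_injective]
  exact (PowerBasis.finrank (AdjoinRoot.powerBasis' hc.monic)).trans rfl

theorem Cyc.gen_nondeg (hc : Cyc B a g v) (ha : Isom B N a) {x : V} (hx : x ∈ gen a v)
    (h : ∀ y ∈ gen a v, B x y = 0) : x = 0 := by
  obtain ⟨f, rfl⟩ := mem_gen.1 hx
  obtain ⟨c, rfl⟩ : g ∣ f := hc.nondeg f fun k => by
    rw [aeval_mul_apply, ha.adjoint]
    exact h _ (mem_gen.2 ⟨star N k, rfl⟩)
  rw [mul_comm, aeval_mul_apply, hc.kills, map_zero]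

section Tau

theorem root_pow (hg : g ∣ X ^ N - 1) : (AdjoinRoot.root g) ^ N = 1 := by
  have h := AdjoinRoot.mk_eq_zero.2 hg
  rwa [map_sub, map_pow, map_one, AdjoinRoot.mk_X, sub_eq_zero] at h

theorem aeval_root_inv (hN : 1 ≤ N) (hg : g ∣ X ^ N - 1) (hrev : ∃ c : F, c ≠ 0 ∧ g.reverse = C c * g) :
    aeval (AdjoinRoot.root g ^ (N - 1)) g = 0 := by
  have h1 := ClassNumberSU.aeval_reverse (K := F) (AdjoinRoot.root g) (AdjoinRoot.root g ^ (N - 1))
    (by rw [← pow_succ, Nat.sub_add_cancel hN, root_pow hg]) (Commute.all _ _) g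
  obtain ⟨c, -, hrev⟩ := hrev
  rw [hrev, map_mul (aeval (AdjoinRoot.root g)), AdjoinRoot.aeval_eq g, AdjoinRoot.mk_self, mul_zero] at h1
  refine ((IsUnit.pow _ ?_).mul_left_eq_zero).1 h1
  exact IsUnit.of_mul_eq_one (AdjoinRoot.root g ^ (N - 1)) (by rw [← pow_succ', Nat.sub_add_cancel hN, root_pow hg])

/-- The involution of the quotient inverting the root. -/
noncomputable def tau (hN : 1 ≤ N) (hg : g ∣ X ^ N - 1) (hrev : ∃ c : F, c ≠ 0 ∧ g.reverse = C c * g) : AdjoinRoot g →+* AdjoinRoot g :=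
  AdjoinRoot.lift (AdjoinRoot.of g) (AdjoinRoot.root g ^ (N - 1)) (aeval_root_inv hN hg hrev)

variable {hN : 1 ≤ N} {hg : g ∣ X ^ N - 1} {hrev : ∃ c : F, c ≠ 0 ∧ g.reverse = C c * g}

theorem tau_mk (f : F[X]) : tau hN hg hrev (AdjoinRoot.mk g f) = AdjoinRoot.mk g (star N f) := by
  rw [← AdjoinRoot.aeval_eq (star N f), aeval_star]
  exact AdjoinRoot.lift_mk (aeval_root_inv hN hg hrev) f

theorem tau_of (c : F) : tau hN hg hrev (AdjoinRoot.of g c) = AdjoinRoot.of g c :=
  AdjoinRoot.lift_of _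

theorem tau_root : tau hN hg hrev (AdjoinRoot.root g) = AdjoinRoot.root g ^ (N - 1) :=
  AdjoinRoot.lift_root _

theorem tau_tau (r : AdjoinRoot g) : tau hN hg hrev (tau hN hg hrev r) = r := by
  have key : (tau hN hg hrev).comp (tau hN hg hrev) = RingHom.id _ := by
    refine Ideal.Quotient.ringHom_ext (Polynomial.ringHom_ext (fun y => ?_) ?_)
    · show tau hN hg hrev (tau hN hg hrev (AdjoinRoot.of g y)) = AdjoinRoot.of g y
      rw [tau_of, tau_of]
    · show tau hN hg hrev (tau hN hg hrev (AdjoinRoot.root g)) = AdjoinRoot.root g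
      have e1 : AdjoinRoot.root g * tau hN hg hrev (AdjoinRoot.root g) = 1 := by
        rw [tau_root, ← pow_succ', Nat.sub_add_cancel hN, root_pow hg]
      have e2 : tau hN hg hrev (AdjoinRoot.root g) * tau hN hg hrev (tau hN hg hrev (AdjoinRoot.root g)) = 1 := by
        rw [← map_mul, e1, map_one]
      exact (left_inv_eq_right_inv e1 e2).symm
  exact RingHom.congr_fun key r

end Tau

/-- Two cyclic blocks with the same functional are isometric. -/
theorem iso_of_eq (ha : Isom B N a) (ha' : Isom B N a') (hc : Cyc B a g v) (hc' : Cyc B a' g v') (hB : ∀ u w, B u w = B w u)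
    (h : ∀ f : F[X], B (aeval a' f v') v' = B (aeval a f v) v) : IsoOn B a a' (gen a v) (gen a' v') := by
  let E : AdjoinRoot g ≃ₗ[F] gen a v :=
    (LinearEquiv.ofInjective _ hc.psi_injective).trans (LinearEquiv.ofEq _ _ (range_psi hc.monic hc.kills))
  have hE : ∀ r, ((E r : gen a v) : V) = psi a hc.monic v r := fun r => rfl
  have hpair : ∀ (b : Module.End F V) (hb : Isom B N b) (w : V) (f k : F[X]),
      B (aeval b f w) (aeval b k w) = B (aeval b (star N k * f) w) w := by
    intro b hb w f k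
    rw [hB, hb.adjoint, hB, aeval_mul_apply]
  refine ⟨(psi a' hc'.monic v').comp (E.symm : gen a v →ₗ[F] AdjoinRoot g), ?_, ?_, ?_⟩
  · rw [LinearMap.range_comp, LinearEquiv.range, Submodule.map_top, range_psi _ hc'.kills]
  · intro x y
    obtain ⟨r, rfl⟩ := E.surjective x
    obtain ⟨s, rfl⟩ := E.surjective y
    obtain ⟨f, rfl⟩ := AdjoinRoot.mk_surjective r
    obtain ⟨k, rfl⟩ := AdjoinRoot.mk_surjective s
    simp only [LinearMap.comp_apply, LinearEquiv.coe_coe, LinearEquiv.symm_apply_apply]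
    rw [hE, hE, psi_mk _ hc.kills, psi_mk _ hc.kills, psi_mk _ hc'.kills, psi_mk _ hc'.kills, hpair a ha,
      hpair a' ha', h]
  · intro x hx
    obtain ⟨r, rfl⟩ := E.surjective x
    obtain ⟨f, rfl⟩ := AdjoinRoot.mk_surjective r
    have e : (⟨a (E (AdjoinRoot.mk g f) : gen a v), hx⟩ : gen a v) = E (AdjoinRoot.mk g (X * f)) := by
      apply Subtype.ext
      show a (E (AdjoinRoot.mk g f) : gen a v) = _
      rw [hE, hE, psi_mk _ hc.kills, psi_mk _ hc.kills, aeval_mul_apply, aeval_X]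
    rw [e]
    simp only [LinearMap.comp_apply, LinearEquiv.coe_coe, LinearEquiv.symm_apply_apply]
    rw [psi_mk _ hc'.kills, psi_mk _ hc'.kills, aeval_mul_apply, aeval_X]

variable [Finite F]

/-- The ratio of the functionals of two blocks. -/
theorem exists_ratio_elem (ha : Isom B N a) (ha' : Isom B N a') (hc : Cyc B a g v) (hc' : Cyc B a' g v')
    (hB : ∀ u w, B u w = B w u) : ∃ x : AdjoinRoot g, IsUnit x ∧ tau ha.pos (hc.dvd_X_pow ha) hc.rev x = x ∧
      ∀ r, B (psi a' hc'.monic v' r) v' = B (psi a hc.monic v (x * r)) v := by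
  classical
  haveI : Module.Finite F (AdjoinRoot g) := hc.monic.finite_adjoinRoot
  haveI : Finite (AdjoinRoot g) := Module.finite_of_finite F
  let φ : AdjoinRoot g →ₗ[F] F := (B.flip v).comp (psi a hc.monic v)
  let φ' : AdjoinRoot g →ₗ[F] F := (B.flip v').comp (psi a' hc'.monic v')
  have hφ : ∀ f, φ (AdjoinRoot.mk g f) = B (aeval a f v) v := fun f => by
    show B (psi a hc.monic v _) v = _
    rw [psi_mk _ hc.kills]
  have hφ' : ∀ f, φ' (AdjoinRoot.mk g f) = B (aeval a' f v') v' := fun f => by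
    show B (psi a' hc'.monic v' _) v' = _
    rw [psi_mk _ hc'.kills]
  have hnd : ∀ y, (∀ r, φ (y * r) = 0) → y = 0 := by
    intro y hy
    obtain ⟨f, rfl⟩ := AdjoinRoot.mk_surjective y
    refine AdjoinRoot.mk_eq_zero.2 (hc.nondeg f fun k => ?_)
    have := hy (AdjoinRoot.mk g k)
    rwa [← map_mul, mul_comm, hφ] at this
  have hnd' : ∀ y, (∀ r, φ' (y * r) = 0) → y = 0 := by
    intro y hy
    obtain ⟨f, rfl⟩ := AdjoinRoot.mk_surjective y
    refine AdjoinRoot.mk_eq_zero.2 (hc'.nondeg f fun k => ?_)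
    have := hy (AdjoinRoot.mk g k)
    rwa [← map_mul, mul_comm, hφ'] at this
  let M : AdjoinRoot g →ₗ[F] Module.Dual F (AdjoinRoot g) :=
    { toFun := fun x => φ.comp (LinearMap.mulLeft F x)
      map_add' := fun x y => LinearMap.ext fun r => by simp [add_mul]
      map_smul' := fun c x => LinearMap.ext fun r => by simp }
  have hM : Function.Injective M := (injective_iff_map_eq_zero M).2 fun y hy =>
    hnd y fun r => LinearMap.congr_fun hy r
  have hMs : Function.Surjective M :=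
    (LinearMap.injective_iff_surjective_of_finrank_eq_finrank (Subspace.dual_finrank_eq).symm).1 hM
  obtain ⟨x, hx⟩ := hMs φ'
  have hxr : ∀ r, φ' r = φ (x * r) := fun r => (LinearMap.congr_fun hx r).symm
  have hinj : Function.Injective fun y : AdjoinRoot g => x * y := by
    intro y z hyz
    rw [← sub_eq_zero]
    refine hnd' _ fun r => ?_
    rw [hxr, ← mul_assoc, mul_sub, show x * y = x * z from hyz, sub_self, zero_mul, map_zero]
  obtain ⟨y, hy⟩ := Finite.surjective_of_injective hinj 1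
  refine ⟨x, IsUnit.of_mul_eq_one y hy, ?_, hxr⟩
  set τ := tau ha.pos (hc.dvd_X_pow ha) hc.rev with hτ
  have hanti : ∀ r, φ (τ r) = φ r := by
    intro r
    obtain ⟨f, rfl⟩ := AdjoinRoot.mk_surjective r
    rw [hτ, tau_mk, hφ, hφ, hB, ← ha.adjoint]
  have hanti' : ∀ r, φ' (τ r) = φ' r := by
    intro r
    obtain ⟨f, rfl⟩ := AdjoinRoot.mk_surjective r
    rw [hτ, tau_mk, hφ', hφ', hB, ← ha'.adjoint]
  have hττ : ∀ r, τ (τ r) = r := tau_tau
  refine sub_eq_zero.1 (hnd _ fun r => ?_)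
  rw [sub_mul, map_sub, ← hxr]
  have h1 := hanti (x * τ r)
  rw [map_mul, hττ, ← hxr, hanti'] at h1
  rw [h1, sub_self]

/-- Twisting the generator by an element whose norm is the ratio. -/
theorem iso_of_norm (ha : Isom B N a) (ha' : Isom B N a') (hc : Cyc B a g v) (hc' : Cyc B a' g v')
    (hB : ∀ u w, B u w = B w u) (x w : AdjoinRoot g) (hxu : IsUnit x)
    (hx : ∀ r, B (psi a' hc'.monic v' r) v' = B (psi a hc.monic v (x * r)) v)
    (hw : w * tau ha.pos (hc.dvd_X_pow ha) hc.rev w = x) : IsoOn B a a' (gen a v) (gen a' v') := by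
  obtain ⟨wp, rfl⟩ := AdjoinRoot.mk_surjective w
  rw [tau_mk, ← map_mul] at hw
  set v1 := aeval (R := F) a wp v with hv1
  have hφ1 : ∀ f : F[X], B (aeval a f v1) v1 = B (aeval a' f v') v' := by
    intro f
    have h := hx (AdjoinRoot.mk g f)
    rw [psi_mk _ hc'.kills, ← hw, ← map_mul, psi_mk _ hc.kills] at h
    rw [h, hv1, hB, ha.adjoint, hB, ← aeval_mul_apply, ← aeval_mul_apply]
    congr 3
    ring
  have hc1 : Cyc B a g v1 := by
    refine ⟨hc.monic, hc.rev, ?_, fun f hf => hc'.nondeg f fun h => by rw [← hφ1]; exact hf h⟩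
    rw [hv1, ← aeval_mul_apply, mul_comm, aeval_mul_apply, hc.kills, map_zero]
  have hgen : gen a v1 = gen a v := by
    refine le_antisymm ?_ ?_
    · intro y hy
      obtain ⟨f, rfl⟩ := mem_gen.1 hy
      exact gen_invariant f (gen_invariant wp (self_mem_gen a v))
    · intro y hy
      obtain ⟨f, rfl⟩ := mem_gen.1 hy
      obtain ⟨u, hu⟩ := hxu.exists_right_inv
      obtain ⟨up, rfl⟩ := AdjoinRoot.mk_surjective u
      rw [← hw, ← map_mul, ← map_one (AdjoinRoot.mk g)] at hu
      refine mem_gen.2 ⟨f * (star N wp * up), ?_⟩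
      rw [hv1, ← aeval_mul_apply, ← psi_mk hc.monic hc.kills, ← psi_mk hc.monic hc.kills]
      congr 1
      rw [show f * (star N wp * up) * wp = f * (wp * star N wp * up) by ring, map_mul, hu, map_one, mul_one]
  rw [← hgen]
  exact iso_of_eq ha ha' hc1 hc' hB fun f => (hφ1 f).symm

/-- Blocks without eigenvalues `1`, `-1` are determined by the annihilator. -/
theorem iso_of_coprime (ha : Isom B N a) (ha' : Isom B N a') (hc : Cyc B a g v) (hc' : Cyc B a' g v')
    (hB : ∀ u w, B u w = B w u) (hcop : IsCoprime g (X ^ 2 - 1)) : IsoOn B a a' (gen a v) (gen a' v') := by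
  obtain ⟨x, hxu, hxτ, hx⟩ := exists_ratio_elem ha ha' hc hc' hB
  haveI : Module.Finite F (AdjoinRoot g) := hc.monic.finite_adjoinRoot
  haveI : Finite (AdjoinRoot g) := Module.finite_of_finite F
  set τ := tau ha.pos (hc.dvd_X_pow ha) hc.rev with hτ
  obtain ⟨s, t, hst⟩ := hcop
  have h1 : IsUnit (AdjoinRoot.root g ^ 2 - 1) := by
    refine IsUnit.of_mul_eq_one (AdjoinRoot.mk g t) ?_
    have := congrArg (AdjoinRoot.mk g) hst
    rw [map_add, map_mul, map_mul, AdjoinRoot.mk_self, mul_zero, zero_add, map_sub, map_pow, AdjoinRoot.mk_X,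
      map_one] at this
    rw [mul_comm]; exact this
  have h2 : IsUnit (AdjoinRoot.root g - τ (AdjoinRoot.root g)) := by
    have e : (AdjoinRoot.root g - τ (AdjoinRoot.root g)) * AdjoinRoot.root g = AdjoinRoot.root g ^ 2 - 1 := by
      rw [sub_mul, hτ, tau_root, ← pow_succ, Nat.sub_add_cancel ha.pos, root_pow (hc.dvd_X_pow ha), sq]
    exact isUnit_of_mul_isUnit_left (e ▸ h1)
  obtain ⟨w, hw⟩ := NormEngine.exists_norm τ tau_tau _ h2 x hxτ hxu
  exact iso_of_norm ha ha' hc hc' hB x w hxu hx hw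

/-- Unipotent blocks are determined by the annihilator and one square class. -/
theorem iso_of_unipotent (ha : Isom B N a) (ha' : Isom B N a') (h2 : (2 : F) ≠ 0) {ε : F} {e : ℕ} (he : 1 ≤ e)
    (hc : Cyc B a ((X - C ε) ^ e) v) (hc' : Cyc B a' ((X - C ε) ^ e) v') (hB : ∀ u w, B u w = B w u)
    (hsq : IsSquare (B (aeval a ((X - C ε) ^ (e - 1)) v) v) ↔ IsSquare (B (aeval a' ((X - C ε) ^ (e - 1)) v') v')) :
    IsoOn B a a' (gen a v) (gen a' v') := by
  classical
  obtain ⟨x, hxu, hxτ, hx⟩ := exists_ratio_elem ha ha' hc hc' hB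
  haveI := Fintype.ofFinite F
  obtain ⟨f, rfl⟩ := AdjoinRoot.mk_surjective x
  set L : F[X] := X - C ε with hL
  have hdiv : ∀ f : F[X], L ∣ f - C (f.eval ε) := fun f => dvd_iff_isRoot.2 (by simp)
  have ht : ∀ (b : Module.End F V) (u : V), aeval b (L ^ e) u = 0 → ∀ f : F[X],
      aeval b (f * L ^ (e - 1)) u = f.eval ε • aeval b (L ^ (e - 1)) u := by
    intro b u hu f
    obtain ⟨d, hd⟩ := hdiv f
    have e1 : f * L ^ (e - 1) = d * L ^ e + C (f.eval ε) * L ^ (e - 1) := by
      rw [show L ^ e = L ^ (e - 1) * L by rw [← pow_succ, Nat.sub_add_cancel he]]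
      linear_combination L ^ (e - 1) * hd
    rw [e1, map_add, LinearMap.add_apply, aeval_mul_apply, hu, map_zero, zero_add, aeval_mul_apply, aeval_C,
      Module.algebraMap_end_apply]
  set t := B (aeval a (L ^ (e - 1)) v) v with htdef
  set t' := B (aeval a' (L ^ (e - 1)) v') v' with htdef'
  have hnz : ∀ (b : Module.End F V) (u : V), Cyc B b (L ^ e) u → B (aeval b (L ^ (e - 1)) u) u ≠ 0 := by
    intro b u hcu h0
    have hd := hcu.nondeg (L ^ (e - 1)) fun h => by
      rw [ht b u hcu.kills, map_smul, LinearMap.smul_apply, h0, smul_zero]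
    have := (pow_dvd_pow_iff (X_sub_C_ne_zero ε) (not_isUnit_X_sub_C ε)).1 hd
    omega
  have htc : t' = f.eval ε * t := by
    have h := hx (AdjoinRoot.mk _ (L ^ (e - 1)))
    rw [psi_mk _ hc'.kills, ← map_mul, psi_mk _ hc.kills, ht a v hc.kills, map_smul, LinearMap.smul_apply,
      smul_eq_mul] at h
    exact h
  have hc0 : f.eval ε ≠ 0 := fun h0 => hnz a' v' hc' (by rw [← htdef', htc, h0, zero_mul])
  obtain ⟨s, hs⟩ : IsSquare (f.eval ε) := by
    have hchar : ringChar F ≠ 2 := fun h => h2 (by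
      haveI := ringChar.charP F
      have := CharP.cast_eq_zero F (ringChar F)
      rw [h] at this
      exact_mod_cast this)
    have ht0 : t ≠ 0 := hnz a v hc
    have ht0' : t' ≠ 0 := hnz a' v' hc'
    have key : quadraticChar F t = quadraticChar F t' := by
      rcases quadraticChar_dichotomy ht0 with h | h <;> rcases quadraticChar_dichotomy ht0' with h' | h' <;>
        rw [h, h']
      · exact absurd (hsq.1 ((quadraticChar_one_iff_isSquare ht0).1 h)) (quadraticChar_neg_one_iff_not_isSquare.1 h')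
      · exact absurd (hsq.2 ((quadraticChar_one_iff_isSquare ht0').1 h')) (quadraticChar_neg_one_iff_not_isSquare.1 h)
    rw [htc, map_mul] at key
    refine (quadraticChar_one_iff_isSquare hc0).1 ?_
    exact (mul_eq_right₀ (by rw [Ne, quadraticChar_eq_zero_iff]; exact ht0)).1 key.symm
  have hs0 : s ≠ 0 := fun h => hc0 (by rw [hs, h, mul_zero])
  set y := AdjoinRoot.of (L ^ e) (f.eval ε)⁻¹ * AdjoinRoot.mk (L ^ e) f with hy
  have hnil : (y - 1) ^ e = 0 := by
    rw [hy, ← AdjoinRoot.mk_C, ← map_mul, ← map_one (AdjoinRoot.mk (L ^ e)), ← map_sub, ← map_pow,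
      AdjoinRoot.mk_eq_zero]
    refine pow_dvd_pow_of_dvd (dvd_iff_isRoot.2 ?_) e
    simp [hc0]
  obtain ⟨m, hm⟩ := exists_pow_sq h2 y e hnil
  refine iso_of_norm ha ha' hc hc' hB _ (AdjoinRoot.of (L ^ e) s * y ^ m) hxu hx ?_
  rw [map_mul, tau_of, map_pow, hy, map_mul (tau _ _ _), tau_of, hxτ, ← hy, mul_mul_mul_comm, ← map_mul, ← hs, ← sq, hm,
    hy, ← mul_assoc, ← map_mul, mul_inv_cancel₀ hc0, map_one, one_mul]

end Cfsg.Lib.ClassNumberO
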