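import Cfsg.Agent.Known.ClassNumberO.Pair
import Cfsg.Agent.Known.ClassNumberSp.Decomp
import Mathlib

/-! Orthogonal decompositions of isometries of symmetric forms into blocks. -/

set_option autoImplicit false
set_option linter.style.haveILetI false
set_option maxHeartbeats 1000000

open Polynomial

namespace Cfsg.Lib.ClassNumberO

open ClassNumberSp (Isom star gen psi IsoOn mem_gen self_mem_gen gen_invariant aeval_mul_apply aeval_star root_pow
  top_smul pairGen mem_pairGen sgn sgn_sq Key symPoly GoodQ gen_le Piece Normal reverse_eq_dual dual_id_eq dual_linear_pow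
  reverse_linear_pow pow_pred_pred not_dvd_star dual_pow' dvd_of_prime_mul)

universe u v

variable {F : Type u} [Field F] {V : Type v} [AddCommGroup V] [Module F V]

/-- The meaning of a label. -/
def IsBlock (B : LinearMap.BilinForm F V) (a : Module.End F V) : Key F → Submodule F V → Prop
  | .cyc Q e, U => GoodQ Q ∧ 1 ≤ e ∧ ∃ v, Cyc B a (Q ^ e) v ∧ U = gen a v
  | .one ε e s, U => 1 ≤ e ∧ Odd e ∧ ∃ v, Cyc B a ((X - C (sgn F ε)) ^ e) v ∧
      (IsSquare (B (aeval a ((X - C (sgn F ε)) ^ (e - 1)) v) v) ↔ s = true) ∧ U = gen a v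
  | .pair ε e, U => ∃ v w, Pair B a (sgn F ε) e v w ∧ U = pairGen a v w

variable {B : LinearMap.BilinForm F V} {N : ℕ} {a a' : Module.End F V}

theorem IsBlock.invariant {k : Key F} {U : Submodule F V} (h : IsBlock B a k U) (f : F[X]) {x : V} (hx : x ∈ U) :
    aeval a f x ∈ U := by
  rcases k with ⟨Q, e⟩ | ⟨ε, e, s⟩ | ⟨ε, e⟩
  · obtain ⟨-, -, v, -, rfl⟩ := h; exact gen_invariant f hx
  · obtain ⟨-, -, v, -, -, rfl⟩ := h; exact gen_invariant f hx
  · obtain ⟨v, w, -, rfl⟩ := h
    obtain ⟨p, q, rfl⟩ := mem_pairGen.1 hx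
    rw [map_add, ← aeval_mul_apply, ← aeval_mul_apply]
    exact mem_pairGen.2 ⟨_, _, rfl⟩

theorem IsBlock.nondeg (ha : Isom B N a) (hB : ∀ u w, B u w = B w u) (h2 : (2 : F) ≠ 0) {k : Key F} {U : Submodule F V}
    (h : IsBlock B a k U) {x : V} (hx : x ∈ U) (ho : ∀ y ∈ U, B x y = 0) : x = 0 := by
  rcases k with ⟨Q, e⟩ | ⟨ε, e, s⟩ | ⟨ε, e⟩
  · obtain ⟨-, -, v, hc, rfl⟩ := h; exact hc.gen_nondeg ha hx ho
  · obtain ⟨-, -, v, hc, -, rfl⟩ := h; exact hc.gen_nondeg ha hx ho
  · obtain ⟨v, w, hp, rfl⟩ := h; exact hp.gen_nondeg ha hB h2 hx ho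

theorem IsBlock.finrank [Finite F] (ha : Isom B N a) (hB : ∀ u w, B u w = B w u) (h2 : (2 : F) ≠ 0) {k : Key F}
    {U : Submodule F V} (h : IsBlock B a k U) : Module.finrank F U = k.size := by
  rcases k with ⟨Q, e⟩ | ⟨ε, e, s⟩ | ⟨ε, e⟩
  · obtain ⟨-, -, v, hc, rfl⟩ := h
    rw [hc.finrank_gen, natDegree_pow, mul_comm]; rfl
  · obtain ⟨-, -, v, hc, -, rfl⟩ := h
    rw [hc.finrank_gen, natDegree_pow, natDegree_X_sub_C, mul_one]; rfl
  · obtain ⟨v, w, hp, rfl⟩ := h
    exact hp.finrank_gen ha hB h2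

theorem iso_of_isBlock [Finite F] (ha : Isom B N a) (ha' : Isom B N a') (hB : ∀ u w, B u w = B w u) (h2 : (2 : F) ≠ 0)
    {k : Key F} {U U' : Submodule F V} (h : IsBlock B a k U) (h' : IsBlock B a' k U') : IsoOn B a a' U U' := by
  rcases k with ⟨Q, e⟩ | ⟨ε, e, s⟩ | ⟨ε, e⟩
  · obtain ⟨hQ, he, v, hc, rfl⟩ := h
    obtain ⟨-, -, v', hc', rfl⟩ := h'
    exact iso_of_coprime ha ha' hc hc' hB ((hQ.props h2).2.2.1.pow_left)
  · obtain ⟨he, -, v, hc, hs, rfl⟩ := h
    obtain ⟨-, -, v', hc', hs', rfl⟩ := h'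
    exact iso_of_unipotent ha ha' h2 he hc hc' hB (hs.trans hs'.symm)
  · obtain ⟨v, w, hp, rfl⟩ := h
    obtain ⟨v', w', hp', rfl⟩ := h'
    exact iso_of_pair ha ha' hB h2 hp hp'

/-- Orthogonal decompositions into labelled blocks. -/
inductive Dec (B : LinearMap.BilinForm F V) (a : Module.End F V) : List (Key F) → Submodule F V → Prop
  | nil : Dec B a [] ⊥
  | cons {k : Key F} {L : List (Key F)} {U W : Submodule F V} : IsBlock B a k U → Dec B a L W →
      (∀ x ∈ U, ∀ y ∈ W, B x y = 0) → Dec B a (k :: L) (U ⊔ W)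

theorem Dec.invariant {L : List (Key F)} {W : Submodule F V} (h : Dec B a L W) (f : F[X]) :
    ∀ x ∈ W, aeval a f x ∈ W := by
  induction h with
  | nil => intro x hx; rw [Submodule.mem_bot] at hx; simp [hx]
  | cons hk _ _ ih =>
    intro x hx
    obtain ⟨y, hy, z, hz, rfl⟩ := Submodule.mem_sup.1 hx
    rw [map_add]
    exact Submodule.add_mem_sup (hk.invariant f hy) (ih z hz)

theorem Dec.exists_mem {L : List (Key F)} {W : Submodule F V} (h : Dec B a L W) {k : Key F} (hk : k ∈ L) :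
    ∃ U ≤ W, IsBlock B a k U := by
  induction h with
  | nil => simp at hk
  | cons hk' _ _ ih =>
    rcases List.mem_cons.1 hk with rfl | hk
    · exact ⟨_, le_sup_left, hk'⟩
    · obtain ⟨U, hU, hUb⟩ := ih hk
      exact ⟨U, hU.trans le_sup_right, hUb⟩

theorem Dec.perm {L L' : List (Key F)} (hp : L.Perm L') (hB : ∀ u w, B u w = B w u) :
    ∀ {W : Submodule F V}, Dec B a L W → Dec B a L' W := by
  induction hp with
  | nil => exact fun h => h
  | cons x _ ih => exact fun h => by cases h with | cons hk hd ho => exact Dec.cons hk (ih hd) ho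
  | swap x y l =>
    intro W h
    cases h with
    | cons hy hd ho =>
      cases hd with
      | cons hx hl ho' =>
        rw [sup_left_comm]
        refine Dec.cons hx (Dec.cons hy hl fun p hp q hq => ho p hp q (Submodule.mem_sup_right hq)) fun p hp q hq => ?_
        obtain ⟨r, hr, s, hs, rfl⟩ := Submodule.mem_sup.1 hq
        rw [map_add, ho' p hp s hs, add_zero, hB, ho r hr p (Submodule.mem_sup_left hp)]
  | trans _ _ ih1 ih2 => exact fun h => ih2 (ih1 h)

theorem disjoint_of_orth (ha : Isom B N a) (hB : ∀ u w, B u w = B w u) (h2 : (2 : F) ≠ 0) {k : Key F} {U W : Submodule F V}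
    (h : IsBlock B a k U) (ho : ∀ x ∈ U, ∀ y ∈ W, B x y = 0) : Disjoint U W := by
  rw [Submodule.disjoint_def]
  intro x hx hx'
  refine h.nondeg ha hB h2 hx fun y hy => ?_
  rw [hB, ho y hy x hx']

theorem Dec.finrank [Finite F] [FiniteDimensional F V] (ha : Isom B N a) (hB : ∀ u w, B u w = B w u) (h2 : (2 : F) ≠ 0)
    {L : List (Key F)} {W : Submodule F V} (h : Dec B a L W) :
    Module.finrank F W = (L.map Key.size).sum := by
  induction h with
  | nil => simp
  | @cons k L U W hk _ ho ih =>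
    rw [List.map_cons, List.sum_cons, ← ih, ← hk.finrank ha hB h2, ← Submodule.finrank_sup_add_finrank_inf_eq,
      (disjoint_of_orth ha hB h2 hk ho).eq_bot, finrank_bot, add_zero]

theorem iso_sup (hB : ∀ u w, B u w = B w u) {U W U' W' : Submodule F V}
    (hUi : ∀ x ∈ U, a x ∈ U) (hWi : ∀ x ∈ W, a x ∈ W) (hd : Disjoint U W)
    (ho : ∀ x ∈ U, ∀ y ∈ W, B x y = 0) (ho' : ∀ x ∈ U', ∀ y ∈ W', B x y = 0)
    (h1 : IsoOn B a a' U U') (h2 : IsoOn B a a' W W') : IsoOn B a a' (U ⊔ W) (U' ⊔ W') := by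
  obtain ⟨f, hf, hfB, hfa⟩ := h1
  obtain ⟨g, hg, hgB, hga⟩ := h2
  let j : (U × W) →ₗ[F] (U ⊔ W : Submodule F V) :=
    ((U.subtype.coprod W.subtype).codRestrict (U ⊔ W) fun p => Submodule.add_mem_sup p.1.2 p.2.2)
  have hjv : ∀ p, ((j p : (U ⊔ W : Submodule F V)) : V) = (p.1 : V) + (p.2 : V) := fun p => rfl
  have hj : Function.Bijective j := by
    refine ⟨(injective_iff_map_eq_zero j).2 fun p hp => ?_, fun x => ?_⟩
    · have e : (p.1 : V) + (p.2 : V) = 0 := (hjv p).symm.trans (congrArg Subtype.val hp)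
      have h1 : (p.1 : V) = 0 := Submodule.disjoint_def.1 hd _ p.1.2 (by
        rw [eq_neg_of_add_eq_zero_left e]; exact W.neg_mem p.2.2)
      rw [h1, zero_add] at e
      exact Prod.ext (Subtype.ext h1) (Subtype.ext e)
    · obtain ⟨y, hy, z, hz, e⟩ := Submodule.mem_sup.1 x.2
      exact ⟨(⟨y, hy⟩, ⟨z, hz⟩), Subtype.ext e⟩
  let J := LinearEquiv.ofBijective j hj
  refine ⟨(f.coprod g).comp (J.symm : (U ⊔ W : Submodule F V) →ₗ[F] U × W), ?_, ?_, ?_⟩
  · rw [LinearMap.range_comp, LinearEquiv.range, Submodule.map_top, LinearMap.range_coprod, hf, hg]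
  · intro x y
    obtain ⟨p, rfl⟩ := J.surjective x
    obtain ⟨r, rfl⟩ := J.surjective y
    simp only [LinearMap.comp_apply, LinearEquiv.coe_coe, LinearEquiv.symm_apply_apply, LinearMap.coprod_apply]
    show B (f p.1 + g p.2) (f r.1 + g r.2) = B ((p.1 : V) + (p.2 : V)) ((r.1 : V) + (r.2 : V))
    have hfr : ∀ u, f u ∈ U' := fun u => hf ▸ LinearMap.mem_range_self f u
    have hgr : ∀ u, g u ∈ W' := fun u => hg ▸ LinearMap.mem_range_self g u
    simp only [map_add, LinearMap.add_apply, hfB, hgB, ho _ p.1.2 _ r.2.2, ho' _ (hfr p.1) _ (hgr r.2)]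
    rw [hB (g p.2) (f r.1), ho' _ (hfr r.1) _ (hgr p.2), hB (p.2 : V) (r.1 : V), ho _ r.1.2 _ p.2.2]
  · intro x hx
    obtain ⟨p, rfl⟩ := J.surjective x
    have e : (⟨a (J p : (U ⊔ W : Submodule F V)), hx⟩ : (U ⊔ W : Submodule F V)) =
        J (⟨a p.1, hUi _ p.1.2⟩, ⟨a p.2, hWi _ p.2.2⟩) :=
      Subtype.ext (show a ((p.1 : V) + (p.2 : V)) = a p.1 + a p.2 from map_add a _ _)
    rw [e]
    simp only [LinearMap.comp_apply, LinearEquiv.coe_coe, LinearEquiv.symm_apply_apply, LinearMap.coprod_apply]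
    rw [hfa, hga, map_add]

theorem iso_of_dec [Finite F] (ha : Isom B N a) (ha' : Isom B N a') (hB : ∀ u w, B u w = B w u) (h2 : (2 : F) ≠ 0) :
    ∀ {L : List (Key F)} {W W' : Submodule F V}, Dec B a L W → Dec B a' L W' → IsoOn B a a' W W' := by
  intro L
  induction L with
  | nil =>
    intro W W' h h'
    cases h; cases h'
    refine ⟨0, LinearMap.range_zero, fun x y => ?_, fun x hx => by simp⟩
    have : (x : V) = 0 := (Submodule.mem_bot F).1 x.2
    simp [this]
  | cons k L ih =>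
    intro W W' h h'
    cases h with
    | cons hk hd ho =>
      cases h' with
      | cons hk' hd' ho' =>
        refine iso_sup hB (fun x hx => ?_) (fun x hx => ?_) (disjoint_of_orth ha hB h2 hk ho) ho ho'
          (iso_of_isBlock ha ha' hB h2 hk hk') (ih hd hd')
        · simpa using hk.invariant X hx
        · simpa using hd.invariant X x hx

theorem rev_linear (b : Bool) (k : ℕ) :
    ∃ c : F, c ≠ 0 ∧ ((X - C (sgn F b)) ^ k).reverse = C c * (X - C (sgn F b)) ^ k :=
  ⟨_, pow_ne_zero _ (neg_ne_zero.2 (left_ne_zero_of_mul_eq_one (sgn_sq b))), reverse_linear_pow b k⟩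

theorem cyc_of_top {ε : F} {e : ℕ} (he : 1 ≤ e) {v : V} (hrev : ∃ c : F, c ≠ 0 ∧ ((X - C ε) ^ e).reverse = C c * (X - C ε) ^ e)
    (hk : aeval a ((X - C ε) ^ e) v = 0) (ht : B (aeval a ((X - C ε) ^ (e - 1)) v) v ≠ 0) :
    Cyc B a ((X - C ε) ^ e) v := by
  refine ⟨(monic_X_sub_C ε).pow e, hrev, hk, fun f hf => ?_⟩
  suffices h : ∀ j ≤ e, (X - C ε) ^ j ∣ f from h e le_rfl
  intro j
  induction j with
  | zero => simp
  | succ j ih =>
    intro hj
    obtain ⟨f', hf'⟩ := ih (by omega)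
    have h1 := hf ((X - C ε) ^ (e - 1 - j))
    rw [hf', ← mul_assoc, ← pow_add, show e - 1 - j + j = e - 1 by omega, mul_comm, top_smul he hk, map_smul,
      LinearMap.smul_apply, smul_eq_mul] at h1
    rw [hf', pow_succ]
    exact mul_dvd_mul_left _ (dvd_iff_isRoot.2 ((mul_eq_zero.1 h1).resolve_right ht))

theorem exists_self_ne (ha : Isom B N a) (hB : ∀ u w, B u w = B w u) {W : Submodule F V} (hW : Piece B a W) {h : F[X]}
    (hh : ∃ u ∈ W, aeval a (h + ClassNumberSp.star N h) u ≠ 0) : ∃ u ∈ W, B (aeval a h u) u ≠ 0 := by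
  by_contra hcon
  push Not at hcon
  obtain ⟨u, hu, w, hw, hne⟩ := hW.exists_apply_ne hh
  apply hne
  have h1 := hcon (u + w) (W.add_mem hu hw)
  rw [map_add, map_add, map_add, LinearMap.add_apply, LinearMap.add_apply, hcon u hu, hcon w hw, zero_add,
    add_zero, ha.adjoint h w u, hB w] at h1
  rw [map_add, LinearMap.add_apply, map_add, LinearMap.add_apply]
  linear_combination h1

variable [FiniteDimensional F V]

/-- The minimal polynomial on a piece. -/
theorem exists_minpoly (ha : Isom B N a) (hB : ∀ u w, B u w = B w u) {W : Submodule F V} (hW : Piece B a W) (hne : W ≠ ⊥) :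
    ∃ μ : F[X], μ.Monic ∧ 0 < μ.natDegree ∧ μ ∣ X ^ N - 1 ∧ DualPoly.dual (RingHom.id F) μ = μ ∧ μ.coeff 0 ≠ 0 ∧
      ∀ f : F[X], (∀ x ∈ W, aeval a f x = 0) ↔ μ ∣ f := by
  haveI : Nontrivial W := Submodule.nontrivial_iff_ne_bot.2 hne
  have hmap : ∀ x ∈ W, a x ∈ W := fun x hx => by simpa using hW.invariant X x hx
  set aW : Module.End F W := a.restrict hmap with haW
  have hres : ∀ (f : F[X]) (x : W), ((aeval aW f x : W) : V) = aeval a f x := by
    intro f
    induction f using Polynomial.induction_on' with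
    | add s t hs ht => intro x; simp [hs, ht]
    | monomial k c =>
      intro x
      simp only [aeval_monomial, Module.End.mul_apply, Module.algebraMap_end_apply, Submodule.coe_smul]
      congr 1
      induction k generalizing x with
      | zero => simp
      | succ k ih => rw [pow_succ, pow_succ, Module.End.mul_apply, Module.End.mul_apply, ih]; rfl
  have hiff : ∀ f : F[X], (∀ x ∈ W, aeval a f x = 0) ↔ minpoly F aW ∣ f := fun f => by
    rw [minpoly.dvd_iff, LinearMap.ext_iff]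
    refine ⟨fun h x => Subtype.ext ((hres f x).trans (h x x.2)), fun h x hx => ?_⟩
    rw [← hres f ⟨x, hx⟩, h]; rfl
  have hm : (minpoly F aW).Monic := minpoly.monic (Algebra.IsIntegral.isIntegral aW)
  have hdvd : minpoly F aW ∣ X ^ N - 1 := (hiff _).1 fun x _ => by simp [ha.pow]
  have h0 : (minpoly F aW).coeff 0 ≠ 0 := by
    intro h0
    obtain ⟨c, hc⟩ := hdvd
    have := congrArg (fun p : F[X] => p.coeff 0) hc
    simp only [mul_coeff_zero, h0, zero_mul, coeff_sub, coeff_X_pow, coeff_one_zero] at this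
    rw [if_neg (by have := ha.pos; omega)] at this
    norm_num at this
  refine ⟨_, hm, minpoly.natDegree_pos (Algebra.IsIntegral.isIntegral aW), hdvd, ?_, h0, hiff⟩
  have hrev : ∀ x ∈ W, aeval a (minpoly F aW).reverse x = 0 := by
    intro x hx
    have h := ClassNumberSU.aeval_reverse (K := F) a (a ^ (N - 1))
      (by rw [← pow_succ, Nat.sub_add_cancel ha.pos, ha.pow]) (Commute.self_pow a _) (minpoly F aW)
    rw [← h, Module.End.mul_apply, ← aeval_star]
    refine hW.nondeg _ (hW.invariant _ _ (by simpa using hW.invariant (X ^ (minpoly F aW).natDegree) x hx)) fun y hy => ?_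
    rw [hB, ← ha.adjoint, ((hiff _).2 dvd_rfl) y hy, map_zero, LinearMap.zero_apply]
  have hd : minpoly F aW ∣ DualPoly.dual (RingHom.id F) (minpoly F aW) := by
    rw [dual_id_eq]
    exact ((hiff _).1 hrev).mul_left _
  refine (eq_of_monic_of_dvd_of_natDegree_le hm (DualPoly.dual_monic h0) hd ?_)
  rw [DualPoly.dual_natDegree h0]

/-- A block away from the eigenvalues `1`, `-1`. -/
theorem exists_cyc_block (ha : Isom B N a) (hB : ∀ u w, B u w = B w u) (h2 : (2 : F) ≠ 0) {W : Submodule F V} (hW : Piece B a W)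
    {μ : F[X]} (hm : μ.Monic) (hμN : μ ∣ X ^ N - 1) (hμd : DualPoly.dual (RingHom.id F) μ = μ)
    (hμ0 : μ.coeff 0 ≠ 0) (hμ : ∀ f : F[X], (∀ x ∈ W, aeval a f x = 0) ↔ μ ∣ f) {P : F[X]} (hPm : P.Monic)
    (hP : Irreducible P) (hPμ : P ∣ μ) (hPX : ¬ P ∣ X ^ 2 - 1) :
    ∃ k : Key F, ∃ U ≤ W, IsBlock B a k U ∧ ∀ ε e, k ≠ Key.one ε e false := by
  classical
  have hfin := FiniteMultiplicity.of_prime_left hP.prime hm.ne_zero
  set e := multiplicity P μ with he
  have hpe : P ^ e ∣ μ := pow_multiplicity_dvd P μ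
  have hpe' : ¬ P ^ (e + 1) ∣ μ := hfin.not_pow_dvd_of_multiplicity_lt (Nat.lt_succ_self _)
  have he1 : 1 ≤ e := by
    by_contra h0
    rw [not_le, Nat.lt_one_iff] at h0
    rw [h0, zero_add, pow_one] at hpe'
    exact hpe' hPμ
  have hP0 : P.coeff 0 ≠ 0 := fun h => hμ0 (by
    obtain ⟨c, hc⟩ := hPμ
    rw [hc, mul_coeff_zero, h, zero_mul])
  set D := DualPoly.dual (RingHom.id F) P with hD
  have hDe : D ^ e ∣ μ := by
    obtain ⟨c, hc⟩ := hpe
    rw [← hμd, hc, DualPoly.dual_mul, dual_pow']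
    exact dvd_mul_right _ _
  set Q := symPoly P with hQ
  have hgood : GoodQ Q := ⟨P, hPm, hP, hP0, hPX, rfl⟩
  obtain ⟨hQm, hQrev, hQcop, -, -⟩ := hgood.props h2
  have hQd : Q = P ∨ (Q = P * D ∧ D ≠ P) := by
    rw [hQ, symPoly]; split_ifs with h
    · exact Or.inl rfl
    · exact Or.inr ⟨rfl, h⟩
  have hDi : Irreducible D := DualPoly.dual_irreducible (fun _ => rfl) hPm hP hP0
  have hDm : D.Monic := DualPoly.dual_monic hP0
  have hQμ : Q ^ e ∣ μ := by
    rcases hQd with h | ⟨h, hne⟩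
    · rw [h]; exact hpe
    · rw [h, mul_pow]
      refine IsCoprime.mul_dvd ?_ hpe hDe
      refine (hP.coprime_iff_not_dvd.2 fun hd => hne ?_).pow
      exact (eq_of_monic_of_associated hPm hDm (hP.associated_of_dvd hDi hd)).symm
  obtain ⟨c, hc⟩ := hQμ
  have hQ0 : Q.coeff 0 = 1 := by
    have : Q.reverse.coeff 0 = Q.leadingCoeff := coeff_zero_reverse Q
    rw [hQrev, hQm] at this
    exact this
  have hQe0 : (Q ^ e).coeff 0 = 1 := by
    rw [coeff_zero_eq_eval_zero, eval_pow, ← coeff_zero_eq_eval_zero, hQ0, one_pow]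
  have hQerev : (Q ^ e).reverse = Q ^ e := by
    clear hc hQe0
    induction e with
    | zero => simp [Polynomial.reverse]
    | succ j ih => rw [pow_succ, reverse_mul_of_domain, ih, hQrev]
  have hQedual : DualPoly.dual (RingHom.id F) (Q ^ e) = Q ^ e := by
    rw [dual_id_eq, hQe0, hQerev, inv_one, C_1, one_mul]
  have hc0 : c.coeff 0 ≠ 0 := fun h => hμ0 (by rw [hc, mul_coeff_zero, h, mul_zero])
  have hcd : DualPoly.dual (RingHom.id F) c = c := by
    have := hμd
    rw [hc, DualPoly.dual_mul, hQedual] at this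
    exact mul_left_cancel₀ (hQm.pow e).ne_zero this
  have hPQ : P ∣ Q := by rcases hQd with h | ⟨h, -⟩ <;> rw [h]; exact dvd_mul_right _ _
  obtain ⟨m, hmQ⟩ : P ∣ Q ^ e := hPQ.trans (dvd_pow_self Q (by omega))
  have hPc : ¬ P ∣ c := fun h => hpe' (by
    obtain ⟨d, hd⟩ := pow_dvd_pow_of_dvd hPQ e
    rw [hc, pow_succ, hd, mul_assoc]
    exact mul_dvd_mul_left _ (h.mul_left d))
  have hPm' : ¬ P ^ e ∣ m := fun h => hpe' (by
    rw [hc, hmQ, pow_succ', mul_assoc]
    exact mul_dvd_mul_left _ (h.mul_right c))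
  set z := ClassNumberSp.star N c * m * c with hz
  have hzne : ¬ μ ∣ (X ^ 2 - 1) * z := by
    intro h
    have h1 : P ^ e ∣ (X ^ 2 - 1) * z := hpe.trans h
    have hps := not_dvd_star ha.pos hμN hPμ hP hcd hc0 hPc
    rw [hz] at h1
    exact hPm' (hP.prime.pow_dvd_of_dvd_mul_left e hps (hP.prime.pow_dvd_of_dvd_mul_right e hPc
      (hP.prime.pow_dvd_of_dvd_mul_left e hPX h1)))
  obtain ⟨f, u, hu, huf⟩ : ∃ f : F[X], ∃ u ∈ W, B (aeval a (f * z) u) u ≠ 0 := by
    by_contra hcon
    push Not at hcon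
    have hk : ∀ f : F[X], μ ∣ f * z + ClassNumberSp.star N (f * z) := fun f => (hμ _).1 fun x hx => by
      by_contra hne
      obtain ⟨u, hu, h⟩ := exists_self_ne ha hB hW ⟨x, hx, hne⟩
      exact h (hcon f u hu)
    apply hzne
    have h1 := hk 1
    have h3 := hk X
    simp only [ClassNumberSp.star, one_mul, mul_comp, X_comp] at h1 h3
    have e : (X ^ 2 - 1) * z = X * (X * z + X ^ (N - 1) * z.comp (X ^ (N - 1))) -
        X ^ N * (z + z.comp (X ^ (N - 1))) + (X ^ N - 1) * z := by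
      obtain ⟨M, rfl⟩ := Nat.exists_eq_add_of_le' ha.pos
      rw [Nat.add_sub_cancel, pow_succ]
      ring
    rw [e]
    exact dvd_add (dvd_sub (h3.mul_left _) (h1.mul_left _)) (hμN.mul_right _)
  set v := aeval a c u with hv
  have hvW : v ∈ W := hW.invariant c u hu
  have hne : B (aeval a (f * m) v) v ≠ 0 := by
    intro h0
    apply huf
    rw [hv, hB, ha.adjoint, hB, ← aeval_mul_apply, ← aeval_mul_apply] at h0
    rw [← h0]
    congr 3
    rw [hz]; ring
  have hkill : aeval a (Q ^ e) v = 0 := by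
    rw [hv, ← aeval_mul_apply, ← hc]
    exact (hμ μ).2 dvd_rfl u hu
  refine ⟨Key.cyc Q e, gen a v, gen_le hW.invariant hvW, ⟨hgood, he1, v, ⟨hQm.pow e, ⟨1, one_ne_zero, by rw [C_1, one_mul, hQerev]⟩, hkill, ?_⟩, rfl⟩,
    fun ε e' h => by simp at h⟩
  intro g hg
  by_contra hdiv
  let d := EuclideanDomain.gcd g (Q ^ e)
  have hd : d = g * EuclideanDomain.gcdA g (Q ^ e) + Q ^ e * EuclideanDomain.gcdB g (Q ^ e) :=
    EuclideanDomain.gcd_eq_gcd_ab _ _
  have hdJ : ∀ h, B (aeval a (h * d) v) v = 0 := by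
    intro h
    rw [hd, mul_add, map_add, LinearMap.add_apply, map_add, LinearMap.add_apply,
      show h * (g * EuclideanDomain.gcdA g (Q ^ e)) = h * EuclideanDomain.gcdA g (Q ^ e) * g by ring, hg,
      show h * (Q ^ e * EuclideanDomain.gcdB g (Q ^ e)) = h * EuclideanDomain.gcdB g (Q ^ e) * Q ^ e by ring,
      aeval_mul_apply, hkill, map_zero, map_zero, LinearMap.zero_apply, add_zero]
  have hdg : d ∣ g := EuclideanDomain.gcd_dvd_left _ _
  have hdQ : d ∣ Q ^ e := EuclideanDomain.gcd_dvd_right _ _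
  have hup : ∀ s, d ∣ s → ∀ h, B (aeval a (h * s) v) v = 0 := by
    rintro s ⟨t, rfl⟩ h
    rw [show h * (d * t) = h * t * d by ring]
    exact hdJ _
  have hmJ : d ∣ m → False := fun h => hne (hup m h f)
  by_cases hPd : P ^ e ∣ d
  · rcases hQd with h | ⟨h, hneD⟩
    · exact hdiv (h ▸ hPd.trans hdg)
    · have hDd : ¬ D ^ e ∣ d := fun hDd => hdiv (by
        rw [h, mul_pow]
        refine (IsCoprime.mul_dvd ?_ hPd hDd).trans hdg
        exact (hP.coprime_iff_not_dvd.2 fun hd => hneD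
          (eq_of_monic_of_associated hPm hDm (hP.associated_of_dvd hDi hd)).symm).pow)
      set m' := DualPoly.dual (RingHom.id F) m with hm'
      have hDm' : D * m' = Q ^ e := by rw [hD, hm', ← DualPoly.dual_mul, ← hmQ, hQedual]
      have hd' : d ∣ m' := by
        refine dvd_of_prime_mul hDi.prime (hDm'.symm ▸ hdQ) hDd (hDm'.symm ▸ ?_)
        rw [h, mul_pow]
        exact dvd_mul_left _ _
      have hm0 : m.coeff 0 ≠ 0 := fun h0 => by
        have := hQe0
        rw [hmQ, mul_coeff_zero, h0, mul_zero] at this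
        exact zero_ne_one this
      have hrev : d ∣ m.reverse := by rw [reverse_eq_dual hm0]; exact hd'.mul_left _
      have h1 := ClassNumberSU.aeval_reverse (K := F) a (a ^ (N - 1))
        (by rw [← pow_succ, Nat.sub_add_cancel ha.pos, ha.pow]) (Commute.self_pow a _) m
      apply hne
      rw [ha.adjoint, hB]
      have hstar : aeval a (ClassNumberSp.star N (f * m)) = aeval a ((ClassNumberSp.star N f * X ^ ((N - 1) * m.natDegree)) * m.reverse) := by
        rw [map_mul (aeval a) (ClassNumberSp.star N f * X ^ ((N - 1) * m.natDegree)), ← h1, map_mul (aeval a) (ClassNumberSp.star N f), map_pow,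
          aeval_X, show ClassNumberSp.star N (f * m) = ClassNumberSp.star N f * ClassNumberSp.star N m from mul_comp _ _ _, map_mul, ← aeval_star (x := a) (h := m),
          mul_assoc (aeval a (ClassNumberSp.star N f))]
        congr 1
        have hcm : Commute (aeval a (ClassNumberSp.star N m)) (a ^ ((N - 1) * m.natDegree)) := by
          rw [show a ^ ((N - 1) * m.natDegree) = aeval a (X ^ ((N - 1) * m.natDegree) : F[X]) by simp]
          exact (Commute.all _ _).map (aeval a)
        rw [← mul_assoc, ← hcm.eq, mul_assoc, ← pow_add, ← Nat.succ_mul, Nat.succ_eq_add_one,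
          Nat.sub_add_cancel ha.pos, pow_mul, ha.pow, one_pow, mul_one]
      rw [hstar]
      exact hup _ hrev _
  · exact hmJ (dvd_of_prime_mul hP.prime (hmQ ▸ hdQ) hPd (hmQ ▸ pow_dvd_pow_of_dvd hPQ e))

/-- A block at one of the eigenvalues `1`, `-1`. -/
theorem exists_unip_block (ha : Isom B N a) (hB : ∀ u w, B u w = B w u) (h2 : (2 : F) ≠ 0) {W : Submodule F V} (hW : Piece B a W)
    {μ : F[X]} (hm : μ.Monic) (hμN : μ ∣ X ^ N - 1) (hμd : DualPoly.dual (RingHom.id F) μ = μ)
    (hμ0 : μ.coeff 0 ≠ 0) (hμ : ∀ f : F[X], (∀ x ∈ W, aeval a f x = 0) ↔ μ ∣ f) (b : Bool)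
    (hPμ : X - C (sgn F b) ∣ μ) :
    ∃ k : Key F, ∃ U ≤ W, IsBlock B a k U ∧ ∀ ε e, k = Key.one ε e false → ∀ v ∈ W,
      Cyc B a ((X - C (sgn F ε)) ^ e) v → ¬ IsSquare (B (aeval a ((X - C (sgn F ε)) ^ (e - 1)) v) v) := by
  classical
  set L := X - C (sgn F b) with hL
  have hLi : Irreducible L := irreducible_X_sub_C _
  have hfin := FiniteMultiplicity.of_prime_left hLi.prime hm.ne_zero
  set e := multiplicity L μ with he
  have hpe : L ^ e ∣ μ := pow_multiplicity_dvd L μ
  have hpe' : ¬ L ^ (e + 1) ∣ μ := hfin.not_pow_dvd_of_multiplicity_lt (Nat.lt_succ_self _)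
  have he1 : 1 ≤ e := by
    by_contra h0
    rw [not_le, Nat.lt_one_iff] at h0
    rw [h0, zero_add, pow_one] at hpe'
    exact hpe' hPμ
  obtain ⟨c, hc⟩ := hpe
  have hc0 : c.coeff 0 ≠ 0 := fun h => hμ0 (by rw [hc, mul_coeff_zero, h, mul_zero])
  have hcd : DualPoly.dual (RingHom.id F) c = c := by
    have := hμd
    rw [hc, DualPoly.dual_mul, hL, dual_linear_pow] at this
    exact mul_left_cancel₀ (pow_ne_zero _ (X_sub_C_ne_zero _)) this
  have hLc : ¬ L ∣ c := fun h => hpe' (by rw [hc, pow_succ]; exact mul_dvd_mul_left _ h)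
  have hLs := not_dvd_star ha.pos hμN hPμ hLi hcd hc0 hLc
  set z := ClassNumberSp.star N c * L ^ (e - 1) * c with hz
  have hzne : ∀ g, ¬ L ∣ g → ¬ μ ∣ g * z := by
    intro g hg h
    have h1 : L ^ e ∣ g * z := (hc ▸ dvd_mul_right (L ^ e) c).trans h
    rw [hz] at h1
    have := hLi.prime.pow_dvd_of_dvd_mul_left e hLs (hLi.prime.pow_dvd_of_dvd_mul_right e hLc
      (hLi.prime.pow_dvd_of_dvd_mul_left e hg h1))
    have := (pow_dvd_pow_iff hLi.ne_zero hLi.not_isUnit).1 this
    omega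
  have hkill : ∀ u ∈ W, aeval a (L ^ e) (aeval a c u) = 0 := fun u hu => by
    rw [← aeval_mul_apply, ← hc]
    exact (hμ μ).2 dvd_rfl u hu
  have htop : ∀ u w, B (aeval a (L ^ (e - 1)) (aeval a c u)) (aeval a c w) = B (aeval a z u) w := by
    intro u w
    rw [hB, ha.adjoint, hB, ← aeval_mul_apply, ← aeval_mul_apply, hz, mul_assoc]
  rcases (Nat.even_or_odd e).symm with heven | hodd
  · obtain ⟨u, hu, hne⟩ : ∃ u ∈ W, B (aeval a z u) u ≠ 0 := by
      refine exists_self_ne ha hB hW ?_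
      by_contra hcon
      push Not at hcon
      have hd : μ ∣ z + ClassNumberSp.star N z := (hμ _).1 hcon
      refine hzne (X ^ (e - 1) + C ((sgn F b) ^ (e - 1))) ?_ ?_
      · intro hdv
        rw [hL, dvd_iff_isRoot] at hdv
        simp only [IsRoot.def, eval_add, eval_pow, eval_X, eval_C] at hdv
        have : (2 : F) * sgn F b ^ (e - 1) = 0 := by linear_combination hdv
        exact pow_ne_zero _ (left_ne_zero_of_mul_eq_one (sgn_sq b)) ((mul_eq_zero.1 this).resolve_left h2)
      · rw [← AdjoinRoot.mk_eq_zero] at hd ⊢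
        have hr := root_pow hμN
        have hstar : ∀ p : F[X], AdjoinRoot.mk μ (ClassNumberSp.star N p) = aeval (AdjoinRoot.root μ ^ (N - 1)) p := fun p => by
          rw [← AdjoinRoot.aeval_eq, aeval_star]
        have hss : aeval (AdjoinRoot.root μ ^ (N - 1)) (ClassNumberSp.star N c) = AdjoinRoot.mk μ c := by
          rw [aeval_star, pow_pred_pred hr ha.pos, AdjoinRoot.aeval_eq]
        have h1 := ClassNumberSU.aeval_reverse (K := F) (AdjoinRoot.root μ) (AdjoinRoot.root μ ^ (N - 1))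
          (by rw [← pow_succ, Nat.sub_add_cancel ha.pos, hr]) (Commute.all _ _) (L ^ (e - 1))
        rw [hL, reverse_linear_pow, ← hL, natDegree_pow, hL, natDegree_X_sub_C, mul_one, ← hL, map_mul, aeval_C,
          AdjoinRoot.aeval_eq] at h1
        have hev : (-sgn F b) ^ (e - 1) = sgn F b ^ (e - 1) := by
          rw [neg_pow, (show Even (e - 1) from Nat.Odd.sub_odd heven odd_one).neg_one_pow, one_mul]
        rw [hev, ← AdjoinRoot.mk_X] at h1
        have hsz : AdjoinRoot.mk μ (ClassNumberSp.star N z) = AdjoinRoot.mk μ c * AdjoinRoot.mk μ (ClassNumberSp.star N (L ^ (e - 1))) *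
            AdjoinRoot.mk μ (ClassNumberSp.star N c) := by
          rw [hstar, hz, map_mul, map_mul, hss, hstar, hstar]
        rw [map_add, hsz] at hd
        rw [hstar] at hd
        rw [AdjoinRoot.mk_X] at h1
        rw [map_mul, map_add, map_pow, AdjoinRoot.mk_X, AdjoinRoot.mk_C]
        simp only [hz, map_mul] at hd ⊢
        rw [AdjoinRoot.algebraMap_eq] at h1
        linear_combination AdjoinRoot.root μ ^ (e - 1) * hd -
          AdjoinRoot.mk μ c * AdjoinRoot.mk μ (ClassNumberSp.star N c) * h1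
    have hrev := rev_linear (F := F) b e
    have hcyc : Cyc B a (L ^ e) (aeval a c u) :=
      cyc_of_top he1 hrev (hkill u hu) (by rw [htop]; exact hne)
    by_cases hsq : ∃ v ∈ W, Cyc B a (L ^ e) v ∧ IsSquare (B (aeval a (L ^ (e - 1)) v) v)
    · obtain ⟨v, hv, hvc, hvs⟩ := hsq
      exact ⟨Key.one b e true, gen a v, gen_le hW.invariant hv, ⟨he1, heven, v, hvc, iff_of_true hvs rfl, rfl⟩,
        fun ε e' h => by simp at h⟩
    · push Not at hsq
      refine ⟨Key.one b e false, gen a (aeval a c u), gen_le hW.invariant (hW.invariant c u hu),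
        ⟨he1, heven, _, hcyc, iff_of_false (hsq _ (hW.invariant c u hu) hcyc) (by simp), rfl⟩, ?_⟩
      intro ε e' h v hv hvc
      simp only [Key.one.injEq] at h
      obtain ⟨rfl, rfl, -⟩ := h
      exact hsq v hv hvc
  · obtain ⟨u, hu, w, hw, hne⟩ : ∃ u ∈ W, ∃ w ∈ W, B (aeval a z u) w ≠ 0 := by
      refine hW.exists_apply_ne ?_
      by_contra hcon
      push Not at hcon
      refine hzne 1 (fun h => hLi.not_isUnit (isUnit_of_dvd_one h)) ?_
      rw [one_mul]
      exact (hμ _).1 hcon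
    set t := B (aeval a z u) w with ht
    refine ⟨Key.pair b e, pairGen a (aeval a c (t⁻¹ • u)) (aeval a c w), ?_, ⟨_, _, ⟨sgn_sq b, he1, hodd,
      hkill _ (W.smul_mem _ hu), hkill _ hw, ?_⟩, rfl⟩, fun ε e' h => by simp at h⟩
    · exact sup_le (gen_le hW.invariant (hW.invariant c _ (W.smul_mem _ hu))) (gen_le hW.invariant (hW.invariant c _ hw))
    · rw [← hL, htop, map_smul, map_smul, LinearMap.smul_apply, smul_eq_mul, ← ht, inv_mul_cancel₀ hne]

theorem exists_block [Finite F] (ha : Isom B N a) (hB : ∀ u w, B u w = B w u) (h2 : (2 : F) ≠ 0) {W : Submodule F V}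
    (hW : Piece B a W) (hne : W ≠ ⊥) :
    ∃ k : Key F, ∃ U ≤ W, IsBlock B a k U ∧ ∀ ε e, k = Key.one ε e false → ∀ v ∈ W,
      Cyc B a ((X - C (sgn F ε)) ^ e) v → ¬ IsSquare (B (aeval a ((X - C (sgn F ε)) ^ (e - 1)) v) v) := by
  classical
  obtain ⟨μ, hm, hdeg, hμN, hμd, hμ0, hμ⟩ := exists_minpoly ha hB hW hne
  obtain ⟨P, hPm, hP, hPμ⟩ := Polynomial.exists_monic_irreducible_factor μ (by
    intro h
    have := natDegree_eq_zero_of_isUnit h
    omega)
  by_cases hPX : P ∣ X ^ 2 - 1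
  · have hX : (X : F[X]) ^ 2 - 1 = (X - C (sgn F true)) * (X - C (sgn F false)) := by simp [sgn]; ring
    rw [hX] at hPX
    have key : ∀ b, P ∣ X - C (sgn F b) → X - C (sgn F b) ∣ μ := fun b hb => by
      rw [← eq_of_monic_of_associated hPm (monic_X_sub_C _) (hP.associated_of_dvd (irreducible_X_sub_C _) hb)]
      exact hPμ
    rcases hP.prime.dvd_or_dvd hPX with h | h
    · exact exists_unip_block ha hB h2 hW hm hμN hμd hμ0 hμ true (key _ h)
    · exact exists_unip_block ha hB h2 hW hm hμN hμd hμ0 hμ false (key _ h)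
  · obtain ⟨k, U, hU, hk, hne'⟩ := exists_cyc_block ha hB h2 hW hm hμN hμd hμ0 hμ hPm hP hPμ hPX
    exact ⟨k, U, hU, hk, fun ε e h => absurd h (hne' ε e)⟩

/-- Every piece has a decomposition in normal form. -/
theorem exists_dec [Finite F] (ha : Isom B N a) (hB : ∀ u w, B u w = B w u) (h2 : (2 : F) ≠ 0) :
    ∀ (d : ℕ) (W : Submodule F V), Piece B a W → Module.finrank F W ≤ d → ∃ L, Dec B a L W ∧ Normal L := by
  classical
  intro d
  induction d with
  | zero =>
    intro W _ hd
    rw [Nat.le_zero, Submodule.finrank_eq_zero] at hd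
    subst hd
    exact ⟨[], Dec.nil, fun ε e L' h => absurd h.length_eq (by simp)⟩
  | succ d ih =>
    intro W hW hd
    rcases eq_or_ne W ⊥ with rfl | hne
    · exact ⟨[], Dec.nil, fun ε e L' h => absurd h.length_eq (by simp)⟩
    obtain ⟨k, U, hUW, hk, hpref⟩ := exists_block ha hB h2 hW hne
    let β : U →ₗ[F] Module.Dual F U := (B.compl₁₂ U.subtype U.subtype)
    have hβ : Function.Injective β := (injective_iff_map_eq_zero β).2 fun x hx =>
      Subtype.ext (hk.nondeg ha hB h2 x.2 fun y hy => LinearMap.congr_fun hx ⟨y, hy⟩)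
    have hβs : Function.Surjective β :=
      (LinearMap.injective_iff_surjective_of_finrank_eq_finrank (Subspace.dual_finrank_eq).symm).1 hβ
    let W' : Submodule F V := W ⊓ B.orthogonal U
    have hmem : ∀ y, y ∈ W' ↔ y ∈ W ∧ ∀ x ∈ U, B x y = 0 := fun y => by
      simp only [W', Submodule.mem_inf, LinearMap.BilinForm.mem_orthogonal_iff, LinearMap.BilinForm.isOrtho_def]
    have ho : ∀ x ∈ U, ∀ y ∈ W', B x y = 0 := fun x hx y hy => ((hmem y).1 hy).2 x hx
    have hsup : U ⊔ W' = W := by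
      refine le_antisymm (sup_le hUW inf_le_left) fun x hx => ?_
      obtain ⟨u, hu⟩ := hβs ((B x).comp U.subtype)
      refine Submodule.mem_sup.2 ⟨u, u.2, x - u, (hmem _).2 ⟨W.sub_mem hx (hUW u.2), fun y hy => ?_⟩, by abel⟩
      have := LinearMap.congr_fun hu ⟨y, hy⟩
      rw [hB, map_sub, LinearMap.sub_apply]
      simp only [β, LinearMap.compl₁₂_apply, Submodule.subtype_apply, LinearMap.comp_apply] at this
      rw [this, sub_self]
    have hW' : Piece B a W' := by
      refine ⟨fun f x hx => (hmem _).2 ⟨hW.invariant f x ((hmem x).1 hx).1, fun y hy => ?_⟩, fun x hx hxo => ?_⟩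
      · rw [hB, ha.adjoint, hB]
        exact ho _ (hk.invariant _ hy) x hx
      · refine hW.nondeg x ((hmem x).1 hx).1 fun y hy => ?_
        rw [← hsup] at hy
        obtain ⟨p, hp, q, hq, rfl⟩ := Submodule.mem_sup.1 hy
        rw [map_add, hxo q hq, add_zero, hB, ho p hp x hx]
    have hlt : Module.finrank F W' ≤ d := by
      have h1 := Submodule.finrank_sup_add_finrank_inf_eq U W'
      rw [hsup, (disjoint_of_orth ha hB h2 hk ho).eq_bot, finrank_bot, add_zero, hk.finrank ha hB h2] at h1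
      have : 1 ≤ k.size := by
        rcases k with ⟨Q, e⟩ | ⟨ε, e, s⟩ | ⟨ε, e⟩
        · obtain ⟨hQ, he, -⟩ := hk
          exact Nat.mul_pos (by have := (hQ.props h2).2.2.2.2; omega) he
        · exact hk.1
        · obtain ⟨v, w, hp, -⟩ := hk
          have := hp.pos
          show 1 ≤ 2 * e
          omega
      omega
    obtain ⟨L, hL, hLn⟩ := ih W' hW' hlt
    refine ⟨k :: L, hsup ▸ Dec.cons hk hL ho, fun ε e L' hperm => ?_⟩
    have key : k = Key.one ε e false → Key.one ε e false ∉ L := by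
      rintro rfl hmemL
      obtain ⟨U₂, hU₂, -, heven, v₂, hc₂, hs₂, rfl⟩ := hL.exists_mem hmemL
      obtain ⟨he, -, v₁, hc₁, hs₁, rfl⟩ := hk
      have hv₁ : v₁ ∈ W := hUW (self_mem_gen a v₁)
      have hv₂ : v₂ ∈ W' := hU₂ (self_mem_gen a v₂)
      set L0 : F[X] := (X - C (sgn F ε)) ^ (e - 1) with hL0
      set t₁ := B (aeval a L0 v₁) v₁
      set t₂ := B (aeval a L0 v₂) v₂
      have hn₁ : ¬ IsSquare t₁ := fun h => by simpa using hs₁.1 h
      have hn₂ : ¬ IsSquare t₂ := fun h => by simpa using hs₂.1 h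
      haveI := Fintype.ofFinite F
      have ht₁ : t₁ ≠ 0 := fun h => hn₁ (h ▸ IsSquare.zero)
      have ht₂ : t₂ ≠ 0 := fun h => hn₂ (h ▸ IsSquare.zero)
      obtain ⟨p, r, hpr⟩ := FiniteField.exists_root_sum_quadratic (R := F) (f := C t₁ * X ^ 2)
        (g := C t₂ * X ^ 2 - C 1) (degree_C_mul_X_pow 2 ht₁) (by
          rw [degree_sub_C (by rw [degree_C_mul_X_pow 2 ht₂]; exact Nat.cast_pos.2 two_pos), degree_C_mul_X_pow 2 ht₂]
          rfl) (FiniteField.odd_card_of_char_ne_two fun h => h2 (by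
            haveI := ringChar.charP F
            have := CharP.cast_eq_zero F (ringChar F)
            rw [h] at this
            exact_mod_cast this))
      simp only [eval_mul, eval_C, eval_pow, eval_X, eval_sub] at hpr
      have hcross : ∀ g : F[X], B (aeval a g v₁) v₂ = 0 ∧ B (aeval a g v₂) v₁ = 0 := fun g =>
        ⟨ho _ (gen_invariant g (self_mem_gen a v₁)) v₂ hv₂, by
          rw [hB, ho _ (self_mem_gen a v₁) _ (hW'.invariant g v₂ hv₂)]⟩
      have htop : B (aeval a L0 (p • v₁ + r • v₂)) (p • v₁ + r • v₂) = 1 := by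
        simp only [map_add, map_smul, LinearMap.add_apply, LinearMap.smul_apply, smul_eq_mul, (hcross L0).1,
          (hcross L0).2, mul_zero, add_zero, zero_add]
        linear_combination hpr
      refine hpref ε e rfl _ (W.add_mem (W.smul_mem p hv₁) (W.smul_mem r ((hmem _).1 hv₂).1))
        (cyc_of_top he (rev_linear ε e) ?_ ?_) ?_
      · rw [map_add, map_smul, map_smul, hc₁.kills, hc₂.kills, smul_zero, smul_zero, add_zero]
      · rw [htop]; exact one_ne_zero
      · rw [htop]; exact IsSquare.one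
    by_cases hkk : k = Key.one ε e false
    · subst hkk
      rw [List.perm_cons] at hperm
      exact fun h => key rfl (hperm.mem_iff.2 h)
    · intro hmemL'
      have hmem1 : Key.one ε e false ∈ k :: L := hperm.mem_iff.2 (List.mem_cons_self)
      rcases List.mem_cons.1 hmem1 with h | h
      · exact hkk h.symm
      · refine hLn ε e _ (List.perm_cons_erase h) ?_
        have h1 : (k :: L).count (Key.one ε e false) = (Key.one ε e false :: L').count (Key.one ε e false) :=
          hperm.count_eq _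
        rw [List.count_cons_of_ne hkk, List.count_cons_self] at h1
        have h3 : 1 ≤ L'.count (Key.one ε e false) := List.count_pos_iff.2 hmemL'
        refine List.count_pos_iff.1 ?_
        rw [List.count_erase_self]
        omega

end Cfsg.Lib.ClassNumberO
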