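import Cfsg.Agent.Known.ClassNumberO.Decomp
import Mathlib

/-! Two decompositions differing in the type of one single block cannot live on the same space. -/

set_option autoImplicit false
set_option linter.style.haveILetI false

open Polynomial

namespace Cfsg.Lib.ClassNumberO

open ClassNumberSp (Isom gen psi IsoOn mem_gen self_mem_gen gen_invariant aeval_mul_apply aeval_star top_smul sgn sgn_sq
  Key psi_mk range_psi root_pow gen_le Piece Normal)

universe u v

variable {F : Type u} [Field F] {V : Type v} [AddCommGroup V] [Module F V]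
variable {B : LinearMap.BilinForm F V} {N : ℕ}

/-- The entries of the Gram matrix of a single block. -/
theorem block_entry {a : Module.End F V} (ha : Isom B N a) (hB : ∀ u w, B u w = B w u) {ε : F} {e : ℕ} (he : 1 ≤ e)
    (hε : ε * ε = 1) {v : V} (hk : aeval a ((X - C ε) ^ e) v = 0) (i j : ℕ) :
    (e ≤ i + j → B (aeval a ((X - C ε) ^ i) v) (aeval a ((X - C ε) ^ j) v) = 0) ∧
      (i + j + 1 = e → B (aeval a ((X - C ε) ^ i) v) (aeval a ((X - C ε) ^ j) v) =
        (-ε) ^ j * ε ^ ((N - 1) * j) * B (aeval a ((X - C ε) ^ (e - 1)) v) v) := by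
  have e1 : aeval (a ^ (N - 1)) (X - C ε) = (-ε) • (aeval a (X - C ε) * a ^ (N - 1)) := by
    rw [map_sub, map_sub, aeval_X, aeval_X, aeval_C, aeval_C, sub_mul, ← pow_succ', Nat.sub_add_cancel ha.pos, ha.pow,
      Algebra.algebraMap_eq_smul_one, smul_mul_assoc, one_mul, smul_sub, smul_smul, neg_mul, hε, neg_smul, neg_smul,
      one_smul]
    abel
  have hc : Commute (aeval a (X - C ε)) (a ^ (N - 1)) := by
    rw [map_sub, aeval_X, aeval_C]
    exact (Commute.self_pow a _).sub_left (Algebra.commute_algebraMap_left ε _)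
  have key : B (aeval a ((X - C ε) ^ i) v) (aeval a ((X - C ε) ^ j) v) =
      (-ε) ^ j * B (aeval a (X ^ ((N - 1) * j) * (X - C ε) ^ (i + j)) v) v := by
    rw [hB, ha.adjoint, hB, aeval_star, map_pow (aeval (a ^ (N - 1))), e1, _root_.smul_pow, hc.mul_pow, LinearMap.smul_apply,
      map_smul, LinearMap.smul_apply, smul_eq_mul]
    congr 1
    rw [← pow_mul, ← map_pow, show a ^ ((N - 1) * j) = aeval a (X ^ ((N - 1) * j) : F[X]) by simp, ← map_mul,
      ← aeval_mul_apply]
    congr 3
    rw [pow_add]; ring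
  constructor
  · intro h
    rw [key, show (X - C ε) ^ (i + j) = (X - C ε) ^ (i + j - e) * (X - C ε) ^ e by
      rw [← pow_add, Nat.sub_add_cancel h], ← mul_assoc, aeval_mul_apply, hk, map_zero, map_zero, LinearMap.zero_apply,
      mul_zero]
  · intro h
    rw [key, show i + j = e - 1 by omega, top_smul he hk, map_smul, LinearMap.smul_apply, smul_eq_mul, eval_pow, eval_X,
      mul_assoc]

/-- The constant relating the determinant of a single block to its top value. -/
noncomputable def blockConst (ε : F) (N e : ℕ) : F :=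
  ∏ i : Fin e, (-ε) ^ (i : ℕ) * ε ^ ((N - 1) * (i : ℕ))

theorem block_det {a : Module.End F V} (ha : Isom B N a) (hB : ∀ u w, B u w = B w u) {ε : F} {e : ℕ} (he : 1 ≤ e)
    (hε : ε * ε = 1) {v : V} (hk : aeval a ((X - C ε) ^ e) v = 0) :
    ∃ σ : F, σ ≠ 0 ∧ σ * σ = 1 ∧ (Matrix.of fun i j : Fin e => B (aeval a ((X - C ε) ^ (i : ℕ)) v)
      (aeval a ((X - C ε) ^ (j : ℕ)) v)).det =
      ((Equiv.Perm.sign (Fin.revPerm (n := e)) : ℤ) : F) * blockConst ε N e * B (aeval a ((X - C ε) ^ (e - 1)) v) v ^ e := by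
  refine ⟨1, one_ne_zero, one_mul 1, ?_⟩
  set G := Matrix.of fun i j : Fin e => B (aeval a ((X - C ε) ^ (i : ℕ)) v) (aeval a ((X - C ε) ^ (j : ℕ)) v) with hG
  have htri : Matrix.BlockTriangular (G.submatrix (Fin.revPerm (n := e)) id) OrderDual.toDual := by
    intro i j h
    have h' : i < j := h
    show B _ _ = 0
    refine (block_entry ha hB he hε hk _ _).1 ?_
    simp only [Fin.revPerm_apply, Fin.val_rev, id_eq]
    have := Fin.lt_def.1 h'
    omega
  have h1 := Matrix.det_of_lowerTriangular _ htri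
  rw [Matrix.det_permute] at h1
  have h2 : ∀ i : Fin e, (G.submatrix (Fin.revPerm (n := e)) id) i i =
      (-ε) ^ (i : ℕ) * ε ^ ((N - 1) * (i : ℕ)) * B (aeval a ((X - C ε) ^ (e - 1)) v) v := fun i => by
    show B _ _ = _
    refine (block_entry ha hB he hε hk _ _).2 ?_
    simp only [Fin.revPerm_apply, Fin.val_rev, id_eq]
    omega
  rw [Finset.prod_congr rfl fun i _ => h2 i, Finset.prod_mul_distrib, Finset.prod_const, Finset.card_univ,
    Fintype.card_fin] at h1
  set s : F := ((Equiv.Perm.sign (Fin.revPerm (n := e)) : ℤ) : F) with hs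
  have hss : s * s = 1 := by
    rw [hs, ← Int.cast_mul, ← Units.val_mul, Int.units_mul_self, Units.val_one, Int.cast_one]
  rw [mul_assoc s, blockConst, ← h1, ← mul_assoc, hss, one_mul]

variable [FiniteDimensional F V]

/-- The contradiction. -/
theorem not_flip [Finite F] (h2 : (2 : F) ≠ 0) (hB : ∀ u w, B u w = B w u) (hnd : ∀ x, (∀ y, B x y = 0) → x = 0)
    {a a' : Module.End F V} (ha : Isom B N a) (ha' : Isom B N a') {b : Bool} {e : ℕ} {s : Bool} {R : List (Key F)}
    (h : Dec B a (Key.one b e s :: R) ⊤) (h' : Dec B a' (Key.one b e (!s) :: R) ⊤) : False := by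
  classical
  generalize hW : (⊤ : Submodule F V) = W0 at h
  cases h with
  | @cons k L U W hk hd ho =>
  generalize hW' : (⊤ : Submodule F V) = W0' at h'
  cases h' with
  | @cons k' L' U' W' hk' hd' ho' =>
  obtain ⟨f, hf, hfB, -⟩ := iso_of_dec ha ha' hB h2 hd hd'
  have hUfin := hk.finrank ha hB h2
  have hUfin' := hk'.finrank ha' hB h2
  have hdisj := disjoint_of_orth ha hB h2 hk ho
  have hdisj' := disjoint_of_orth ha' hB h2 hk' ho'
  obtain ⟨he, hodd, v, hc, hs, rfl⟩ := hk
  obtain ⟨-, -, v', hc', hs', rfl⟩ := hk'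
  set ε := sgn F b with hεdef
  have hε : ε * ε = 1 := sgn_sq b
  have hfin : ∀ (a : Module.End F V) (v : V), Cyc B a ((X - C ε) ^ e) v → LinearIndependent F
      (fun i : Fin e => aeval a ((X - C ε) ^ (i : ℕ)) v) := by
    intro a v hc
    rw [Fintype.linearIndependent_iff]
    intro g hg i
    have hd : (X - C ε) ^ e ∣ ∑ i : Fin e, C (g i) * (X - C ε) ^ (i : ℕ) := hc.dvd_of_kills (by
      rw [map_sum, LinearMap.sum_apply, ← hg]
      exact Finset.sum_congr rfl fun i _ => by
        rw [aeval_mul_apply, aeval_C, Module.algebraMap_end_apply])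
    obtain ⟨d, hd⟩ := hd
    have h3 := congrArg (fun p : F[X] => (p.comp (X + C ε)).coeff (i : ℕ)) hd
    simp only [sum_comp, mul_comp, C_comp, pow_comp, sub_comp, X_comp, add_sub_cancel_right, finset_sum_coeff,
      coeff_C_mul, coeff_X_pow, mul_ite, mul_one, mul_zero] at h3
    rw [Finset.sum_eq_single i (fun j _ hj => if_neg fun h => hj (Fin.ext h).symm)
      (fun h => absurd (Finset.mem_univ i) h), if_pos rfl, mul_comm, coeff_mul_X_pow', if_neg (by
        have := i.isLt; omega)] at h3
    exact h3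
  let bW := Module.finBasis F W
  set κ := Fin (Module.finrank F W)
  let p : Fin e ⊕ κ → V := Sum.elim (fun i => aeval a ((X - C ε) ^ (i : ℕ)) v) fun j => (bW j : V)
  let p' : Fin e ⊕ κ → V := Sum.elim (fun i => aeval a' ((X - C ε) ^ (i : ℕ)) v') fun j => f (bW j)
  have hfinj : Function.Injective f := (injective_iff_map_eq_zero f).2 fun x hx => by
    refine Subtype.ext (hnd x.1 fun y => ?_)
    obtain ⟨y1, hy1, y2, hy2, rfl⟩ := Submodule.mem_sup.1 (hW ▸ Submodule.mem_top : y ∈ gen a v ⊔ W)
    rw [map_add, hB x.1 y1, ho y1 hy1 x.1 x.2, zero_add]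
    have := hfB x ⟨y2, hy2⟩
    rw [hx, map_zero, LinearMap.zero_apply] at this
    exact this.symm
  have hli : LinearIndependent F p := by
    refine LinearIndependent.sum_type (hfin a v hc) (bW.linearIndependent.map' W.subtype W.ker_subtype) (hdisj.mono ?_ ?_)
    · exact Submodule.span_le.2 (Set.range_subset_iff.2 fun i => gen_invariant _ (self_mem_gen a v))
    · exact Submodule.span_le.2 (Set.range_subset_iff.2 fun j => (bW j).2)
  have hli' : LinearIndependent F p' := by
    refine LinearIndependent.sum_type (hfin a' v' hc') (bW.linearIndependent.map' f (LinearMap.ker_eq_bot.2 hfinj))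
      (hdisj'.mono ?_ ?_)
    · exact Submodule.span_le.2 (Set.range_subset_iff.2 fun i => gen_invariant _ (self_mem_gen a' v'))
    · exact Submodule.span_le.2 (Set.range_subset_iff.2 fun j => hf ▸ LinearMap.mem_range_self f (bW j))
  have hcard : Fintype.card (Fin e ⊕ κ) = Module.finrank F V := by
    rw [Fintype.card_sum, Fintype.card_fin, Fintype.card_fin, ← finrank_top F V, hW, ← add_zero (Module.finrank F ↥(_ ⊔ W))]
    rw [← finrank_bot F V, ← hdisj.eq_bot, Submodule.finrank_sup_add_finrank_inf_eq, hUfin]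
    rfl
  haveI : Nonempty (Fin e ⊕ κ) := ⟨Sum.inl ⟨0, he⟩⟩
  let P := basisOfLinearIndependentOfCardEqFinrank hli hcard
  let P' := basisOfLinearIndependentOfCardEqFinrank hli' hcard
  have hP : ⇑P = p := coe_basisOfLinearIndependentOfCardEqFinrank hli hcard
  have hP' : ⇑P' = p' := coe_basisOfLinearIndependentOfCardEqFinrank hli' hcard
  let T : V →ₗ[F] V := (P.equiv P' (Equiv.refl _) : V →ₗ[F] V)
  have hT : ∀ i, T (P i) = P' i := fun i => by
    show (P.equiv P' (Equiv.refl _)) (P i) = P' i
    rw [Module.Basis.equiv_apply]; rfl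
  set ti := B (aeval a ((X - C ε) ^ (e - 1)) v) v with hti
  set ti' := B (aeval a' ((X - C ε) ^ (e - 1)) v') v' with hti'
  obtain ⟨-, -, -, hdet⟩ := block_det ha hB he hε hc.kills
  obtain ⟨-, -, -, hdet'⟩ := block_det ha' hB he hε hc'.kills
  have hgram : LinearMap.BilinForm.toMatrix P B = Matrix.fromBlocks
      (Matrix.of fun i j : Fin e => B (aeval a ((X - C ε) ^ (i : ℕ)) v) (aeval a ((X - C ε) ^ (j : ℕ)) v)) 0 0
      (Matrix.of fun i j : κ => B (bW i : V) (bW j : V)) := by
    ext i j
    rw [LinearMap.BilinForm.toMatrix_apply, hP]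
    rcases i with i | i <;> rcases j with j | j
    · rfl
    · exact ho _ (gen_invariant _ (self_mem_gen a v)) _ (bW j).2
    · show B (bW i : V) _ = 0
      rw [hB]; exact ho _ (gen_invariant _ (self_mem_gen a v)) _ (bW i).2
    · rfl
  have hgram' : LinearMap.BilinForm.toMatrix P (B.comp T T) = Matrix.fromBlocks
      (Matrix.of fun i j : Fin e => B (aeval a' ((X - C ε) ^ (i : ℕ)) v') (aeval a' ((X - C ε) ^ (j : ℕ)) v')) 0 0
      (Matrix.of fun i j : κ => B (bW i : V) (bW j : V)) := by
    ext i j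
    rw [LinearMap.BilinForm.toMatrix_apply, LinearMap.BilinForm.comp_apply, hT, hT, hP']
    rcases i with i | i <;> rcases j with j | j
    · rfl
    · exact ho' _ (gen_invariant _ (self_mem_gen a' v')) _ (hf ▸ LinearMap.mem_range_self f (bW j))
    · show B (f (bW i)) _ = 0
      rw [hB]; exact ho' _ (gen_invariant _ (self_mem_gen a' v')) _ (hf ▸ LinearMap.mem_range_self f (bW i))
    · exact hfB _ _
  have hcomp := congrArg Matrix.det (LinearMap.BilinForm.toMatrix_comp P P B T T)
  rw [Matrix.det_mul, Matrix.det_mul, Matrix.det_transpose, hgram', hgram, Matrix.det_fromBlocks_zero₂₁,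
    Matrix.det_fromBlocks_zero₂₁, hdet, hdet', ← hti, ← hti'] at hcomp
  set d := (LinearMap.toMatrix P P T).det
  set K := ((Equiv.Perm.sign (Fin.revPerm (n := e)) : ℤ) : F) * blockConst ε N e
  set D := (Matrix.of fun i j : κ => B (bW i : V) (bW j : V)).det
  have hK : K ≠ 0 := by
    refine mul_ne_zero ?_ (Finset.prod_ne_zero_iff.2 fun i _ => mul_ne_zero (pow_ne_zero _
      (neg_ne_zero.2 (left_ne_zero_of_mul_eq_one hε))) (pow_ne_zero _ (left_ne_zero_of_mul_eq_one hε)))
    rcases Int.units_eq_one_or (Equiv.Perm.sign (Fin.revPerm (n := e))) with h | h <;> simp [h]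
  have hD : D ≠ 0 := by
    intro h0
    obtain ⟨g, hg0, hg⟩ := Matrix.exists_mulVec_eq_zero_iff.2 h0
    apply hg0
    have hx : ∀ i, B (bW i : V) ((∑ j, g j • bW j : W) : V) = 0 := fun i => by
      have := congrFun hg i
      simp only [Matrix.mulVec, dotProduct, Matrix.of_apply, Pi.zero_apply] at this
      rw [Submodule.coe_sum, map_sum, ← this]
      exact Finset.sum_congr rfl fun j _ => by rw [Submodule.coe_smul, map_smul, smul_eq_mul, mul_comm]
    have hz : (∑ j, g j • bW j : W) = 0 := Subtype.ext (hnd _ fun y => by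
      obtain ⟨y1, hy1, y2, hy2, rfl⟩ := Submodule.mem_sup.1 (hW ▸ Submodule.mem_top : y ∈ gen a v ⊔ W)
      rw [map_add, hB _ y1, ho y1 hy1 _ (Subtype.prop _), zero_add, hB]
      have hy : (⟨y2, hy2⟩ : W) = ∑ i, bW.repr ⟨y2, hy2⟩ i • bW i := (bW.sum_repr _).symm
      rw [show y2 = ((∑ i, bW.repr ⟨y2, hy2⟩ i • bW i : W) : V) from congrArg Subtype.val hy, Submodule.coe_sum, map_sum,
        LinearMap.sum_apply]
      exact Finset.sum_eq_zero fun i _ => by rw [Submodule.coe_smul, map_smul, LinearMap.smul_apply, hx, smul_zero])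
    exact funext fun j => Fintype.linearIndependent_iff.1 bW.linearIndependent g hz j
  have hnsq : ∀ (v : V) (a : Module.End F V), Cyc B a ((X - C ε) ^ e) v →
      B (aeval a ((X - C ε) ^ (e - 1)) v) v ≠ 0 := by
    intro u b hcu h0
    have hd := hcu.nondeg ((X - C ε) ^ (e - 1)) fun h => by
      rw [top_smul he hcu.kills, map_smul, LinearMap.smul_apply, h0, smul_zero]
    have := (pow_dvd_pow_iff (X_sub_C_ne_zero ε) (not_isUnit_X_sub_C ε)).1 hd
    omega
  have ht : ti ≠ 0 := hnsq v a hc
  have ht' : ti' ≠ 0 := hnsq v' a' hc'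
  have hmain : ti' ^ e = d ^ 2 * ti ^ e := mul_left_cancel₀ (mul_ne_zero hK hD) (by linear_combination hcomp)
  obtain ⟨r, rfl⟩ := hodd
  have hiff : IsSquare ti ↔ IsSquare ti' := by
    constructor
    · rintro ⟨c, hcc⟩
      refine ⟨d * c ^ (2 * r + 1) / ti' ^ r, ?_⟩
      field_simp
      rw [show ti = c * c from hcc] at hmain
      linear_combination hmain
    · rintro ⟨c, hcc⟩
      have hd0 : d ≠ 0 := fun h => pow_ne_zero (2 * r + 1) ht' (by rw [hmain, h]; ring)
      refine ⟨c ^ (2 * r + 1) / (d * ti ^ r), ?_⟩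
      field_simp
      rw [show ti' = c * c from hcc] at hmain
      linear_combination -hmain
  rw [hti, hti'] at hiff
  have := (hs.symm.trans hiff).trans hs'
  cases s <;> simp at this

end Cfsg.Lib.ClassNumberO
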