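import Mathlib

/-! Class numbers of the kernel of a sign character. -/

set_option autoImplicit false
set_option linter.style.haveILetI false

namespace Cfsg.Lib.ClassNumberO

universe u

variable {G : Type u} [Group G] [Finite G] (χ : G →* ℤˣ)

/-- The element has its centraliser inside the kernel. -/
def Splits (x : G) : Prop := χ x = 1 ∧ ∀ y, Commute x y → χ y = 1

theorem splits_conj {x : G} (c : G) (h : Splits χ (c * x * c⁻¹)) : Splits χ x := by
  have e : ∀ t, χ (c * t * c⁻¹) = χ t := fun t => by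
    rw [map_mul, map_mul, map_inv, mul_right_comm, mul_inv_cancel, one_mul]
  refine ⟨(e x).symm.trans h.1, fun y hy => (e y).symm.trans (h.2 _ ((Commute.conj_iff c).2 hy))⟩

theorem index_two_bounds (hχ : ∃ z, χ z = -1) :
    Nat.card (ConjClasses G) ≤ 2 * Nat.card (ConjClasses χ.ker) ∧
      2 * Nat.card (ConjClasses χ.ker) ≤
        Nat.card (ConjClasses G) + 3 * Nat.card {C : ConjClasses G // Splits χ (Quotient.out C)} := by
  classical
  obtain ⟨z, hz⟩ := hχ
  let P : ℤˣ → ℤˣ → Type u := fun a b => {p : G × G // Commute p.1 p.2 ∧ χ p.1 = a ∧ χ p.2 = b}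
  have hne : (-1 : ℤˣ) ≠ 1 := by decide
  have hindex : Nat.card G = 2 * Nat.card χ.ker := by
    rw [← χ.ker.index_mul_card, Subgroup.index_ker, MonoidHom.range_eq_top.2 fun a => ?_, Subgroup.card_top,
      Nat.card_eq_fintype_card (α := ℤˣ), show Fintype.card ℤˣ = 2 from rfl]
    rcases Int.units_eq_one_or a with rfl | rfl
    exacts [⟨1, map_one χ⟩, ⟨z, hz⟩]
  have hG : Nat.card (ConjClasses G) * Nat.card G = Nat.card (P 1 1) + Nat.card (P 1 (-1)) + Nat.card (P (-1) 1) +
      Nat.card (P (-1) (-1)) := by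
    rw [← card_comm_eq_card_conjClasses_mul_card]
    let f : {p : G × G // Commute p.1 p.2} ≃ Σ ab : ℤˣ × ℤˣ, P ab.1 ab.2 :=
      { toFun := fun p => ⟨(χ p.1.1, χ p.1.2), ⟨p.1, p.2, rfl, rfl⟩⟩
        invFun := fun x => ⟨x.2.1, x.2.2.1⟩
        left_inv := fun p => rfl
        right_inv := fun x => by
          obtain ⟨⟨a, b⟩, p, hp, ha, hb⟩ := x
          simp only at ha hb
          subst ha; subst hb; rfl }
    haveI : ∀ ab : ℤˣ × ℤˣ, Finite (P ab.1 ab.2) := fun _ => Subtype.finite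
    rw [Nat.card_congr f, Nat.card_sigma, Fintype.sum_prod_type,
      show (Finset.univ : Finset ℤˣ) = {1, -1} from rfl, Finset.sum_pair hne.symm, Finset.sum_pair hne.symm,
      Finset.sum_pair hne.symm]
    ring
  have hswap : Nat.card (P (-1) 1) = Nat.card (P 1 (-1)) :=
    Nat.card_congr
      { toFun := fun p => ⟨(p.1.2, p.1.1), p.2.1.symm, p.2.2.2, p.2.2.1⟩
        invFun := fun p => ⟨(p.1.2, p.1.1), p.2.1.symm, p.2.2.2, p.2.2.1⟩
        left_inv := fun p => rfl
        right_inv := fun p => rfl }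
  have hshift : Nat.card (P (-1) (-1)) = Nat.card (P 1 (-1)) :=
    Nat.card_congr
      { toFun := fun p => ⟨(p.1.1 * p.1.2, p.1.2), p.2.1.mul_left (Commute.refl _), by rw [map_mul, p.2.2.1, p.2.2.2]; decide,
          p.2.2.2⟩
        invFun := fun p => ⟨(p.1.1 * p.1.2⁻¹, p.1.2), (p.2.1).mul_left (Commute.refl p.1.2).inv_left,
          by rw [map_mul, map_inv, p.2.2.1, p.2.2.2]; decide, p.2.2.2⟩
        left_inv := fun p => Subtype.ext (Prod.ext (mul_inv_cancel_right _ _) rfl)
        right_inv := fun p => Subtype.ext (Prod.ext (inv_mul_cancel_right _ _) rfl) }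
  have hH : Nat.card (ConjClasses χ.ker) * Nat.card χ.ker = Nat.card (P 1 1) := by
    rw [← card_comm_eq_card_conjClasses_mul_card]
    exact Nat.card_congr
      { toFun := fun p => ⟨((p.1.1 : G), (p.1.2 : G)), p.2.map χ.ker.subtype, p.1.1.2, p.1.2.2⟩
        invFun := fun p => ⟨(⟨p.1.1, p.2.2.1⟩, ⟨p.1.2, p.2.2.2⟩), Subtype.ext p.2.1⟩
        left_inv := fun p => rfl
        right_inv := fun p => rfl }
  let R := {p : G × G // Commute p.1 p.2 ∧ Splits χ p.1}
  have hns : ∀ x, χ x = 1 → ¬ Splits χ x → ∃ y, Commute x y ∧ χ y = -1 := fun x hx h => by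
    by_contra hcon
    push Not at hcon
    exact h ⟨hx, fun y hy => (Int.units_eq_one_or (χ y)).resolve_right (hcon y hy)⟩
  choose w hw using hns
  have hsum : Nat.card (P 1 1) = Nat.card (P 1 (-1)) + Nat.card R := by
    rw [← Nat.card_sum]
    exact Nat.card_congr
      { toFun := fun p => if h : Splits χ p.1.1 then Sum.inr ⟨p.1, p.2.1, h⟩ else
          Sum.inl ⟨(p.1.1, p.1.2 * w p.1.1 p.2.2.1 h), p.2.1.mul_right (hw p.1.1 p.2.2.1 h).1, p.2.2.1,
            (map_mul χ _ _).trans ((congrArg₂ (· * ·) p.2.2.2 (hw p.1.1 p.2.2.1 h).2).trans (one_mul _))⟩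
        invFun := Sum.elim
          (fun p => ⟨(p.1.1, p.1.2 * (w p.1.1 p.2.2.1 (fun h => hne (by rw [← p.2.2.2, h.2 _ p.2.1])))⁻¹),
            p.2.1.mul_right (hw _ _ _).1.inv_right, p.2.2.1,
            (map_mul χ _ _).trans ((congrArg₂ (· * ·) p.2.2.2 ((map_inv χ _).trans (congrArg Inv.inv (hw _ _ _).2))).trans (by decide))⟩)
          (fun p => ⟨p.1, p.2.1, p.2.2.1, p.2.2.2 _ p.2.1⟩)
        left_inv := fun p => by
          by_cases h : Splits χ p.1.1
          · simp [dif_pos h]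
          · simp [dif_neg h]
        right_inv := fun p => by
          rcases p with p | p
          · have h : ¬ Splits χ p.1.1 := fun h => hne (by rw [← p.2.2.2, h.2 _ p.2.1])
            simp [dif_neg h]
          · simp [dif_pos p.2.2] }
  have hR : Nat.card R ≤ Nat.card {C : ConjClasses G // Splits χ (Quotient.out C)} * Nat.card G := by
    rw [← Nat.card_prod]
    have hc : ∀ x : G, ∃ c : G, c * Quotient.out (ConjClasses.mk x) * c⁻¹ = x := fun x =>
      isConj_iff.1 (ConjClasses.mk_eq_mk_iff_isConj.1 (Quotient.out_eq (ConjClasses.mk x)))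
    choose c hc using hc
    let f : R → {C : ConjClasses G // Splits χ (Quotient.out C)} × G := fun p =>
      (⟨ConjClasses.mk p.1.1, splits_conj χ (c p.1.1) (by rw [hc]; exact p.2.2)⟩, p.1.2 * c p.1.1)
    refine Nat.card_le_card_of_injective f fun p p' h => ?_
    simp only [f, Prod.mk.injEq, Subtype.mk.injEq] at h
    obtain ⟨h1, h2⟩ := h
    have e : ∀ q : R, q.1.2 * c q.1.1 * Quotient.out (ConjClasses.mk q.1.1) * (q.1.2 * c q.1.1)⁻¹ = q.1.1 := fun q => by
      have hcomm := q.2.1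
      calc _ = q.1.2 * (c q.1.1 * Quotient.out (ConjClasses.mk q.1.1) * (c q.1.1)⁻¹) * q.1.2⁻¹ := by group
        _ = _ := by rw [hc, ← hcomm.eq, mul_inv_cancel_right]
    have hx : p.1.1 = p'.1.1 := by rw [← e p, ← e p', h1, h2]
    refine Subtype.ext (Prod.ext hx ?_)
    rw [hx] at h2
    exact mul_right_cancel h2
  have hpos : 0 < Nat.card χ.ker := Nat.card_pos
  constructor
  · refine Nat.le_of_mul_le_mul_left ?_ hpos
    nlinarith
  · refine Nat.le_of_mul_le_mul_left ?_ hpos
    nlinarith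

end Cfsg.Lib.ClassNumberO
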