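import Cfsg.Agent.Known.ClassNumberO.Model
import Cfsg.Agent.Known.ClassNumberSp.Decomp
import Mathlib

/-! Counting palindromic polynomials with prescribed square class at `1`, `-1`. -/

set_option autoImplicit false
set_option linter.style.haveILetI false

open Polynomial
open scoped Classical

namespace Cfsg.Lib.ClassNumberO

universe u

variable {F : Type u} [Field F]

/-- The coefficients of a palindromic polynomial from the lower ones. -/
noncomputable def palCoef {n : ℕ} (a : Fin n → F) (k : ℕ) : F :=
  if h : k - 1 < n then a ⟨k - 1, h⟩ else 0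

/-- The palindromic polynomial of degree `2 n` with given lower coefficients. -/
noncomputable def pal {n : ℕ} (a : Fin n → F) : F[X] :=
  X ^ (2 * n) + ∑ k ∈ Finset.range (2 * n),
    C (if k = 0 then 1 else if k ≤ n then palCoef a k else palCoef a (2 * n - k)) * X ^ k

theorem pal_coeff {n : ℕ} (hn : 1 ≤ n) (a : Fin n → F) (k : ℕ) : (pal a).coeff k =
    if k = 2 * n then 1 else if k = 0 then 1 else if k ≤ n then palCoef a k else
      if k < 2 * n then palCoef a (2 * n - k) else 0 := by
  simp only [pal, coeff_add, coeff_X_pow, finset_sum_coeff, coeff_C_mul]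
  by_cases hk : k < 2 * n
  · rw [Finset.sum_eq_single k (fun j _ hj => by rw [if_neg (Ne.symm hj), mul_zero])
      (fun h => absurd (Finset.mem_range.2 hk) h), if_pos rfl, mul_one]
    have hne : ¬ k = 2 * n := by omega
    simp only [hne, hk, if_false, if_true, zero_add]
  · rw [Finset.sum_eq_zero (fun j hj => by
      rw [if_neg (show ¬ k = j by have := Finset.mem_range.1 hj; omega), mul_zero]), add_zero]
    split_ifs <;> first | rfl | omega

theorem pal_props {n : ℕ} (hn : 1 ≤ n) (a : Fin n → F) :
    (pal a).Monic ∧ (pal a).natDegree = 2 * n ∧ (pal a).reverse = pal a := by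
  have h1 : (pal a).natDegree ≤ 2 * n := natDegree_le_iff_coeff_eq_zero.2 fun k hk => by
    rw [pal_coeff hn, if_neg (by omega), if_neg (by omega), if_neg (by omega), if_neg (by omega)]
  have h2 : (pal a).coeff (2 * n) = 1 := by rw [pal_coeff hn, if_pos rfl]
  have h3 : (pal a).natDegree = 2 * n := le_antisymm h1 (le_natDegree_of_ne_zero (by rw [h2]; exact one_ne_zero))
  refine ⟨by rw [Monic, leadingCoeff, h3, h2], h3, ?_⟩
  ext k
  rw [coeff_reverse, h3]
  rcases le_or_gt k (2 * n) with hk | hk
  · rw [revAt_le hk, pal_coeff hn, pal_coeff hn]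
    split_ifs <;> first | rfl | omega | (congr 1; omega)
  · rw [revAt_eq_self_of_lt hk]

theorem pal_injective {n : ℕ} (hn : 1 ≤ n) : Function.Injective (pal (F := F) (n := n)) := by
  intro a b h
  funext i
  have := congrArg (fun g : F[X] => g.coeff ((i : ℕ) + 1)) h
  simp only [pal_coeff hn] at this
  have hi := i.isLt
  rw [if_neg (by omega), if_neg (by omega), if_pos (by omega), if_neg (by omega), if_neg (by omega),
    if_pos (by omega)] at this
  simpa [palCoef, hi] using this

/-- The values at `1`, `-1` and the upper coefficients. -/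
noncomputable def valMap {m : ℕ} (a : Fin (m + 2) → F) : F × F × (Fin m → F) :=
  ((pal a).eval 1, (pal a).eval (-1), fun i => a ⟨(i : ℕ) + 2, by omega⟩)

theorem valMap_injective (h2 : (2 : F) ≠ 0) (m : ℕ) : Function.Injective (valMap (F := F) (m := m)) := by
  intro a b h
  simp only [valMap, Prod.mk.injEq] at h
  obtain ⟨h1, hm1, hrest⟩ := h
  set d0 : F := a ⟨0, by omega⟩ - b ⟨0, by omega⟩ with hd0
  set d1 : F := a ⟨1, by omega⟩ - b ⟨1, by omega⟩ with hd1
  have hdiff : pal a - pal b = C d0 * (X + X ^ (2 * (m + 2) - 1)) +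
      C d1 * (X ^ 2 + if m = 0 then 0 else X ^ (2 * (m + 2) - 2)) := by
    have hco : ∀ k, 1 ≤ k → k ≤ m + 2 → palCoef a k - palCoef b k = if k = 1 then d0 else if k = 2 then d1 else 0 := by
      intro k hk1 hk2
      simp only [palCoef, dif_pos (show k - 1 < m + 2 by omega)]
      split_ifs with e1 e2
      · subst e1; rfl
      · subst e2; rfl
      · have := congrFun hrest ⟨k - 3, by omega⟩
        simp only [show k - 3 + 2 = k - 1 by omega] at this
        rw [this, sub_self]
    ext k
    rw [coeff_sub, pal_coeff (by omega), pal_coeff (by omega)]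
    simp only [coeff_add, coeff_C_mul, coeff_X, coeff_X_pow]
    by_cases hm0 : m = 0
    · subst hm0
      simp only [if_true, coeff_zero, add_zero]
      rcases lt_trichotomy k 2 with hk | hk | hk
      · rcases Nat.eq_zero_or_pos k with rfl | hk0
        · simp
        · obtain rfl : k = 1 := by omega
          simp [hco 1 le_rfl (by omega)]
      · subst hk
        simp [hco 2 (by omega) le_rfl]
      · rcases (show k = 3 ∨ k = 4 ∨ 5 ≤ k by omega) with rfl | rfl | hk'
        · simp [hco 1 le_rfl (by omega)]
        · simp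
        · simp [show ¬ k = 4 by omega, show ¬ k = 0 by omega, show ¬ k ≤ 2 by omega, show ¬ k < 4 by omega,
            show ¬ (1 = k) by omega, show ¬ k = 3 by omega, show ¬ k = 2 by omega]
    · simp only [if_neg hm0, coeff_X_pow]
      split_ifs <;> first
        | omega
        | (simp; done)
        | (rw [hco _ (by omega) (by omega)]; split_ifs <;> first | omega | (simp; done))
        | (simp only [mul_zero, mul_one, add_zero, zero_add, sub_zero]; rw [hco _ (by omega) (by omega)];
           split_ifs <;> first | omega | rfl)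
  have e1 := congrArg (Polynomial.eval 1) hdiff
  have e2 := congrArg (Polynomial.eval (-1)) hdiff
  have hodd : (-1 : F) ^ (2 * (m + 2) - 1) = -1 := Odd.neg_one_pow ⟨m + 1, by omega⟩
  have hev : (-1 : F) ^ (2 * (m + 2) - 2) = 1 := Even.neg_one_pow ⟨m + 1, by omega⟩
  simp only [eval_sub, h1, hm1, sub_self, eval_add, eval_mul, eval_C, eval_pow, eval_X, one_pow, hodd, neg_sq] at e1 e2
  have hz : d0 = 0 ∧ d1 = 0 := by
    by_cases hm0 : m = 0
    · simp only [if_pos hm0, eval_zero, add_zero, mul_one] at e1 e2
      have h22 : (2 : F) * 2 ≠ 0 := mul_ne_zero h2 h2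
      exact ⟨(mul_eq_zero.1 (by linear_combination e2 - e1 : (2 * 2 : F) * d0 = 0)).resolve_left h22,
        (mul_eq_zero.1 (by linear_combination -e1 - e2 : (2 : F) * d1 = 0)).resolve_left h2⟩
    · simp only [if_neg hm0, eval_pow, eval_X, one_pow, hev] at e1 e2
      have h22 : (2 : F) * 2 ≠ 0 := mul_ne_zero h2 h2
      exact ⟨(mul_eq_zero.1 (by linear_combination e2 - e1 : (2 * 2 : F) * d0 = 0)).resolve_left h22,
        (mul_eq_zero.1 (by linear_combination -e1 - e2 : (2 * 2 : F) * d1 = 0)).resolve_left h22⟩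
  funext i
  obtain ⟨i, hi⟩ := i
  rcases i with _ | _ | i
  · exact sub_eq_zero.1 hz.1
  · exact sub_eq_zero.1 hz.2
  · exact congrFun hrest ⟨i, by omega⟩

/-- The square-class condition on values. -/
def GoodPair (d : F) (x y : F) : Prop := x = 0 ∨ y = 0 ∨ IsSquare (x * y * d)

theorem card_good_pairs [Fintype F] {d : F} (hd : d ≠ 0) :
    Fintype.card F ^ 2 ≤ 2 * Nat.card {p : F × F // GoodPair d p.1 p.2} := by
  classical
  have hrow : ∀ x : F, Fintype.card F ≤ 2 * Fintype.card {y : F // GoodPair d x y} := by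
    intro x
    by_cases hx : x = 0
    · rw [Fintype.card_congr (Equiv.subtypeUnivEquiv (p := fun y => GoodPair d x y) fun y => Or.inl hx)]
      omega
    · have hxd : x * d ≠ 0 := mul_ne_zero hx hd
      let s : F → {y : F // GoodPair d x y} := fun t => ⟨t * t / (x * d), Or.inr (Or.inr ⟨t, by field_simp⟩)⟩
      rw [← Finset.card_univ, ← Finset.card_univ]
      refine Finset.card_le_mul_card_image_of_maps_to (f := s) (fun t _ => Finset.mem_univ _) 2 fun y _ => ?_
      by_cases hne : ∃ t, s t = y
      · obtain ⟨t, rfl⟩ := hne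
        refine le_trans (Finset.card_le_card (t := {t, -t}) fun t' ht' => ?_) Finset.card_le_two
        rw [Finset.mem_filter] at ht'
        have h := congrArg Subtype.val ht'.2
        simp only [s] at h
        field_simp at h
        rcases mul_self_eq_mul_self_iff.1 (by linear_combination h : t' * t' = t * t) with e | e <;> simp [e]
      · rw [Finset.filter_false_of_mem fun t _ h => hne ⟨t, h⟩, Finset.card_empty]
        omega
  have h := Finset.sum_le_sum (s := Finset.univ) fun x (_ : x ∈ Finset.univ) => hrow x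
  rw [Finset.sum_const, Finset.card_univ, smul_eq_mul, ← Finset.mul_sum] at h
  rw [Nat.card_eq_fintype_card, Fintype.card_congr (Equiv.subtypeProdEquivSigmaSubtype fun x y : F => GoodPair d x y),
    Fintype.card_sigma, sq]
  exact h

theorem card_good [Fintype F] (h2 : (2 : F) ≠ 0) {d : F} (hd : d ≠ 0) (n : ℕ) (hn : 2 ≤ n) :
    Fintype.card F ^ n ≤ 2 * Nat.card {a : Fin n → F // GoodPair d ((pal a).eval 1) ((pal a).eval (-1))} := by
  classical
  obtain ⟨m, rfl⟩ : ∃ m, n = m + 2 := ⟨n - 2, by omega⟩
  have hbij : Function.Bijective (valMap (F := F) (m := m)) := by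
    refine (Fintype.bijective_iff_injective_and_card _).2 ⟨valMap_injective h2 m, ?_⟩
    simp [pow_add]; ring
  let e := Equiv.ofBijective _ hbij
  have hcard : Nat.card {a : Fin (m + 2) → F // GoodPair d ((pal a).eval 1) ((pal a).eval (-1))} =
      Nat.card ({p : F × F // GoodPair d p.1 p.2} × (Fin m → F)) :=
    Nat.card_congr ((e.subtypeEquiv fun a => Iff.rfl : _ ≃ {x : F × F × (Fin m → F) // GoodPair d x.1 x.2.1}).trans
      { toFun := fun x => (⟨(x.1.1, x.1.2.1), x.2⟩, x.1.2.2)
        invFun := fun x => ⟨(x.1.1.1, x.1.1.2, x.2), x.1.2⟩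
        left_inv := fun x => rfl
        right_inv := fun x => rfl })
  rw [hcard, Nat.card_prod, Nat.card_eq_fintype_card (α := Fin m → F), Fintype.card_fun, Fintype.card_fin, pow_add]
  have := card_good_pairs hd
  nlinarith [Nat.zero_le (Fintype.card F ^ m)]

/-- The lower bound. -/
theorem le_card_classes [Fintype F] (h2 : (2 : F) ≠ 0) {ι : Type} [Fintype ι] [DecidableEq ι] (Q : QuadraticForm F (ι → F))
    (hQ : (QuadraticMap.polarBilin Q).Nondegenerate) (n : ℕ) (hn : 2 ≤ n) (hι : Fintype.card ι = 2 * n) :
    Fintype.card F ^ n ≤ 2 * Nat.card (ConjClasses (Cfsg.isometryGroup F (⇑Q))) := by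
  classical
  set dQ := (LinearMap.BilinForm.toMatrix (Pi.basisFun F ι) (QuadraticMap.polarBilin Q)).det
  have hdQ : dQ ≠ 0 := (LinearMap.BilinForm.nondegenerate_iff_det_ne_zero _).mp hQ
  refine (card_good h2 hdQ n hn).trans (Nat.mul_le_mul_left 2 ?_)
  choose x hx using fun a : {a : Fin n → F // GoodPair dQ ((pal a).eval 1) ((pal a).eval (-1))} =>
    exists_isometry h2 Q hQ n (by omega) hι (pal a.1) (pal_props (by omega) _).1 (pal_props (by omega) _).2.1
      (pal_props (by omega) _).2.2 a.2
  refine Nat.card_le_card_of_injective (fun a => ConjClasses.mk (x a)) fun a b h => ?_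
  obtain ⟨c, hc⟩ := isConj_iff.1 (ConjClasses.mk_eq_mk_iff_isConj.1 h)
  refine Subtype.ext (pal_injective (by omega) ?_)
  rw [← hx a, ← hx b, ← hc]
  simp only [Subgroup.coe_mul, Subgroup.coe_inv, Units.val_mul, Matrix.coe_units_inv]
  rw [Matrix.charpoly_mul_comm, ← Matrix.mul_assoc, Matrix.nonsing_inv_mul _
    ((Matrix.isUnit_iff_isUnit_det _).1 (Units.isUnit _)), Matrix.one_mul]

end Cfsg.Lib.ClassNumberO
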