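import Cfsg.Agent.Known.SympModel
import Cfsg.Agent.Classical.Misc.OrthUnipotentModels
import Cfsg.Agent.Known.ClassNumberSp.Decomp
import Mathlib

/-! Palindromic polynomials as characteristic polynomials of isometries of symmetric forms. -/

set_option autoImplicit false
set_option linter.style.haveILetI false

open Polynomial Matrix Cfsg.Lib.Classical

namespace Cfsg.Lib.ClassNumberO

universe u

variable {F : Type u} [Field F]

theorem det_J (w : ℕ) : (Matrix.J (Fin w) F).det = 1 := by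
  have h : Matrix.J (Fin w) F = Matrix.fromBlocks 1 (-1) 0 1 * Matrix.fromBlocks 1 0 1 1 * Matrix.fromBlocks 1 (-1) 0 1 := by
    simp [Matrix.J, Matrix.fromBlocks_multiply]
  rw [h, Matrix.det_mul, Matrix.det_mul, Matrix.det_fromBlocks_zero₂₁, Matrix.det_fromBlocks_zero₁₂]
  simp

/-- The regular part: a symmetric Gram matrix. -/
theorem regular_gram (w : ℕ) (A : symplecticGroup (Fin w) F) {f : F[X]}
    (hf : (A : Matrix (Fin w ⊕ Fin w) (Fin w ⊕ Fin w) F).charpoly = f) (h0 : f.coeff 0 = 1) :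
    ∃ S : Matrix (Fin w ⊕ Fin w) (Fin w ⊕ Fin w) F, Sᵀ = S ∧
      (A : Matrix (Fin w ⊕ Fin w) (Fin w ⊕ Fin w) F)ᵀ * S * (A : Matrix (Fin w ⊕ Fin w) (Fin w ⊕ Fin w) F) = S ∧
      S.det = f.eval 1 * f.eval (-1) := by
  set M : Matrix (Fin w ⊕ Fin w) (Fin w ⊕ Fin w) F := ↑A with hM
  set J := Matrix.J (Fin w) F with hJ
  have hAJ : Mᵀ * J * M = J := SymplecticGroup.mem_iff'.1 A.2
  have hev : Even (Fintype.card (Fin w ⊕ Fin w)) := ⟨w, by simp⟩
  have hdet : M.det = 1 := by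
    rw [Matrix.det_eq_sign_charpoly_coeff, hf, h0, mul_one, hev.neg_one_pow]
  have hu : IsUnit M.det := hdet ▸ isUnit_one
  have hTu : IsUnit Mᵀ.det := by rw [Matrix.det_transpose]; exact hu
  have h1 : Mᵀ * J = J * M⁻¹ := by
    conv_rhs => rw [← hAJ, Matrix.mul_assoc (Mᵀ * J), Matrix.mul_nonsing_inv _ hu, Matrix.mul_one]
  have h2 : (M⁻¹)ᵀ * J = J * M := by
    conv_lhs => rw [← hAJ, Matrix.transpose_nonsing_inv, ← Matrix.mul_assoc, ← Matrix.mul_assoc,
      Matrix.nonsing_inv_mul _ hTu, Matrix.one_mul]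
  refine ⟨J * (M - M⁻¹), ?_, ?_, ?_⟩
  · rw [Matrix.transpose_mul, Matrix.transpose_sub, hJ, Matrix.J_transpose, ← hJ, Matrix.sub_mul, Matrix.mul_neg,
      Matrix.mul_neg, h1, h2, Matrix.mul_sub]
    abel
  · have hc : (M - M⁻¹) * M = M * (M - M⁻¹) := by
      rw [Matrix.sub_mul, Matrix.mul_sub, Matrix.nonsing_inv_mul _ hu, Matrix.mul_nonsing_inv _ hu]
    rw [← Matrix.mul_assoc, Matrix.mul_assoc (Mᵀ * J), hc, ← Matrix.mul_assoc, hAJ]
  · have e : M * (M - M⁻¹) = (Matrix.scalar _ (1 : F) - M) * (Matrix.scalar _ (-1 : F) - M) := by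
      rw [Matrix.mul_sub, Matrix.mul_nonsing_inv _ hu]
      simp only [map_one, map_neg, Matrix.mul_sub, Matrix.sub_mul, Matrix.mul_neg, Matrix.neg_mul, Matrix.one_mul,
        Matrix.mul_one]
      abel
    have h3 := congrArg Matrix.det e
    rw [Matrix.det_mul, hdet, one_mul, Matrix.det_mul, ← Matrix.eval_charpoly, ← Matrix.eval_charpoly, hf] at h3
    rw [Matrix.det_mul, hJ, det_J, one_mul, h3]

/-- Splitting a palindromic polynomial at the roots `1`, `-1`. -/
theorem split_pm (h2 : (2 : F) ≠ 0) (n : ℕ) (f : F[X]) (hf : f.Monic) (hd : f.natDegree = 2 * n) (hrev : f.reverse = f) :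
    ∃ (i j w : ℕ) (g : F[X]), f = (X - C 1) ^ (2 * i) * ((X - C (-1)) ^ (2 * j) * g) ∧ g.Monic ∧
      g.natDegree = 2 * w ∧ g.reverse = g ∧ g.eval 1 ≠ 0 ∧ g.eval (-1) ≠ 0 ∧ n = i + j + w := by
  classical
  obtain ⟨q1, hq1, hq1r⟩ := exists_eq_pow_rootMultiplicity_mul_and_not_dvd f hf.ne_zero 1
  set i := f.rootMultiplicity 1 with hi
  have hq1m : q1.Monic := ((monic_X_sub_C (1 : F)).pow i).of_mul_monic_left (hq1 ▸ hf)
  obtain ⟨g, hg, hgr⟩ := exists_eq_pow_rootMultiplicity_mul_and_not_dvd q1 hq1m.ne_zero (-1)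
  set j := q1.rootMultiplicity (-1) with hj
  have hgm : g.Monic := ((monic_X_sub_C (-1 : F)).pow j).of_mul_monic_left (hg ▸ hq1m)
  rw [dvd_iff_isRoot, IsRoot.def] at hq1r hgr
  have hg1 : g.eval 1 ≠ 0 := fun h => hq1r (by rw [hg, eval_mul, h, mul_zero])
  have hfg : f = (X - C 1) ^ i * ((X - C (-1)) ^ j * g) := by rw [hq1, hg]
  have hne : ∀ (c : F) (k : ℕ), (X - C c) ^ k ≠ 0 := fun c k => pow_ne_zero _ (X_sub_C_ne_zero c)
  have hp1 := ClassNumberSp.reverse_linear_pow (F := F) true i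
  have hp2 := ClassNumberSp.reverse_linear_pow (F := F) false j
  simp only [ClassNumberSp.sgn, if_true, Bool.false_eq_true, if_false, neg_neg, one_pow] at hp1 hp2
  have hgrev : g.reverse = C ((-1 : F) ^ i) * g := by
    have h := hrev
    rw [hfg, reverse_mul_of_domain, reverse_mul_of_domain, hp1, hp2, map_one C, one_mul] at h
    have h' : (X - C 1) ^ i * ((X - C (-1)) ^ j * (C ((-1 : F) ^ i) * g.reverse)) =
        (X - C 1) ^ i * ((X - C (-1)) ^ j * g) := by
      simp only [map_one] at h ⊢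
      rw [← h]; ring
    have h'' := mul_left_cancel₀ (hne _ _) (mul_left_cancel₀ (hne _ _) h')
    rw [← h'', ← mul_assoc, ← map_mul, ← mul_pow, neg_mul_neg, one_mul, one_pow, map_one, one_mul, h'']
  have hm1 : (-1 : F) ≠ 1 := fun h => h2 (by linear_combination -h)
  have hie : Even i := by
    by_contra ho
    rw [Nat.not_even_iff_odd] at ho
    have h := congrArg (Polynomial.eval 1) hgrev
    rw [eval_C_mul, ClassNumberSp.eval_one_reverse, ho.neg_one_pow] at h
    exact hg1 ((mul_eq_zero.1 (by linear_combination h : (2 : F) * g.eval 1 = 0)).resolve_left h2)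
  rw [hie.neg_one_pow, C_1, one_mul] at hgrev
  have hge : Even g.natDegree := by
    by_contra ho
    rw [Nat.not_even_iff_odd] at ho
    have h1 := ClassNumberSU.aeval_reverse (K := F) (-1 : F) (-1) (by ring) (Commute.all _ _) g
    rw [hgrev, ho.neg_one_pow, coe_aeval_eq_eval] at h1
    exact hgr ((mul_eq_zero.1 (by linear_combination -h1 : (2 : F) * g.eval (-1) = 0)).resolve_left h2)
  have hdeg : f.natDegree = i + (j + g.natDegree) := by
    conv_lhs => rw [hfg]
    rw [((monic_X_sub_C _).pow _).natDegree_mul (((monic_X_sub_C _).pow _).mul hgm),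
      ((monic_X_sub_C _).pow _).natDegree_mul hgm, natDegree_pow, natDegree_pow, natDegree_X_sub_C, natDegree_X_sub_C,
      mul_one, mul_one]
  obtain ⟨i', hi'⟩ := hie
  obtain ⟨w, hw⟩ := hge
  obtain ⟨j', hj'⟩ : ∃ j', j = 2 * j' := ⟨n - i' - w, by omega⟩
  exact ⟨i', j', w, g, by rw [hfg, hi', hj', two_mul i'], hgm, by omega, hgrev, hg1, hgr, by omega⟩

/-- The realisation in a prescribed form. -/
theorem exists_isometry_add [Fintype F] (h2 : (2 : F) ≠ 0) {ι : Type} [Fintype ι] [DecidableEq ι]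
    (Q : QuadraticForm F (ι → F)) (hQ : (QuadraticMap.polarBilin Q).Nondegenerate) (n t : ℕ) (hn : 1 ≤ n)
    (hι : Fintype.card ι = 2 * n + t) (f : F[X]) (hf : f.Monic) (hd : f.natDegree = 2 * n) (hrev : f.reverse = f)
    (hcond : 0 < t ∨ f.eval 1 = 0 ∨ f.eval (-1) = 0 ∨
      IsSquare (f.eval 1 * f.eval (-1) * (LinearMap.BilinForm.toMatrix (Pi.basisFun F ι) (QuadraticMap.polarBilin Q)).det)) :
    ∃ x : Cfsg.isometryGroup F (⇑Q), ((x : GL ι F) : Matrix ι ι F).charpoly = (X - C 1) ^ t * f := by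
  classical
  obtain ⟨p, hp⟩ := CharP.exists F
  haveI : Fact p.Prime := ⟨CharP.char_is_prime F p⟩
  obtain ⟨i, j, w, g, hfg, hgm, hgd, hgr, hg1, hg2, hnw⟩ := split_pm h2 n f hf hd hrev
  obtain ⟨A, -, hA⟩ := SympModel.exists_model p w g hgm hgd hgr
  have hg0 : g.coeff 0 = 1 := by
    conv_lhs => rw [← hgr]
    rw [coeff_zero_reverse]; exact hgm
  obtain ⟨S, hSt, hAS, hSdet⟩ := regular_gram w A hA hg0
  set κ := Fin (2 * i + t) ⊕ Fin (2 * j)
  let ε : κ → F := Sum.elim (fun _ => 1) fun _ => -1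
  set dQ := (LinearMap.BilinForm.toMatrix (Pi.basisFun F ι) (QuadraticMap.polarBilin Q)).det with hdQd
  have hdQ : dQ ≠ 0 := (LinearMap.BilinForm.nondegenerate_iff_det_ne_zero _).mp hQ
  have hS0 : S.det ≠ 0 := by rw [hSdet]; exact mul_ne_zero hg1 hg2
  obtain ⟨c, hc0, hc⟩ : ∃ c : κ → F, (∀ k, c k ≠ 0) ∧ IsSquare (S.det * (∏ k, c k) * dQ) := by
    rcases isEmpty_or_nonempty κ with hκ | ⟨⟨k0⟩⟩
    · refine ⟨fun _ => 1, fun _ => one_ne_zero, ?_⟩
      have hij : i = 0 ∧ j = 0 ∧ t = 0 := by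
        refine ⟨?_, ?_, ?_⟩ <;> by_contra h
        · exact hκ.false (Sum.inl ⟨0, by omega⟩)
        · exact hκ.false (Sum.inr ⟨0, by omega⟩)
        · exact hκ.false (Sum.inl ⟨0, by omega⟩)
      obtain ⟨rfl, rfl, rfl⟩ := hij
      simp only [mul_zero, pow_zero, one_mul] at hfg
      subst hfg
      rw [Finset.prod_const_one, mul_one, hSdet]
      exact ((hcond.resolve_left (lt_irrefl 0)).resolve_left hg1).resolve_left hg2
    · refine ⟨fun k => if k = k0 then S.det * dQ else 1, fun k => ?_, ⟨S.det * dQ, ?_⟩⟩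
      · dsimp only; split_ifs; exacts [mul_ne_zero hS0 hdQ, one_ne_zero]
      rw [Finset.prod_ite_eq' Finset.univ k0 (fun _ => S.det * dQ), if_pos (Finset.mem_univ _)]
      ring
  let G : Matrix ((Fin w ⊕ Fin w) ⊕ κ) ((Fin w ⊕ Fin w) ⊕ κ) F := Matrix.fromBlocks S 0 0 (Matrix.diagonal c)
  let T : Matrix ((Fin w ⊕ Fin w) ⊕ κ) ((Fin w ⊕ Fin w) ⊕ κ) F := Matrix.fromBlocks ↑A 0 0 (Matrix.diagonal ε)
  have hTG : Tᵀ * G * T = G := by
    have hd : ∀ k, ε k * c k * ε k = c k := fun k => by rcases k with k | k <;> simp [ε]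
    simp [T, G, Matrix.fromBlocks_transpose, Matrix.fromBlocks_multiply, hAS, Matrix.diagonal_mul_diagonal, hd]
  have hGt : Gᵀ = G := by simp [G, Matrix.fromBlocks_transpose, hSt]
  have hGdet : G.det = S.det * ∏ k, c k := by
    simp only [G, Matrix.det_fromBlocks_zero₂₁, Matrix.det_diagonal]
  let P : QuadraticForm F ((Fin w ⊕ Fin w) ⊕ κ → F) :=
    LinearMap.BilinMap.toQuadraticMap ((2 : F)⁻¹ • Matrix.toBilin' G)
  have hPval : ∀ v, P v = (2 : F)⁻¹ * Matrix.toBilin' G v v := fun v => rfl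
  have hsymm : ∀ u v, Matrix.toBilin' G u v = Matrix.toBilin' G v u := fun u v => by
    rw [Matrix.toBilin'_apply', Matrix.toBilin'_apply', dotProduct_mulVec, ← Matrix.mulVec_transpose, hGt,
      dotProduct_comm]
  have hPp : ∀ u v, QuadraticMap.polar (⇑P) u v = Matrix.toBilin' G u v := fun u v => by
    simp only [QuadraticMap.polar, hPval, map_add, LinearMap.add_apply, hsymm v u]
    field_simp; ring
  have hPm : LinearMap.BilinForm.toMatrix (Pi.basisFun F _) (QuadraticMap.polarBilin P) = G := by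
    ext a b
    rw [LinearMap.BilinForm.toMatrix_apply, QuadraticMap.polarBilin_apply_apply, hPp]
    simp
  have hPnd : (QuadraticMap.polarBilin P).Nondegenerate :=
    (LinearMap.BilinForm.nondegenerate_iff_det_ne_zero (Pi.basisFun F _)).mpr (by
      rw [hPm, hGdet]; exact mul_ne_zero hS0 (Finset.prod_ne_zero_iff.2 fun k _ => hc0 k))
  have hcard : Fintype.card ι = Fintype.card ((Fin w ⊕ Fin w) ⊕ κ) := by
    simp [κ]; omega
  obtain ⟨φ, hφ⟩ := OrthUni.equiv_of_disc Q P h2 hQ hPnd (by simp [hcard])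
    (by simp; omega) (Pi.basisFun F ι) (Pi.basisFun F _) (by
      rw [hPm, hGdet, ← hdQd, mul_comm]; exact hc)
  let a : Module.End F (ι → F) := φ.symm.conj (Matrix.toLin' T)
  have ha : ∀ v, Q (a v) = Q v := fun v => by
    rw [← hφ, ← hφ v]
    show P (φ (φ.symm (Matrix.toLin' T (φ.symm.symm v)))) = _
    rw [LinearEquiv.apply_symm_apply, LinearEquiv.symm_symm, hPval, hPval]
    congr 1
    rw [Matrix.toBilin'_apply', Matrix.toBilin'_apply', Matrix.toLin'_apply, dotProduct_mulVec,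
      Matrix.vecMul_mulVec, ← dotProduct_mulVec, Matrix.mulVec_mulVec, hTG]
  set R := LinearMap.toMatrix' a with hR
  have hRu : IsUnit R := by
    rw [← Matrix.mulVec_injective_iff_isUnit]
    intro x y hxy
    rw [hR, LinearMap.toMatrix'_mulVec, LinearMap.toMatrix'_mulVec] at hxy
    refine sub_eq_zero.1 (hQ.1 (x - y) fun z => ?_)
    have hiso : ∀ u v, QuadraticMap.polar (⇑Q) (a u) (a v) = QuadraticMap.polar (⇑Q) u v := fun u v => by
      simp only [QuadraticMap.polar, ← map_add, ha]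
    rw [QuadraticMap.polarBilin_apply_apply, ← hiso, map_sub, hxy, sub_self, QuadraticMap.polar_zero_left]
  obtain ⟨r, hr⟩ := hRu
  refine ⟨⟨r, fun x _ => ?_⟩, ?_⟩
  · show Q ((r : Matrix ι ι F).mulVec x) = Q x
    rw [hr, hR, LinearMap.toMatrix'_mulVec]
    exact ha x
  · show (r : Matrix ι ι F).charpoly = (X - C 1) ^ t * f
    rw [hr, hR, ← Matrix.charpoly_toLin', Matrix.toLin'_toMatrix', LinearEquiv.charpoly_conj, Matrix.charpoly_toLin']
    simp only [T, Matrix.charpoly_fromBlocks_zero₂₁, Matrix.charpoly_diagonal, hA, κ, ε, Fintype.prod_sum_type,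
      Sum.elim_inl, Sum.elim_inr, Finset.prod_const, Finset.card_univ, Fintype.card_fin]
    rw [hfg]; ring

/-- The realisation in a prescribed form of even dimension. -/
theorem exists_isometry [Fintype F] (h2 : (2 : F) ≠ 0) {ι : Type} [Fintype ι] [DecidableEq ι] (Q : QuadraticForm F (ι → F))
    (hQ : (QuadraticMap.polarBilin Q).Nondegenerate) (n : ℕ) (hn : 1 ≤ n) (hι : Fintype.card ι = 2 * n) (f : F[X])
    (hf : f.Monic) (hd : f.natDegree = 2 * n) (hrev : f.reverse = f)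
    (hcond : f.eval 1 = 0 ∨ f.eval (-1) = 0 ∨
      IsSquare (f.eval 1 * f.eval (-1) * (LinearMap.BilinForm.toMatrix (Pi.basisFun F ι) (QuadraticMap.polarBilin Q)).det)) :
    ∃ x : Cfsg.isometryGroup F (⇑Q), ((x : GL ι F) : Matrix ι ι F).charpoly = f := by
  obtain ⟨x, hx⟩ := exists_isometry_add h2 Q hQ n 0 hn (by omega) f hf hd hrev (Or.inr hcond)
  exact ⟨x, by rw [hx, pow_zero, one_mul]⟩

end Cfsg.Lib.ClassNumberO
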