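import Cfsg.Agent.Known.ClassNumberO.OddSeries
import Cfsg.Agent.Known.ClassNumberO.IndexTwo
import Cfsg.Agent.Known.ClassNumberO.BlockTorus
import Cfsg.Agent.Known.ClassNumberO.Lower
import Mathlib

/-! The class number bounds for the commutator subgroup of an odd orthogonal group. -/

set_option autoImplicit false
set_option linter.style.haveILetI false
set_option linter.unusedSectionVars false

open Polynomial Cfsg.Lib.Classical.Refl
open scoped Classical

namespace Cfsg.Lib.ClassNumberO

open ClassNumberSp (Key sgn Piece Normal numNsq)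

universe u

variable {F : Type u} [Field F] [Fintype F] [DecidableEq F] {ι : Type} [Fintype ι] [DecidableEq ι]

section Odd

variable (Q : QuadraticForm F (ι → F))

/-- Negation as an isometry. -/
def negId : Cfsg.isometryGroup F (⇑Q) :=
  ⟨-1, (mem_iff Q).mpr fun x => by
    show Q ((((-1 : GL ι F)) : Matrix ι ι F).mulVec x) = Q x
    rw [Units.val_neg, Units.val_one, Matrix.neg_mulVec, Matrix.one_mulVec, QuadraticMap.map_neg]⟩

theorem negId_central (g : Cfsg.isometryGroup F (⇑Q)) : Commute (negId Q) g :=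
  Subtype.ext (by show (-1 : GL ι F) * g = g * -1; rw [neg_one_mul, mul_neg_one])

theorem negId_mul_self : negId Q * negId Q = 1 :=
  Subtype.ext (by show (-1 : GL ι F) * -1 = 1; rw [neg_mul_neg, one_mul])

theorem det_negId (hodd : Odd (Fintype.card ι)) : detHom Q (negId Q) = -1 := by
  refine Units.ext ?_
  show ((-1 : GL ι F) : Matrix ι ι F).det = ((-1 : Fˣ) : F)
  rw [Units.val_neg, Units.val_one, Matrix.det_neg, Matrix.det_one, hodd.neg_one_pow]
  simp

theorem ker_conj (hodd : Odd (Fintype.card ι)) (h2 : (2 : F) ≠ 0) (hQ : (QuadraticMap.polarBilin Q).Nondegenerate) (x y : (detHom Q).ker)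
    (h : IsConj (x : Cfsg.isometryGroup F (⇑Q)) y) : IsConj x y := by
  obtain ⟨c, hc⟩ := isConj_iff.1 h
  have hd := det_negId Q hodd
  have hcd : detHom Q c = 1 ∨ detHom Q c = -1 := by
    rcases det_sq Q hQ c with e | e
    · exact Or.inl (Units.ext e)
    · exact Or.inr (Units.ext e)
  rcases hcd with h1 | h1
  · exact isConj_iff.2 ⟨⟨c, h1⟩, Subtype.ext hc⟩
  · refine isConj_iff.2 ⟨⟨negId Q * c, MonoidHom.mem_ker.2 (by rw [map_mul, hd, h1, neg_mul_neg, one_mul])⟩, Subtype.ext ?_⟩
    show negId Q * c * x * (negId Q * c)⁻¹ = y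
    rw [mul_inv_rev, ← hc]
    calc negId Q * c * x * (c⁻¹ * (negId Q)⁻¹) = negId Q * (c * x * c⁻¹) * (negId Q)⁻¹ := by group
      _ = _ := by rw [(negId_central Q _).eq, mul_inv_cancel_right]

/-- An element commutes with a rotation outside the spinor kernel. -/
def BadCent (g : Cfsg.isometryGroup F (⇑Q)) : Prop :=
  ∃ z : Cfsg.isometryGroup F (⇑Q), detHom Q z = 1 ∧ spin Q z = -1 ∧ Commute g z

theorem badCent_conj {g h : Cfsg.isometryGroup F (⇑Q)} (hc : IsConj g h) (hg : BadCent Q g) : BadCent Q h := by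
  obtain ⟨c, rfl⟩ := isConj_iff.1 hc
  obtain ⟨z, h1, h2, h3⟩ := hg
  refine ⟨c * z * c⁻¹, ?_, ?_, (Commute.conj_iff c).2 h3⟩
  · rw [map_mul, map_mul, map_inv, mul_right_comm, mul_inv_cancel, one_mul, h1]
  · rw [map_mul, map_mul, map_inv, mul_right_comm, mul_inv_cancel, one_mul, h2]

theorem badCent_neg {g : Cfsg.isometryGroup F (⇑Q)} (hg : BadCent Q (g * negId Q)) : BadCent Q g := by
  obtain ⟨z, h1, h2, h3⟩ := hg
  refine ⟨z, h1, h2, ?_⟩
  have := h3.mul_left (negId_central Q z)
  rwa [mul_assoc, negId_mul_self, mul_one] at this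

/-- Twice the number of classes of a family is bounded by the labels. -/
theorem two_mul_card_family (h2 : (2 : F) ≠ 0) (hQ : (QuadraticMap.polarBilin Q).Nondegenerate) {N : ℕ}
    (hM : Fintype.card ι = N + 1) (hN : Even N) :
    2 * Nat.card (ConjClasses (Cfsg.isometryGroup F (⇑Q))) ≤ ∑ p ∈ patterns (N + 1) Finset.univ, Fintype.card F ^ ∑ i, p.1 i ∧
    2 * Nat.card {C : ConjClasses (Cfsg.isometryGroup F (⇑Q)) // ¬ BadCent Q (Quotient.out C)} ≤
      ∑ p ∈ patterns (N + 1) Finset.univ, restTerm (Fintype.card F) p.1 := by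
  classical
  have hnd : ∀ x, (∀ y, QuadraticMap.polarBilin Q x y = 0) → x = 0 := hQ.1
  have hB : ∀ u w, QuadraticMap.polarBilin Q u w = QuadraticMap.polarBilin Q w u := fun u w => by
    simp only [QuadraticMap.polarBilin_apply_apply, QuadraticMap.polar_comm]
  have hdec : ∀ C : ConjClasses (Cfsg.isometryGroup F (⇑Q)), ∃ L, Dec (QuadraticMap.polarBilin Q)
      (Matrix.toLin' (((Quotient.out C : Cfsg.isometryGroup F (⇑Q)) : GL ι F) : Matrix ι ι F)) L ⊤ ∧ Normal L := fun C =>
    exists_dec (isom_toLin Q _) hB h2 _ ⊤ ⟨fun _ _ _ => Submodule.mem_top, fun x _ h => hnd x fun y => h y Submodule.mem_top⟩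
      le_rfl
  choose L hL hLn using hdec
  let l : ConjClasses (Cfsg.isometryGroup F (⇑Q)) → Multiset (Key F) := fun C => ↑(L C)
  have hinj : Function.Injective l := fun C C' h => by
    rw [← Quotient.out_eq C, ← Quotient.out_eq C']
    exact Quotient.sound (isConj_of_dec Q h2 _ _ (hL C) (hL C') hnd (Multiset.coe_eq_coe.1 h))
  have hv : ∀ C, ∀ k ∈ l C, Valid k := fun C k hk => dec_valid (hL C) (Multiset.mem_coe.1 hk)
  have hn : ∀ C b e, numNsq (l C) b e ≤ 1 := fun C => numNsq_le_one (hLn C)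
  have hsz : ∀ C, ((l C).map ClassNumberSp.Key.size).sum = N + 1 := fun C => by
    rw [Multiset.map_coe, Multiset.sum_coe, ← (hL C).finrank (isom_toLin Q _) hB h2, finrank_top, Module.finrank_pi, hM]
  have hs : ∀ C, HasSingle (l C) := fun C => hasSingle_of_odd h2 (hv C) (hn C) (hsz C) hN.add_one
  let Φ : Bool × ConjClasses (Cfsg.isometryGroup F (⇑Q)) → Multiset (Key F) :=
    fun p => if p.1 then toggle (l p.2) else l p.2
  have hΦ : Function.Injective Φ := by
    have key : ∀ C C', l C ≠ toggle (l C') := by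
      intro C C' heq
      obtain ⟨b, e, s, R, hR, hT, -, -⟩ := toggle_spec (hs C')
      rw [hT] at heq
      induction R using Quotient.inductionOn with
      | _ R =>
        exact not_flip h2 hB hnd (isom_toLin Q _) (isom_toLin Q _)
          ((hL C').perm (Multiset.coe_eq_coe.1 hR) hB) ((hL C).perm (Multiset.coe_eq_coe.1 heq) hB)
    rintro ⟨_ | _, C⟩ ⟨_ | _, C'⟩ h <;> simp only [Φ, Bool.false_eq_true, if_false, if_true] at h
    · rw [hinj h]
    · exact absurd h (key C C')
    · exact absurd h.symm (key C' C)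
    · rw [hinj (show l C = l C' by rw [← (toggle_props (hn C) (hs C)).2.2.2, ← (toggle_props (hn C') (hs C')).2.2.2, h])]
  have hΦk : ∀ p, ∀ k ∈ Φ p, Valid k ∧ (∀ Q', k = Key.cyc Q' 1 → Key.cyc Q' 1 ∈ l p.2) := by
    rintro ⟨_ | _, C⟩ k hk <;> simp only [Φ, Bool.false_eq_true, if_false, if_true] at hk
    · exact ⟨hv C k hk, fun Q' he => he ▸ hk⟩
    · obtain ⟨b, e, s, R, hR, hT, -, -⟩ := toggle_spec (hs C)
      rw [hT, Multiset.mem_cons] at hk
      rcases hk with rfl | hk
      · exact ⟨hv C (Key.one b e s) (hR ▸ Multiset.mem_cons_self _ _), fun Q' he => by simp at he⟩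
      · exact ⟨hv C k (hR ▸ Multiset.mem_cons_of_mem hk), fun Q' he => he ▸ (hR ▸ Multiset.mem_cons_of_mem hk)⟩
  have hΦn : ∀ p b e, numNsq (Φ p) b e ≤ 1 := by
    rintro ⟨_ | _, C⟩ <;> simp only [Φ, Bool.false_eq_true, if_false, if_true]
    exacts [hn C, (toggle_props (hn C) (hs C)).2.1]
  have hΦs : ∀ p, ((Φ p).map ClassNumberSp.Key.size).sum = N + 1 := by
    rintro ⟨_ | _, C⟩ <;> simp only [Φ, Bool.false_eq_true, if_false, if_true]
    · exact hsz C
    · obtain ⟨b, e, s, R, hR, hT, -, -⟩ := toggle_spec (hs C)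
      have := hsz C
      rw [hR] at this
      rw [hT]
      rw [Multiset.map_cons, Multiset.sum_cons] at this ⊢
      exact this
  refine ⟨?_, ?_⟩
  · have h := (card_labels_le h2 (N + 1) Finset.univ Φ hΦ (fun p k hk => (hΦk p k hk).1) hΦn hΦs
      fun _ => Finset.mem_univ _).2
    rwa [Nat.card_prod, Nat.card_eq_fintype_card (α := Bool), Fintype.card_bool] at h
  · let S := {C : ConjClasses (Cfsg.isometryGroup F (⇑Q)) // ¬ BadCent Q (Quotient.out C)}
    have h := card_restricted_le h2 N (fun p : Bool × S => Φ (p.1, p.2.1))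
      (fun p p' h => by
        have := hΦ h
        simp only [Prod.mk.injEq] at this
        exact Prod.ext this.1 (Subtype.ext this.2))
      (fun p k hk => (hΦk _ k hk).1) (fun p => hΦn _) (fun p => hΦs _)
      (fun p Q' hk => by
        have hmem : Key.cyc Q' 1 ∈ L p.2.1 := Multiset.mem_coe.1 ((hΦk _ _ hk).2 Q' rfl)
        obtain ⟨U, -, hgood, -, v, hc, -⟩ := (hL p.2.1).exists_mem hmem
        rw [pow_one] at hc
        exact p.2.2 (exists_centraliser_spin h2 Q hQ _ (isom_toLin Q _) hgood hc))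
    rwa [Nat.card_prod, Nat.card_eq_fintype_card (α := Bool), Fintype.card_bool] at h

/-- The bounds. -/
theorem omega_bounds (h2 : (2 : F) ≠ 0) (hQ : (QuadraticMap.polarBilin Q).Nondegenerate) {n : ℕ} (hn : 2 ≤ n)
    (hι : Fintype.card ι = 2 * n + 1) (hq : 3 ≤ Fintype.card F) :
    Fintype.card F ^ n ≤ 2 * Nat.card (ConjClasses ↥(Cfsg.Omega F (⇑Q))) ∧
      10 * Nat.card (ConjClasses ↥(Cfsg.Omega F (⇑Q))) ≤ 73 * Fintype.card F ^ n := by
  classical
  have hodd : Odd (Fintype.card ι) := ⟨n, hι⟩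
  have hι2 : 2 ≤ Fintype.card ι := by omega
  set G := (detHom Q).ker
  let χ : G →* ℤˣ := (spin Q).comp G.subtype
  obtain ⟨α, β, hα, hβ, hne⟩ := exists_spin_ne Q h2 hQ hι2
  have hsurj : ∃ z, χ z = -1 := by
    refine ⟨⟨refl Q α hα * refl Q β hβ, MonoidHom.mem_ker.2 (by rw [map_mul, detHom_refl, detHom_refl]; simp)⟩, ?_⟩
    show spin Q (refl Q α hα * refl Q β hβ) = -1
    rw [map_mul]
    rcases Int.units_eq_one_or (spin Q (refl Q α hα)) with e | e <;>
      rcases Int.units_eq_one_or (spin Q (refl Q β hβ)) with e' | e' <;> rw [e, e'] at hne ⊢ <;>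
      first | exact absurd rfl hne | decide
  obtain ⟨hlow, hup⟩ := index_two_bounds χ hsurj
  have hΩ : Nat.card (ConjClasses ↥(Cfsg.Omega F (⇑Q))) = Nat.card (ConjClasses χ.ker) := by
    have e1 : χ.ker.map G.subtype = Cfsg.Omega F (⇑Q) := by
      ext g
      rw [mem_omega_iff Q h2 hQ hι2]
      exact ⟨fun ⟨x, hx, hg⟩ => hg ▸ ⟨x.2, hx⟩, fun ⟨hd, hs⟩ => ⟨⟨g, hd⟩, hs, rfl⟩⟩
    let e : χ.ker ≃* ↥(Cfsg.Omega F (⇑Q)) :=
      (χ.ker.equivMapOfInjective G.subtype Subtype.val_injective).trans (MulEquiv.subgroupCongr e1)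
    exact Nat.card_congr
      { toFun := ConjClasses.map e.symm.toMonoidHom
        invFun := ConjClasses.map e.toMonoidHom
        left_inv := fun C => by
          obtain ⟨x, rfl⟩ := ConjClasses.exists_rep C
          exact congrArg ConjClasses.mk (e.apply_symm_apply x)
        right_inv := fun C => by
          obtain ⟨x, rfl⟩ := ConjClasses.exists_rep C
          exact congrArg ConjClasses.mk (e.symm_apply_apply x) }
  obtain ⟨hall, hres⟩ := two_mul_card_family Q h2 hQ (N := 2 * n) hι (even_two_mul n)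
  let up : Bool → G → Cfsg.isometryGroup F (⇑Q) := fun b g => if b then (g : Cfsg.isometryGroup F (⇑Q)) * negId Q else g
  have hupdet : ∀ b g, detHom Q (up b g) = if b then -1 else 1 := fun b g => by
    have hg : detHom Q (g : Cfsg.isometryGroup F (⇑Q)) = 1 := g.2
    cases b <;> simp [up, hg, det_negId Q hodd]
  have hinj : Function.Injective fun p : Bool × ConjClasses G => ConjClasses.mk (up p.1 (Quotient.out p.2)) := by
    rintro ⟨b, C⟩ ⟨b', C'⟩ h
    obtain ⟨c, hc⟩ := isConj_iff.1 (ConjClasses.mk_eq_mk_iff_isConj.1 h)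
    have hdet := congrArg (detHom Q) hc
    rw [map_mul, map_mul, map_inv, mul_right_comm, mul_inv_cancel, one_mul, hupdet, hupdet] at hdet
    have hm1 : (-1 : Fˣ) ≠ 1 := fun h => h2 (by
      have := congrArg Units.val h; simp at this; linear_combination -this)
    have hb : b = b' := by cases b <;> cases b' <;> simp at hdet ⊢ <;> [exact hm1 hdet.symm; exact hm1 hdet]
    subst hb
    have hconj : IsConj ((Quotient.out C : G) : Cfsg.isometryGroup F (⇑Q)) (Quotient.out C' : G) := by
      refine isConj_iff.2 ⟨c, ?_⟩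
      cases b
      · simpa [up] using hc
      · have h' : c * ((Quotient.out C : G) : Cfsg.isometryGroup F (⇑Q)) * c⁻¹ * negId Q =
            ((Quotient.out C' : G) : Cfsg.isometryGroup F (⇑Q)) * negId Q := by
          rw [mul_assoc, ← ((negId_central Q c).inv_right).eq, ← mul_assoc, mul_assoc c]
          simpa [up] using hc
        exact mul_right_cancel h'
    rw [← Quotient.out_eq C, ← Quotient.out_eq C']
    exact Prod.ext rfl (Quotient.sound (ker_conj Q hodd h2 hQ _ _ hconj))
  have h1 : 2 * Nat.card (ConjClasses G) ≤ Nat.card (ConjClasses (Cfsg.isometryGroup F (⇑Q))) := by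
    have := Nat.card_le_card_of_injective _ hinj
    rwa [Nat.card_prod, Nat.card_eq_fintype_card (α := Bool), Fintype.card_bool] at this
  have h2a : 2 * Nat.card {C : ConjClasses G // Splits χ (Quotient.out C)} ≤
      Nat.card {C : ConjClasses (Cfsg.isometryGroup F (⇑Q)) // ¬ BadCent Q (Quotient.out C)} := by
    let f : Bool × {C : ConjClasses G // Splits χ (Quotient.out C)} →
        {C : ConjClasses (Cfsg.isometryGroup F (⇑Q)) // ¬ BadCent Q (Quotient.out C)} := fun p =>
      ⟨ConjClasses.mk (up p.1 (Quotient.out p.2.1)), fun hb => by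
        have h3 := badCent_conj Q (ConjClasses.mk_eq_mk_iff_isConj.1 (Quotient.out_eq _)) hb
        have h4 : BadCent Q ((Quotient.out p.2.1 : G) : Cfsg.isometryGroup F (⇑Q)) := by
          cases hp : p.1 <;> simp only [up, hp, Bool.false_eq_true, if_false, if_true] at h3
          exacts [h3, badCent_neg Q h3]
        obtain ⟨z, hz1, hz2, hz3⟩ := h4
        have := p.2.2.2 ⟨z, hz1⟩ (Subtype.ext hz3)
        change spin Q z = 1 at this
        rw [hz2] at this
        exact absurd this (by decide)⟩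
    have hf : Function.Injective f := fun p p' h => by
      have := hinj (a₁ := (p.1, p.2.1)) (a₂ := (p'.1, p'.2.1)) (congrArg Subtype.val h)
      simp only [Prod.mk.injEq] at this
      exact Prod.ext this.1 (Subtype.ext this.2)
    have := Nat.card_le_card_of_injective f hf
    rwa [Nat.card_prod, Nat.card_eq_fintype_card (α := Bool), Fintype.card_bool] at this
  rw [hΩ]
  constructor
  · refine le_trans ?_ hlow
    choose x hx using fun a : Fin n → F => exists_isometry_add h2 Q hQ n 1 (by omega) hι (pal a)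
      (pal_props (by omega) _).1 (pal_props (by omega) _).2.1 (pal_props (by omega) _).2.2 (Or.inl one_pos)
    have hdet : ∀ a, detHom Q (x a) = 1 := fun a => by
      refine Units.ext ?_
      show ((x a : GL ι F) : Matrix ι ι F).det = 1
      have h0 : (pal a).coeff 0 = 1 := by
        rw [pal_coeff (by omega), if_neg (by omega), if_pos rfl]
      rw [Matrix.det_eq_sign_charpoly_coeff, hodd.neg_one_pow, hx, pow_one, mul_coeff_zero, h0]
      simp
    refine le_trans (le_of_eq (by rw [Nat.card_eq_fintype_card, Fintype.card_fun, Fintype.card_fin] :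
      Fintype.card F ^ n = Nat.card (Fin n → F)))
      (Nat.card_le_card_of_injective (fun a => ConjClasses.mk (⟨x a, hdet a⟩ : G)) fun a b h => ?_)
    obtain ⟨c, hc⟩ := isConj_iff.1 (ConjClasses.mk_eq_mk_iff_isConj.1 h)
    refine pal_injective (by omega) (mul_left_cancel₀ (pow_ne_zero 1 (X_sub_C_ne_zero (1 : F))) ?_)
    have hc' := congrArg Subtype.val hc
    simp only [Subgroup.coe_mul, Subgroup.coe_inv] at hc'
    rw [← hx a, ← hx b, ← hc']
    simp only [Subgroup.coe_mul, Subgroup.coe_inv, Units.val_mul, Matrix.coe_units_inv]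
    rw [Matrix.charpoly_mul_comm, ← Matrix.mul_assoc, Matrix.nonsing_inv_mul _
      ((Matrix.isUnit_iff_isUnit_det _).1 (Units.isUnit _)), Matrix.one_mul]
  · have hb := odd_bound (Fintype.card F) n hq hn
    have : 8 * Nat.card (ConjClasses χ.ker) ≤ ∑ p ∈ patterns (2 * n + 1) Finset.univ, Fintype.card F ^ ∑ i, p.1 i +
        3 * ∑ p ∈ patterns (2 * n + 1) Finset.univ, restTerm (Fintype.card F) p.1 := by
      omega
    have h' := ((Nat.cast_le (α := ℚ)).2 this).trans hb
    rw [← Nat.cast_le (α := ℚ)]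
    push_cast at h' ⊢
    linarith

end Odd

end Cfsg.Lib.ClassNumberO
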