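import Cfsg.Agent.Known.ClassNumberO.Restricted
import Mathlib

/-! The numerical bound in odd dimension. -/

set_option autoImplicit false
set_option linter.style.haveILetI false

open scoped Classical

namespace Cfsg.Lib.ClassNumberO

/-- The factor of the exponent one part. -/
def gOne (d : ℕ) : ℚ := ((d : ℚ) + 1) * (1 / 3) ^ d

theorem gOne_nonneg (d : ℕ) : 0 ≤ gOne d := by unfold gOne; positivity

theorem gOne_anti {k d : ℕ} (h : k ≤ d) : gOne d ≤ gOne k := by
  induction h with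
  | refl => exact le_rfl
  | @step m _ ih =>
    refine le_trans ?_ ih
    unfold gOne
    push_cast
    rw [pow_succ]
    have : 0 ≤ (1 / 3 : ℚ) ^ m := by positivity
    nlinarith [(Nat.cast_nonneg m : (0 : ℚ) ≤ m)]

theorem gOne_le_one (d : ℕ) : gOne d ≤ 1 := (gOne_anti (Nat.zero_le d)).trans (by norm_num [gOne])

section Tail

variable {N : ℕ}

/-- The weight of the exponents from two on. -/
def tailWeight (e : Fin N → ℕ) : ℚ := (1 / 3) ^ ∑ i : Fin N, ((i : ℕ) + 1) * e i

/-- The size of the exponents from two on. -/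
def tailSize (e : Fin N → ℕ) : ℕ := ∑ i : Fin N, ((i : ℕ) + 2) * e i

theorem sum_tailWeight_le (K : ℕ) : ∑ e ∈ Fintype.piFinset (fun _ : Fin N => Finset.range K), tailWeight e ≤ 9 / 5 := by
  have h : ∀ e : Fin N → ℕ, tailWeight e = ∏ i : Fin N, (1 / 3 : ℚ) ^ (((i : ℕ) + 1) * e i) := fun e => by
    rw [tailWeight, Finset.prod_pow_eq_pow_sum]
  simp only [h]
  rw [← Finset.prod_univ_sum (fun _ : Fin N => Finset.range K) (fun (i : Fin N) x => (1 / 3 : ℚ) ^ (((i : ℕ) + 1) * x))]
  refine le_trans (Finset.prod_le_prod (fun i _ => Finset.sum_nonneg fun x _ => by positivity)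
    (g := fun i : Fin N => (1 - (1 / 3 : ℚ) ^ ((i : ℕ) + 1))⁻¹) fun i _ => ?_) ?_
  · have hx : (1 / 3 : ℚ) ^ ((i : ℕ) + 1) < 1 := pow_lt_one₀ (by norm_num) (by norm_num) (by omega)
    simp only [pow_mul]
    rw [← one_div, le_div_iff₀ (by linarith), geom_sum_mul_neg]
    have : 0 ≤ ((1 / 3 : ℚ) ^ ((i : ℕ) + 1)) ^ K := by positivity
    linarith
  · rw [Fin.prod_univ_eq_prod_range (fun i => (1 - (1 / 3 : ℚ) ^ (i + 1))⁻¹) N, ← polyCoef]
    exact polyCoef_le (by norm_num) le_rfl N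

/-- The five smallest exponent vectors. -/
def special (k : Fin 5) : Fin N → ℕ := fun i =>
  match k.val, i.val with
  | 1, 0 => 1
  | 2, 1 => 1
  | 3, 2 => 1
  | 4, 0 => 2
  | _, _ => 0

theorem special_vals (hN : 3 ≤ N) (k : Fin 5) :
    (special k : Fin N → ℕ) ⟨0, by omega⟩ = ![0, 1, 0, 0, 2] k ∧ (special k : Fin N → ℕ) ⟨1, by omega⟩ = ![0, 0, 1, 0, 0] k ∧
      (special k : Fin N → ℕ) ⟨2, by omega⟩ = ![0, 0, 0, 1, 0] k ∧
      ∀ i : Fin N, 3 ≤ (i : ℕ) → (special k : Fin N → ℕ) i = 0 := by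
  refine ⟨by fin_cases k <;> rfl, by fin_cases k <;> rfl, by fin_cases k <;> rfl, fun i hi => ?_⟩
  unfold special
  split <;> first | rfl | omega

theorem special_injective (hN : 3 ≤ N) : Function.Injective (special (N := N)) := by
  intro k k' h
  obtain ⟨a, b, c, -⟩ := special_vals hN k
  obtain ⟨a', b', c', -⟩ := special_vals hN k'
  rw [h] at a b c
  rw [a'] at a
  rw [b'] at b
  rw [c'] at c
  fin_cases k <;> fin_cases k' <;> simp at a b c ⊢

theorem special_sums (hN : 3 ≤ N) (k : Fin 5) : tailSize (special k : Fin N → ℕ) = ![0, 2, 3, 4, 4] k ∧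
    tailWeight (special k : Fin N → ℕ) = ![1, 1 / 3, 1 / 9, 1 / 27, 1 / 9] k := by
  obtain ⟨a, b, c, d⟩ := special_vals hN k
  have key : ∀ g : ℕ → ℕ, ∑ i : Fin N, g i * (special k : Fin N → ℕ) i =
      g 0 * ![0, 1, 0, 0, 2] k + g 1 * ![0, 0, 1, 0, 0] k + g 2 * ![0, 0, 0, 1, 0] k := fun g => by
    rw [← a, ← b, ← c, Finset.sum_eq_add_sum_sdiff_singleton_of_mem (Finset.mem_univ (⟨0, by omega⟩ : Fin N)),
      Finset.sum_eq_add_sum_sdiff_singleton_of_mem (show (⟨1, by omega⟩ : Fin N) ∈ _ by simp [Fin.ext_iff]),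
      Finset.sum_eq_add_sum_sdiff_singleton_of_mem (show (⟨2, by omega⟩ : Fin N) ∈ _ by simp [Fin.ext_iff]),
      Finset.sum_eq_zero, add_zero, add_assoc]
    intro i hi
    simp only [Finset.mem_sdiff, Finset.mem_univ, Finset.mem_singleton, Fin.ext_iff, true_and] at hi
    rw [d i (by omega), mul_zero]
  rw [tailSize, tailWeight, key fun i => i + 2, key fun i => i + 1]
  fin_cases k <;> norm_num

theorem eq_special (hN : 3 ≤ N) {e : Fin N → ℕ} (h : tailSize e ≤ 4) : ∃ k, e = special k := by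
  have hle : ∀ i : Fin N, ((i : ℕ) + 2) * e i ≤ 4 := fun i =>
    le_trans (Finset.single_le_sum (f := fun i : Fin N => ((i : ℕ) + 2) * e i) (fun _ _ => Nat.zero_le _)
      (Finset.mem_univ i)) h
  have hbig : ∀ i : Fin N, 3 ≤ (i : ℕ) → e i = 0 := fun i hi => by
    by_contra hne
    have := Nat.mul_le_mul (show 5 ≤ (i : ℕ) + 2 by omega) (Nat.one_le_iff_ne_zero.2 hne)
    have := hle i
    omega
  have h0 := hle ⟨0, by omega⟩
  have h1 := hle ⟨1, by omega⟩
  have h2 := hle ⟨2, by omega⟩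
  simp only at h0 h1 h2
  have hsum : 2 * e ⟨0, by omega⟩ + 3 * e ⟨1, by omega⟩ + 4 * e ⟨2, by omega⟩ ≤ 4 := by
    refine le_trans (le_of_eq ?_) h
    rw [tailSize, Finset.sum_eq_add_sum_sdiff_singleton_of_mem (Finset.mem_univ (⟨0, by omega⟩ : Fin N)),
      Finset.sum_eq_add_sum_sdiff_singleton_of_mem (show (⟨1, by omega⟩ : Fin N) ∈ _ by simp [Fin.ext_iff]),
      Finset.sum_eq_add_sum_sdiff_singleton_of_mem (show (⟨2, by omega⟩ : Fin N) ∈ _ by simp [Fin.ext_iff]),
      Finset.sum_eq_zero, add_zero, add_assoc]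
    intro i hi
    simp only [Finset.mem_sdiff, Finset.mem_univ, Finset.mem_singleton, Fin.ext_iff, true_and] at hi
    rw [hbig i (by omega), mul_zero]
  have finish : ∀ k : Fin 5, e ⟨0, by omega⟩ = ![0, 1, 0, 0, 2] k → e ⟨1, by omega⟩ = ![0, 0, 1, 0, 0] k →
      e ⟨2, by omega⟩ = ![0, 0, 0, 1, 0] k → e = special k := fun k a b c => by
    obtain ⟨a', b', c', d'⟩ := special_vals hN k
    funext i
    obtain ⟨i, hi⟩ := i
    rcases (show i = 0 ∨ i = 1 ∨ i = 2 ∨ 3 ≤ i by omega) with rfl | rfl | rfl | h3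
    · rw [a, a']
    · rw [b, b']
    · rw [c, c']
    · rw [hbig _ h3, d' _ h3]
  rcases (show (e ⟨0, by omega⟩ = 0 ∧ e ⟨1, by omega⟩ = 0 ∧ e ⟨2, by omega⟩ = 0) ∨
      (e ⟨0, by omega⟩ = 1 ∧ e ⟨1, by omega⟩ = 0 ∧ e ⟨2, by omega⟩ = 0) ∨
      (e ⟨0, by omega⟩ = 0 ∧ e ⟨1, by omega⟩ = 1 ∧ e ⟨2, by omega⟩ = 0) ∨
      (e ⟨0, by omega⟩ = 0 ∧ e ⟨1, by omega⟩ = 0 ∧ e ⟨2, by omega⟩ = 1) ∨
      (e ⟨0, by omega⟩ = 2 ∧ e ⟨1, by omega⟩ = 0 ∧ e ⟨2, by omega⟩ = 0) by omega) with h | h | h | h | h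
  exacts [⟨0, finish 0 h.1 h.2.1 h.2.2⟩, ⟨1, finish 1 h.1 h.2.1 h.2.2⟩, ⟨2, finish 2 h.1 h.2.1 h.2.2⟩,
    ⟨3, finish 3 h.1 h.2.1 h.2.2⟩, ⟨4, finish 4 h.1 h.2.1 h.2.2⟩]

/-- The sum over the exponents from two on. -/
theorem tail_bound (hN : 3 ≤ N) (J : ℕ) (A : Finset (Fin N → ℕ)) (K : ℕ) (hK : 5 ≤ K)
    (hA : A ⊆ Fintype.piFinset (fun _ : Fin N => Finset.range K)) (hsize : ∀ e ∈ A, tailSize e ≤ J) :
    ∑ e ∈ A, tailWeight e * (1 + 3 * gOne (J - tailSize e)) ≤ if J = 0 then 4 else 10 / 3 := by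
  have hW : ∀ e : Fin N → ℕ, 0 ≤ tailWeight e := fun e => by unfold tailWeight; positivity
  have hf : ∀ e : Fin N → ℕ, 0 ≤ tailWeight e * (1 + 3 * gOne (J - tailSize e)) := fun e =>
    mul_nonneg (hW e) (by linarith [gOne_nonneg (J - tailSize e)])
  have hsp := special_sums (N := N) hN
  have s0 : tailSize (special (0 : Fin 5) : Fin N → ℕ) = 0 := (hsp 0).1
  have w0 : tailWeight (special (0 : Fin 5) : Fin N → ℕ) = 1 := (hsp 0).2
  have s1 : tailSize (special (1 : Fin 5) : Fin N → ℕ) = 2 := (hsp 1).1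
  have w1 : tailWeight (special (1 : Fin 5) : Fin N → ℕ) = 1 / 3 := (hsp 1).2
  have s2 : tailSize (special (2 : Fin 5) : Fin N → ℕ) = 3 := (hsp 2).1
  have w2 : tailWeight (special (2 : Fin 5) : Fin N → ℕ) = 1 / 9 := (hsp 2).2
  have s3 : tailSize (special (3 : Fin 5) : Fin N → ℕ) = 4 := (hsp 3).1
  have w3 : tailWeight (special (3 : Fin 5) : Fin N → ℕ) = 1 / 27 := (hsp 3).2
  have s4 : tailSize (special (4 : Fin 5) : Fin N → ℕ) = 4 := (hsp 4).1
  have w4 : tailWeight (special (4 : Fin 5) : Fin N → ℕ) = 1 / 9 := (hsp 4).2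
  rcases le_or_gt J 4 with hJ | hJ
  · refine le_trans (Finset.sum_le_sum_of_subset_of_nonneg
      (t := (Finset.univ.image (special (N := N))).filter fun e => tailSize e ≤ J) (fun e he => ?_) fun e _ _ => hf e) ?_
    · rw [Finset.mem_filter, Finset.mem_image]
      obtain ⟨k, hk⟩ := eq_special hN ((hsize e he).trans hJ)
      exact ⟨⟨k, Finset.mem_univ k, hk.symm⟩, hsize e he⟩
    rw [Finset.sum_filter, Finset.sum_image (special_injective hN).injOn]
    simp only [Fin.sum_univ_five, s0, s1, s2, s3, s4, w0, w1, w2, w3, w4]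
    interval_cases J <;> norm_num [gOne]
  · rw [if_neg (by omega)]
    set S := Finset.univ.image (special (N := N)) with hS
    set Ω := Fintype.piFinset (fun _ : Fin N => Finset.range K)
    have hSΩ : S ⊆ Ω := fun e he => by
      obtain ⟨k, -, rfl⟩ := Finset.mem_image.1 he
      refine Fintype.mem_piFinset.2 fun i => Finset.mem_range.2 ?_
      obtain ⟨a, b, c, d⟩ := special_vals (N := N) hN k
      obtain ⟨i, hi⟩ := i
      rcases (show i = 0 ∨ i = 1 ∨ i = 2 ∨ 3 ≤ i by omega) with rfl | rfl | rfl | h3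
      · rw [a]; fin_cases k <;> simp <;> omega
      · rw [b]; fin_cases k <;> simp <;> omega
      · rw [c]; fin_cases k <;> simp <;> omega
      · rw [d _ h3]; omega
    have h1 : ∑ e ∈ A, tailWeight e * (1 + 3 * gOne (J - tailSize e)) ≤
        ∑ e ∈ Ω, tailWeight e * (1 + 3 * gOne (J - tailSize e)) :=
      Finset.sum_le_sum_of_subset_of_nonneg hA fun e _ _ => hf e
    rw [← Finset.sum_sdiff hSΩ] at h1
    have h2 : ∑ e ∈ Ω \ S, tailWeight e * (1 + 3 * gOne (J - tailSize e)) ≤ 4 * ∑ e ∈ Ω \ S, tailWeight e := by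
      rw [Finset.mul_sum]
      exact Finset.sum_le_sum fun e _ => by nlinarith [hW e, gOne_le_one (J - tailSize e)]
    have h3 := sum_tailWeight_le (N := N) K
    rw [← Finset.sum_sdiff hSΩ] at h3
    rw [hS, Finset.sum_image (special_injective hN).injOn, ← hS] at h1 h3
    simp only [Fin.sum_univ_five, s0, s1, s2, s3, s4, w0, w1, w2, w3, w4] at h1 h3
    have g0 := gOne_anti (show 5 ≤ J - 0 by omega)
    have g2 := gOne_anti (show 3 ≤ J - 2 by omega)
    have g3 := gOne_anti (show 2 ≤ J - 3 by omega)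
    have g4 := gOne_anti (show 1 ≤ J - 4 by omega)
    norm_num [gOne] at g0 g2 g3 g4 h1 h3 ⊢
    norm_num [gOne] at h2
    linarith

end Tail

/-- The number of bit vectors of one weight. -/
def bitNum (K M : ℕ) : ℕ := (Finset.univ.filter fun b : Fin K → Bool → Bool → Bool => weight b = M).card

theorem bitNum_zero (M : ℕ) : bitNum 0 M = if M = 0 then 1 else 0 := by
  by_cases h : M = 0
  · subst h; simp [bitNum, weight]
  · rw [bitNum, Finset.filter_false_of_mem fun b _ => by simpa [weight] using Ne.symm h, Finset.card_empty, if_neg h]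

theorem bitNum_succ (K M : ℕ) : (bitNum (K + 1) M : ℚ) = (bitNum K M : ℚ) +
    4 * (if 2 * K + 1 ≤ M then (bitNum K (M - (2 * K + 1)) : ℚ) else 0) +
    6 * (if (2 * K + 1) * 2 ≤ M then (bitNum K (M - (2 * K + 1) * 2) : ℚ) else 0) +
    4 * (if (2 * K + 1) * 3 ≤ M then (bitNum K (M - (2 * K + 1) * 3) : ℚ) else 0) +
    (if (2 * K + 1) * 4 ≤ M then (bitNum K (M - (2 * K + 1) * 4) : ℚ) else 0) := by
  let f : ℕ → ℚ := fun k => if (2 * K + 1) * k ≤ M then (bitNum K (M - (2 * K + 1) * k) : ℚ) else 0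
  have h : (bitNum (K + 1) M : ℚ) = ∑ c : Bool → Bool → Bool, f (bitCount c) := by
    rw [bitNum, Finset.card_filter, Nat.cast_sum,
      ← Equiv.sum_comp (Fin.snocEquiv fun _ : Fin (K + 1) => Bool → Bool → Bool), Fintype.sum_prod_type]
    refine Finset.sum_congr rfl fun c _ => ?_
    simp only [f, bitNum]
    rw [Finset.card_filter, Nat.cast_sum]
    split_ifs with hc
    · refine Finset.sum_congr rfl fun b _ => ?_
      have hw : weight ((Fin.snocEquiv fun _ : Fin (K + 1) => Bool → Bool → Bool) (c, b)) =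
          weight b + (2 * K + 1) * bitCount c := weight_snoc b c
      rw [hw]
      by_cases hb : weight b = M - (2 * K + 1) * bitCount c
      · rw [if_pos hb, if_pos (by omega)]
      · rw [if_neg hb, if_neg (by omega)]
    · refine Finset.sum_eq_zero fun b _ => ?_
      have hw : weight ((Fin.snocEquiv fun _ : Fin (K + 1) => Bool → Bool → Bool) (c, b)) =
          weight b + (2 * K + 1) * bitCount c := weight_snoc b c
      rw [hw, if_neg (by omega), Nat.cast_zero]
  rw [h, sum_bits]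
  simp [f]

/-- The recursion for the number of bit vectors of one weight. -/
def bitRec : ℕ → ℕ → ℕ
  | 0, M => if M = 0 then 1 else 0
  | K + 1, M => bitRec K M + 4 * (if 2 * K + 1 ≤ M then bitRec K (M - (2 * K + 1)) else 0) +
      6 * (if (2 * K + 1) * 2 ≤ M then bitRec K (M - (2 * K + 1) * 2) else 0) +
      4 * (if (2 * K + 1) * 3 ≤ M then bitRec K (M - (2 * K + 1) * 3) else 0) +
      (if (2 * K + 1) * 4 ≤ M then bitRec K (M - (2 * K + 1) * 4) else 0)

theorem bitNum_eq_rec (K : ℕ) : ∀ M, bitNum K M = bitRec K M := by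
  induction K with
  | zero => intro M; rw [bitNum_zero, bitRec]
  | succ K ih =>
    intro M
    apply Nat.cast_injective (R := ℚ)
    rw [bitNum_succ, bitRec]
    push_cast
    simp only [ih]

theorem bitRec_small : ∀ M, M < 65 → 2 * bitRec 4 M ≤ 11 * 3 ^ (M / 2) := by decide +kernel

theorem bitNum_le (K M : ℕ) : (bitNum K M : ℚ) ≤ 6 * 3 ^ (M / 2) := by
  have step : ∀ K, ∀ (D z : ℚ), z = (1 / 3 : ℚ) ^ K → 0 ≤ D → (∀ M, (bitNum K M : ℚ) ≤ D * 3 ^ (M / 2)) →
      ∀ M, (bitNum (K + 1) M : ℚ) ≤ D * (1 + 4 * z + 6 * (z ^ 2 / 3) + 4 * (z ^ 3 / 3) + z ^ 4 / 9) * 3 ^ (M / 2) := by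
    intro K D z hz hD ih M
    have hterm : ∀ k a, (∀ _ : (2 * K + 1) * k ≤ M, (M - (2 * K + 1) * k) / 2 + a ≤ M / 2) →
        (if (2 * K + 1) * k ≤ M then (bitNum K (M - (2 * K + 1) * k) : ℚ) else 0) ≤ D * (1 / 3) ^ a * 3 ^ (M / 2) := by
      intro k a ha
      split_ifs with h
      · refine (ih _).trans ?_
        rw [mul_assoc]
        refine mul_le_mul_of_nonneg_left ?_ hD
        rw [one_div_pow, one_div, le_inv_mul_iff₀ (by positivity), ← pow_add, add_comm]
        exact pow_le_pow_right₀ (by norm_num) (ha h)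
      · positivity
    have hr2 : (2 * K + 1) * 2 = 4 * K + 2 := by ring
    have hr3 : (2 * K + 1) * 3 = 6 * K + 3 := by ring
    have hr4 : (2 * K + 1) * 4 = 8 * K + 4 := by ring
    have t1 := hterm 1 K (fun h => by omega)
    have t2 := hterm 2 (2 * K + 1) (fun h => by omega)
    have t3 := hterm 3 (3 * K + 1) (fun h => by omega)
    have t4 := hterm 4 (4 * K + 2) (fun h => by omega)
    have t0 := ih M
    rw [bitNum_succ]
    rw [mul_one] at t1
    have p2 : (1 / 3 : ℚ) ^ (2 * K + 1) = z ^ 2 / 3 := by rw [hz, pow_succ, pow_mul, pow_right_comm]; ring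
    have p3 : (1 / 3 : ℚ) ^ (3 * K + 1) = z ^ 3 / 3 := by rw [hz, pow_succ, pow_mul, pow_right_comm]; ring
    have p4 : (1 / 3 : ℚ) ^ (4 * K + 2) = z ^ 4 / 9 := by rw [hz, pow_add, pow_mul, pow_right_comm]; ring
    rw [← hz] at t1
    rw [p2] at t2
    rw [p3] at t3
    rw [p4] at t4
    linarith
  have base : ∀ M, (bitNum 4 M : ℚ) ≤ 11 / 2 * 3 ^ (M / 2) := by
    intro M
    rcases le_or_gt M 64 with h | h
    · have h' := (Nat.cast_le (α := ℚ)).2 (bitRec_small M (by omega))
      rw [bitNum_eq_rec]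
      push_cast at h'
      linarith
    · rw [bitNum, Finset.filter_false_of_mem fun b _ => ?_, Finset.card_empty, Nat.cast_zero]
      · positivity
      · intro hb
        have hc : ∀ c, bitCount c ≤ 4 := fun c => by
          unfold bitCount
          have := fun x : Bool => Bool.toNat_le x
          have a := this (c true false); have b := this (c true true)
          have a' := this (c false false); have b' := this (c false true)
          omega
        have : weight b ≤ 64 := by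
          simp only [weight, Fin.sum_univ_four]
          have := hc (b 0); have := hc (b 1); have := hc (b 2); have := hc (b 3)
          simp only [Fin.isValue, Fin.val_zero, Fin.val_one, Fin.val_two,
            show ((3 : Fin 4) : ℕ) = 3 from rfl]
          omega
        omega
  have inv : ∀ K, 4 ≤ K → ∀ M, (bitNum K M : ℚ) ≤ 6 * (1 - 13 / 2 * (1 / 3 : ℚ) ^ K) * 3 ^ (M / 2) := by
    intro K hK
    induction K, hK using Nat.le_induction with
    | base =>
      intro M
      refine (base M).trans (mul_le_mul_of_nonneg_right (by norm_num) (by positivity))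
    | succ K hK ih =>
      intro M
      set z := (1 / 3 : ℚ) ^ K with hz
      have hz0 : 0 < z := by positivity
      have hz1 : z ≤ 1 / 81 := le_trans (pow_le_pow_of_le_one (by norm_num) (by norm_num) hK) (by norm_num)
      refine (step K _ z hz (by nlinarith) ih M).trans (mul_le_mul_of_nonneg_right ?_ (by positivity))
      rw [show (1 / 3 : ℚ) ^ (K + 1) = z * (1 / 3) by rw [hz, pow_succ], mul_assoc]
      refine mul_le_mul_of_nonneg_left ?_ (by norm_num)
      have hsq : z ^ 2 ≤ z / 81 := by nlinarith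
      have hcu : z ^ 3 ≤ z ^ 2 := by nlinarith
      have hqu : z ^ 4 ≤ z ^ 2 := by nlinarith
      calc (1 - 13 / 2 * z) * (1 + 4 * z + 6 * (z ^ 2 / 3) + 4 * (z ^ 3 / 3) + z ^ 4 / 9)
          ≤ (1 - 13 / 2 * z) * (1 + (4 + 1 / 10) * z) := mul_le_mul_of_nonneg_left (by nlinarith) (by linarith)
        _ ≤ _ := by nlinarith
  rcases le_or_gt 4 K with h | h
  · refine (inv K h M).trans (mul_le_mul_of_nonneg_right ?_ (by positivity))
    nlinarith [(by positivity : (0 : ℚ) ≤ (1 / 3) ^ K)]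
  · have hmono : ∀ K, bitNum K M ≤ bitNum (K + 1) M := fun K => by
      have := bitNum_succ K M
      have h' : (bitNum K M : ℚ) ≤ bitNum (K + 1) M := by
        rw [this]
        have hn : ∀ (c : Prop) [Decidable c] (k : ℕ), 0 ≤ (if c then (bitNum K k : ℚ) else 0) := fun c _ k => by
          split_ifs <;> positivity
        linarith [hn (2 * K + 1 ≤ M) (M - (2 * K + 1)), hn ((2 * K + 1) * 2 ≤ M) (M - (2 * K + 1) * 2),
          hn ((2 * K + 1) * 3 ≤ M) (M - (2 * K + 1) * 3), hn ((2 * K + 1) * 4 ≤ M) (M - (2 * K + 1) * 4)]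
      exact_mod_cast h'
    have hle : bitNum K M ≤ bitNum 4 M := monotone_nat_of_le_succ (f := fun K => bitNum K M) hmono h.le
    refine ((Nat.cast_le (α := ℚ)).2 hle).trans ((base M).trans (mul_le_mul_of_nonneg_right (by norm_num) (by positivity)))

/-- All labels together with three times the restricted ones. -/
theorem odd_bound (q n : ℕ) (hq : 3 ≤ q) (hn : 2 ≤ n) :
    ((∑ p ∈ patterns (2 * n + 1) Finset.univ, q ^ ∑ i, p.1 i +
      3 * ∑ p ∈ patterns (2 * n + 1) Finset.univ, restTerm q p.1 : ℕ) : ℚ) ≤ 292 / 5 * (q : ℚ) ^ n := by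
  classical
  set y : ℚ := 1 / 3 with hy
  set M := 2 * n + 1 with hM
  have hq0 : (0 : ℚ) < q := by exact_mod_cast (by omega : 0 < q)
  let V : (Fin M → ℕ) → ℚ := fun d => y ^ (∑ i : Fin M, (i : ℕ) * d i) * (1 + 3 * gOne (d 0))
  have hterm : ∀ p ∈ patterns M Finset.univ, ((q ^ ∑ i, p.1 i : ℕ) : ℚ) + 3 * (restTerm q p.1 : ℚ) ≤
      (q : ℚ) ^ n * (y ^ (weight p.2 / 2) * V p.1) := by
    intro p hp
    rw [patterns, Finset.mem_filter] at hp
    have h2 := hp.2
    have hsplit : ∑ i : Fin M, ((i : ℕ) + 1) * p.1 i = ∑ i : Fin M, (i : ℕ) * p.1 i + ∑ i : Fin M, p.1 i := by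
      rw [← Finset.sum_add_distrib]; exact Finset.sum_congr rfl fun i _ => by ring
    have hle : ∀ a b : ℕ, a + b = n → (q : ℚ) ^ a ≤ (q : ℚ) ^ n * y ^ b := fun a b hab => by
      rw [hy, one_div_pow, mul_one_div, le_div_iff₀ (by positivity), ← hab, pow_add]
      exact mul_le_mul_of_nonneg_left (pow_le_pow_left₀ (by norm_num) (by exact_mod_cast hq) _) (by positivity)
    have h1 := hle (∑ i, p.1 i) (weight p.2 / 2 + ∑ i : Fin M, (i : ℕ) * p.1 i) (by omega)
    have h3 := hle (∑ i : Fin (2 * n), p.1 i.succ) (weight p.2 / 2 + ∑ i : Fin M, (i : ℕ) * p.1 i + p.1 0) (by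
      have : ∑ i : Fin M, p.1 i = p.1 0 + ∑ i : Fin (2 * n), p.1 i.succ := Fin.sum_univ_succ _
      omega)
    simp only [restTerm, V, gOne, pow_add, ← hy] at h1 h3 ⊢
    push_cast
    have hd : (0 : ℚ) ≤ (p.1 0 : ℚ) + 1 := by positivity
    nlinarith [mul_le_mul_of_nonneg_left h3 hd]
  push_cast
  rw [Finset.mul_sum, ← Finset.sum_add_distrib]
  push_cast at hterm
  refine (Finset.sum_le_sum hterm).trans ?_
  rw [← Finset.mul_sum, mul_comm]
  refine mul_le_mul_of_nonneg_right ?_ (by positivity)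
  rw [patterns, Finset.sum_filter, Finset.sum_product_right]
  refine le_trans (Finset.sum_le_sum (g := fun b => (10 / 3 : ℚ) * (if weight b % 2 = 1 then y ^ (weight b / 2) else 0) +
    2 / 3 * (if weight b = M then y ^ n else 0)) fun b _ => ?_) ?_
  · simp only
    by_cases hb : weight b ≤ M ∧ weight b % 2 = 1
    swap
    · rw [Finset.sum_eq_zero fun d _ => if_neg (by omega)]
      have : 0 ≤ y := by norm_num [hy]
      positivity
    obtain ⟨J, hJ⟩ : ∃ J, M = 2 * J + weight b := ⟨(M - weight b) / 2, by omega⟩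
    rw [← Finset.sum_filter, ← Finset.mul_sum, if_pos hb.2]
    set A := ((Fintype.piFinset fun _ : Fin M => Finset.range (M + 1))).filter fun d =>
      2 * ∑ i : Fin M, ((i : ℕ) + 1) * d i + weight b = M
    have hd0 : ∀ d ∈ A, d 0 + tailSize (Fin.tail d) = J := fun d hd => by
      have h := (Finset.mem_filter.1 hd).2
      rw [Fin.sum_univ_succ] at h
      simp only [tailSize, Fin.tail, Fin.val_succ, Fin.val_zero] at h ⊢
      have : ∑ x : Fin (2 * n), ((x : ℕ) + 1 + 1) * d x.succ = ∑ i : Fin (2 * n), ((i : ℕ) + 2) * d i.succ :=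
        Finset.sum_congr rfl fun i _ => by ring
      omega
    have hV : ∀ d ∈ A, V d = tailWeight (Fin.tail d) * (1 + 3 * gOne (J - tailSize (Fin.tail d))) := fun d hd => by
      rw [show J - tailSize (Fin.tail d) = d 0 by have := hd0 d hd; omega]
      have e : ∑ i : Fin M, (i : ℕ) * d i = ∑ i : Fin (2 * n), ((i : ℕ) + 1) * d i.succ := by
        rw [Fin.sum_univ_succ]
        simp
      simp only [V, tailWeight, Fin.tail, hy]
      rw [e]
    rw [Finset.sum_congr rfl hV, ← Finset.sum_image (s := A) (g := Fin.tail)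
      (f := fun e => tailWeight e * (1 + 3 * gOne (J - tailSize e))) (fun d hd d' hd' h => by
        rw [← Fin.cons_self_tail d, ← Fin.cons_self_tail d', h]
        have h1 := hd0 d hd
        have h2 := hd0 d' hd'
        rw [h] at h1
        rw [show d 0 = d' 0 by omega])]
    have hbound := tail_bound (N := 2 * n) (by omega) J (A.image Fin.tail) (M + 1) (by omega)
      (fun e he => by
        obtain ⟨d, hd, rfl⟩ := Finset.mem_image.1 he
        exact Fintype.mem_piFinset.2 fun i => Fintype.mem_piFinset.1 (Finset.mem_filter.1 hd).1 _)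
      (fun e he => by
        obtain ⟨d, hd, rfl⟩ := Finset.mem_image.1 he
        have := hd0 d hd
        omega)
    have hy0 : 0 ≤ y ^ (weight b / 2) := by rw [hy]; positivity
    refine (mul_le_mul_of_nonneg_left hbound hy0).trans ?_
    by_cases hJ0 : J = 0
    · rw [if_pos hJ0, if_pos (by omega), show weight b / 2 = n by omega]
      linarith
    · rw [if_neg hJ0, if_neg (by omega)]
      linarith
  · rw [Finset.sum_add_distrib, ← Finset.mul_sum, ← Finset.mul_sum, ← Finset.sum_filter (fun b => weight b = M),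
      Finset.sum_const, nsmul_eq_mul]
    have h1 := (bitSum_le (y := y) (by norm_num [hy]) (le_of_eq hy) M).2
    rw [bitSum] at h1
    have h2 := bitNum_le M M
    rw [bitNum, show M / 2 = n by omega] at h2
    have h3 : ((Finset.univ.filter fun b : Fin M → Bool → Bool → Bool => weight b = M).card : ℚ) * y ^ n ≤ 6 := by
      rw [hy, one_div_pow, mul_one_div, div_le_iff₀ (by positivity)]
      exact h2
    linarith

end Cfsg.Lib.ClassNumberO
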