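import Cfsg.Agent.Known.ClassNumberO.Cyclic
import Cfsg.Agent.Known.ClassNumberSp.Pair
import Mathlib

/-! Paired unipotent blocks of even exponent of an isometry of a symmetric form. -/

set_option autoImplicit false
set_option linter.style.haveILetI false

open Polynomial

namespace Cfsg.Lib.ClassNumberO

open ClassNumberSp (Isom star gen psi IsoOn mem_gen self_mem_gen gen_invariant aeval_mul_apply psi_mk range_psi
  aeval_star exists_pow_sq top_smul pairGen mem_pairGen pairPsi)

set_option maxHeartbeats 1000000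

universe u v

variable {F : Type u} [Field F] {V : Type v} [AddCommGroup V] [Module F V]
variable {B : LinearMap.BilinForm F V} {N : ℕ} {a a' : Module.End F V}

/-- Two vectors generating a paired block of exponent `e` at the eigenvalue `ε`. -/
structure Pair (B : LinearMap.BilinForm F V) (a : Module.End F V) (ε : F) (e : ℕ) (v w : V) : Prop where
  sq : ε * ε = 1
  pos : 1 ≤ e
  even : Even e
  kill_left : aeval a ((X - C ε) ^ e) v = 0
  kill_right : aeval a ((X - C ε) ^ e) w = 0
  top : B (aeval a ((X - C ε) ^ (e - 1)) v) w = 1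

variable {ε : F} {e : ℕ} {v w v' w' : V}

/-- On the bottom layer the form of a block of even exponent is alternating. -/
theorem top_self (ha : Isom B N a) (hB : ∀ u w, B u w = B w u) (h2 : (2 : F) ≠ 0) (hε : ε * ε = 1) (hp0 : 1 ≤ e) (he : Even e) {u : V}
    (hu : aeval a ((X - C ε) ^ e) u = 0) : B (aeval a ((X - C ε) ^ (e - 1)) u) u = 0 := by
  set h := aeval a ((X - C ε) ^ (e - 1)) u with hh
  have hah : a h = ε • h := by
    have h1 := top_smul hp0 hu X
    rw [aeval_mul_apply, aeval_X, eval_X] at h1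
    exact h1
  have hbh : (a ^ (N - 1) : Module.End F V) h = ε • h := by
    have h1 : (a ^ (N - 1) : Module.End F V) (a h) = h := by
      rw [← Module.End.mul_apply, ← pow_succ, Nat.sub_add_cancel ha.pos, ha.pow, Module.End.one_apply]
    rw [hah, map_smul] at h1
    have := congrArg (fun x => ε • x) h1
    simp only [smul_smul, hε, one_smul] at this
    exact this
  obtain ⟨j, hj⟩ : ∃ j, e - 1 = 2 * j + 1 := by obtain ⟨k, hk⟩ := he; exact ⟨k - 1, by omega⟩
  have hcomm : ∀ k, aeval (a ^ (N - 1)) ((X - C ε) ^ k) * a ^ k = (-ε) ^ k • aeval a ((X - C ε) ^ k) := by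
    intro k
    have e1 : aeval (a ^ (N - 1)) (X - C ε) * a = (-ε) • aeval a (X - C ε) := by
      rw [map_sub, map_sub, aeval_X, aeval_X, aeval_C, aeval_C, sub_mul, ← pow_succ, Nat.sub_add_cancel ha.pos, ha.pow,
        Algebra.algebraMap_eq_smul_one, smul_mul_assoc, one_mul, smul_sub, smul_smul, neg_mul, hε, neg_smul, neg_smul,
        one_smul]
      abel
    have hc : Commute (aeval (a ^ (N - 1)) (X - C ε)) a := by
      rw [map_sub, aeval_X, aeval_C]
      exact (Commute.pow_self a _).sub_left (Algebra.commute_algebraMap_left ε a)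
    rw [map_pow, ← hc.mul_pow, e1, _root_.smul_pow, map_pow]
  have hstar : aeval a (star N ((X - C ε) ^ (e - 1))) u = -h := by
    rw [aeval_star]
    have h1 := congrArg (fun T : Module.End F V => T u) (hcomm (e - 1))
    have hev : (-ε) ^ (e - 1) = -ε := by
      rw [hj, pow_succ, pow_mul, neg_sq, sq, hε, one_pow, one_mul]
    rw [hev] at h1
    simp only [Module.End.mul_apply] at h1
    have hc : Commute (aeval (a ^ (N - 1)) ((X - C ε) ^ (e - 1))) (a ^ (e - 1)) := by
      rw [← aeval_star, show a ^ (e - 1) = aeval a (X ^ (e - 1) : F[X]) by simp]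
      exact (Commute.all _ _).map (aeval a)
    rw [← Module.End.mul_apply, hc.eq, Module.End.mul_apply] at h1
    have hN : (a ^ (e - 1) : Module.End F V) h = ε • h := by
      have : ∀ k, (a ^ k : Module.End F V) h = ε ^ k • h := by
        intro k
        induction k with
        | zero => simp
        | succ k ih => rw [pow_succ, Module.End.mul_apply, hah, map_smul, ih, smul_smul, pow_succ']
      rw [this, hj, pow_succ, pow_mul, sq, hε, one_pow, one_mul]
    have hinj : Function.Injective (a ^ (e - 1) : Module.End F V) := by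
      have hai : Function.Injective a := by
        intro x y hxy
        have := congrArg (a ^ (N - 1) : Module.End F V) hxy
        simp only [← Module.End.mul_apply, ← pow_succ, Nat.sub_add_cancel ha.pos, ha.pow, Module.End.one_apply] at this
        exact this
      rw [Module.End.coe_pow]
      exact hai.iterate _
    refine hinj (h1.trans ?_)
    rw [map_neg, hN, LinearMap.smul_apply, neg_smul]
  have h1 := ha.adjoint ((X - C ε) ^ (e - 1)) u u
  rw [hstar, ← hh, map_neg, hB u h] at h1
  have : (2 : F) * B h u = 0 := by linear_combination h1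
  exact (mul_eq_zero.1 this).resolve_left h2

theorem Pair.top_right (ha : Isom B N a) (hB : ∀ u w, B u w = B w u) (h2 : (2 : F) ≠ 0) (hp : Pair B a ε e v w) :
    B (aeval a ((X - C ε) ^ (e - 1)) w) v = -1 := by
  have hvw : aeval a ((X - C ε) ^ e) (v + w) = 0 := by rw [map_add, hp.kill_left, hp.kill_right, add_zero]
  have h := top_self ha hB h2 hp.sq hp.pos hp.even hvw
  rw [map_add, map_add, map_add, LinearMap.add_apply, LinearMap.add_apply, top_self ha hB h2 hp.sq hp.pos hp.even hp.kill_left,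
    top_self ha hB h2 hp.sq hp.pos hp.even hp.kill_right, hp.top] at h
  linear_combination h


theorem Pair.dvd_of_orth (ha : Isom B N a) (hB : ∀ u w, B u w = B w u) (h2 : (2 : F) ≠ 0) (hp : Pair B a ε e v w) (f k : F[X])
    (horth : ∀ y ∈ pairGen a v w, B (aeval a f v + aeval a k w) y = 0) :
    (X - C ε) ^ e ∣ f ∧ (X - C ε) ^ e ∣ k := by
  suffices h : ∀ j ≤ e, (X - C ε) ^ j ∣ f ∧ (X - C ε) ^ j ∣ k from h e le_rfl
  intro j
  induction j with
  | zero => simp
  | succ j ih =>
    intro hj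
    obtain ⟨⟨f', hf⟩, ⟨k', hk⟩⟩ := ih (by omega)
    set L := X - C ε with hL
    have hpow : L ^ (e - 1 - j) * L ^ j = L ^ (e - 1) := by rw [← pow_add]; congr 1; omega
    have hx : ∀ y ∈ pairGen a v w, B (aeval a (f' * L ^ (e - 1)) v + aeval a (k' * L ^ (e - 1)) w) y = 0 := by
      intro y hy
      have e1 : aeval a (f' * L ^ (e - 1)) v + aeval a (k' * L ^ (e - 1)) w =
          aeval a (L ^ (e - 1 - j)) (aeval a f v + aeval a k w) := by
        rw [map_add, ← aeval_mul_apply, ← aeval_mul_apply, hf, hk, ← hpow]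
        congr 3 <;> ring
      rw [e1, ha.adjoint]
      refine horth _ ?_
      obtain ⟨p, q, rfl⟩ := mem_pairGen.1 hy
      rw [map_add, ← aeval_mul_apply, ← aeval_mul_apply]
      exact mem_pairGen.2 ⟨_, _, rfl⟩
    rw [top_smul hp.pos hp.kill_left, top_smul hp.pos hp.kill_right] at hx
    have hw := hx w (mem_pairGen.2 ⟨0, 1, by simp⟩)
    have hv := hx v (mem_pairGen.2 ⟨1, 0, by simp⟩)
    simp only [map_add, map_smul, LinearMap.add_apply, LinearMap.smul_apply, smul_eq_mul, hp.top,
      top_self ha hB h2 hp.sq hp.pos hp.even hp.kill_right, top_self ha hB h2 hp.sq hp.pos hp.even hp.kill_left,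
      hp.top_right ha hB h2, mul_zero, mul_one, add_zero, zero_add, mul_neg, neg_eq_zero] at hw hv
    rw [hf, hk, pow_succ]
    exact ⟨mul_dvd_mul_left _ (dvd_iff_isRoot.2 hw), mul_dvd_mul_left _ (dvd_iff_isRoot.2 hv)⟩

theorem Pair.gen_nondeg (ha : Isom B N a) (hB : ∀ u w, B u w = B w u) (h2 : (2 : F) ≠ 0) (hp : Pair B a ε e v w) {x : V}
    (hx : x ∈ pairGen a v w) (h : ∀ y ∈ pairGen a v w, B x y = 0) : x = 0 := by
  obtain ⟨f, k, rfl⟩ := mem_pairGen.1 hx
  obtain ⟨⟨f', rfl⟩, ⟨k', rfl⟩⟩ := hp.dvd_of_orth ha hB h2 f k h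
  rw [mul_comm _ f', mul_comm _ k', aeval_mul_apply, aeval_mul_apply, hp.kill_left, hp.kill_right, map_zero, map_zero,
    add_zero]

theorem Pair.pairPsi_mk (hp : Pair B a ε e v w) (f k : F[X]) :
    pairPsi a ε e v w (AdjoinRoot.mk _ f, AdjoinRoot.mk _ k) = aeval a f v + aeval a k w := by
  rw [pairPsi, LinearMap.coprod_apply, psi_mk _ hp.kill_left, psi_mk _ hp.kill_right]

theorem Pair.pairPsi_injective (ha : Isom B N a) (hB : ∀ u w, B u w = B w u) (h2 : (2 : F) ≠ 0) (hp : Pair B a ε e v w) :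
    Function.Injective (pairPsi a ε e v w) := by
  refine (injective_iff_map_eq_zero _).2 fun r hr => ?_
  obtain ⟨r, s⟩ := r
  obtain ⟨f, rfl⟩ := AdjoinRoot.mk_surjective r
  obtain ⟨k, rfl⟩ := AdjoinRoot.mk_surjective s
  rw [hp.pairPsi_mk] at hr
  obtain ⟨hf, hk⟩ := hp.dvd_of_orth ha hB h2 f k fun y _ => by rw [hr, map_zero, LinearMap.zero_apply]
  rw [Prod.mk_eq_zero, AdjoinRoot.mk_eq_zero, AdjoinRoot.mk_eq_zero]
  exact ⟨hf, hk⟩

theorem Pair.range_pairPsi (hp : Pair B a ε e v w) : LinearMap.range (pairPsi a ε e v w) = pairGen a v w := by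
  rw [pairPsi, LinearMap.range_coprod, range_psi _ hp.kill_left, range_psi _ hp.kill_right, pairGen]

theorem Pair.finrank_gen [Finite F] (ha : Isom B N a) (hB : ∀ u w, B u w = B w u) (h2 : (2 : F) ≠ 0) (hp : Pair B a ε e v w) :
    Module.finrank F (pairGen a v w) = 2 * e := by
  have hm : ((X - C ε) ^ e).Monic := (monic_X_sub_C ε).pow e
  haveI : Module.Finite F (AdjoinRoot ((X - C ε) ^ e)) := hm.finite_adjoinRoot
  rw [← hp.range_pairPsi, LinearMap.finrank_range_of_inj (hp.pairPsi_injective ha hB h2), Module.finrank_prod,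
    (PowerBasis.finrank (AdjoinRoot.powerBasis' hm)), AdjoinRoot.powerBasis'_dim, natDegree_pow, natDegree_X_sub_C]
  ring

/-- Paired blocks of a given exponent are isometric. -/
theorem iso_of_pair [Finite F] (ha : Isom B N a) (ha' : Isom B N a') (hB : ∀ u w, B u w = B w u) (h2 : (2 : F) ≠ 0)
    (hp : Pair B a ε e v w) (hp' : Pair B a' ε e v' w') :
    IsoOn B a a' (pairGen a v w) (pairGen a' v' w') := by
  classical
  set L : F[X] := X - C ε with hL
  have hm : (L ^ e).Monic := (monic_X_sub_C ε).pow e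
  haveI : Module.Finite F (AdjoinRoot (L ^ e)) := hm.finite_adjoinRoot
  set Φ := pairPsi a ε e v w with hΦ
  set Φ' := pairPsi a' ε e v' w' with hΦ'
  let M := AdjoinRoot (L ^ e) × AdjoinRoot (L ^ e)
  let act : F[X] → Module.End F M := fun f =>
    (LinearMap.mulLeft F (AdjoinRoot.mk (L ^ e) f)).prodMap (LinearMap.mulLeft F (AdjoinRoot.mk (L ^ e) f))
  have hact0 : ∀ (f : F[X]) (r s : AdjoinRoot (L ^ e)),
      act f (r, s) = (AdjoinRoot.mk (L ^ e) f * r, AdjoinRoot.mk (L ^ e) f * s) := fun _ _ _ => rfl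
  have hact : ∀ f (x : M), Φ (act f x) = aeval a f (Φ x) ∧ Φ' (act f x) = aeval a' f (Φ' x) := by
    intro f x
    obtain ⟨r, s⟩ := x
    obtain ⟨p, rfl⟩ := AdjoinRoot.mk_surjective r
    obtain ⟨q, rfl⟩ := AdjoinRoot.mk_surjective s
    have e0 : act f (AdjoinRoot.mk (L ^ e) p, AdjoinRoot.mk (L ^ e) q) =
        (AdjoinRoot.mk (L ^ e) (f * p), AdjoinRoot.mk (L ^ e) (f * q)) := by
      rw [hact0, map_mul, map_mul]
    rw [e0, hΦ, hΦ', hp.pairPsi_mk, hp.pairPsi_mk, hp'.pairPsi_mk, hp'.pairPsi_mk, map_add, map_add,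
      ← aeval_mul_apply, ← aeval_mul_apply, ← aeval_mul_apply, ← aeval_mul_apply]
    exact ⟨rfl, rfl⟩
  let B1 : LinearMap.BilinForm F M := B.compl₁₂ Φ Φ
  let B2 : LinearMap.BilinForm F M := B.compl₁₂ Φ' Φ'
  have hadj1 : ∀ f (x y : M), B1 (act f x) y = B1 x (act (star N f) y) := by
    intro f x y
    show B (Φ (act f x)) (Φ y) = B (Φ x) (Φ (act _ y))
    rw [(hact f x).1, (hact _ y).1, ha.adjoint]
  have hadj2 : ∀ f (x y : M), B2 (act f x) y = B2 x (act (star N f) y) := by
    intro f x y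
    show B (Φ' (act f x)) (Φ' y) = B (Φ' x) (Φ' (act _ y))
    rw [(hact f x).2, (hact _ y).2, ha'.adjoint]
  have hnd : Function.Injective B1 := by
    refine (injective_iff_map_eq_zero B1).2 fun x hx => hp.pairPsi_injective ha hB h2 ?_
    rw [map_zero]
    refine hp.gen_nondeg ha hB h2 (hp.range_pairPsi ▸ LinearMap.mem_range_self _ x) fun y hy => ?_
    rw [← hp.range_pairPsi] at hy
    obtain ⟨z, rfl⟩ := hy
    exact LinearMap.congr_fun hx z
  let E1 : M ≃ₗ[F] Module.Dual F M := LinearEquiv.ofBijective B1 ⟨hnd,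
    (LinearMap.injective_iff_surjective_of_finrank_eq_finrank (Subspace.dual_finrank_eq).symm).1 hnd⟩
  let x : Module.End F M := (E1.symm : Module.Dual F M →ₗ[F] M).comp B2
  have hx : ∀ m m', B1 (x m) m' = B2 m m' := fun m m' => by
    have : B1 (x m) = B2 m := E1.apply_symm_apply (B2 m)
    rw [this]
  have hxact : ∀ f, x * act f = act f * x := by
    intro f
    refine LinearMap.ext fun m => hnd (LinearMap.ext fun m' => ?_)
    rw [Module.End.mul_apply, Module.End.mul_apply, hx, hadj1, hx, hadj2]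
  have hxself : ∀ m m', B1 (x m) m' = B1 m (x m') := fun m m' => by
    rw [hx]
    show B (Φ' m) (Φ' m') = B (Φ m) (Φ (x m'))
    rw [hB, hB (Φ m)]
    exact (hx m' m).symm
  have htop : ∀ m m', B2 (act (L ^ (e - 1)) m) m' = B1 (act (L ^ (e - 1)) m) m' := by
    have key : ∀ (b : Module.End F V) (v w : V), Isom B N b → Pair B b ε e v w → ∀ f k p q : F[X],
        B (aeval b (L ^ (e - 1)) (aeval b f v + aeval b k w)) (aeval b p v + aeval b q w) =
          f.eval ε * (star N q).eval ε - k.eval ε * (star N p).eval ε := by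
      intro b v w hb hpb f k p q
      have hX : ∀ (u z : V) (r : F[X]), aeval b (L ^ e) u = 0 →
          B (aeval b (L ^ (e - 1)) u) (aeval b r z) = (star N r).eval ε * B (aeval b (L ^ (e - 1)) u) z := by
        intro u z r hu
        have : B (aeval b (L ^ (e - 1)) u) (aeval b r z) = B (aeval b (star N r) (aeval b (L ^ (e - 1)) u)) z := by
          rw [hB, hb.adjoint, hB]
        rw [this, ← aeval_mul_apply, top_smul hpb.pos hu, map_smul, LinearMap.smul_apply, smul_eq_mul]
      rw [map_add (aeval b (L ^ (e - 1))), ← aeval_mul_apply, ← aeval_mul_apply, mul_comm _ f, mul_comm _ k, top_smul hpb.pos hpb.kill_left,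
        top_smul hpb.pos hpb.kill_right]
      simp only [hL] at hX
      simp only [map_add, map_smul, LinearMap.add_apply, LinearMap.smul_apply, smul_eq_mul, hX _ _ _ hpb.kill_left,
        hX _ _ _ hpb.kill_right, hpb.top, hpb.top_right hb hB h2, top_self hb hB h2 hpb.sq hpb.pos hpb.even hpb.kill_left,
        top_self hb hB h2 hpb.sq hpb.pos hpb.even hpb.kill_right]
      ring
    rintro ⟨r, s⟩ ⟨r', s'⟩
    obtain ⟨f, rfl⟩ := AdjoinRoot.mk_surjective r
    obtain ⟨k, rfl⟩ := AdjoinRoot.mk_surjective s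
    obtain ⟨p, rfl⟩ := AdjoinRoot.mk_surjective r'
    obtain ⟨q, rfl⟩ := AdjoinRoot.mk_surjective s'
    show B (Φ' _) (Φ' _) = B (Φ _) (Φ _)
    rw [(hact _ _).1, (hact _ _).2, hΦ, hΦ', hp.pairPsi_mk, hp.pairPsi_mk, hp'.pairPsi_mk, hp'.pairPsi_mk,
      key a v w ha hp, key a' v' w' ha' hp']
  have hker : ∀ m, act (L ^ (e - 1)) m = 0 → ∃ m', act L m' = m := by
    rintro ⟨r, s⟩ hm0
    obtain ⟨f, rfl⟩ := AdjoinRoot.mk_surjective r
    obtain ⟨k, rfl⟩ := AdjoinRoot.mk_surjective s
    rw [hact0, ← map_mul, ← map_mul, Prod.mk_eq_zero, AdjoinRoot.mk_eq_zero, AdjoinRoot.mk_eq_zero] at hm0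
    have hd : ∀ f, L ^ e ∣ L ^ (e - 1) * f → L ∣ f := fun f hf => by
      rw [show L ^ e = L ^ (e - 1) * L by rw [← pow_succ, Nat.sub_add_cancel hp.pos]] at hf
      exact (mul_dvd_mul_iff_left (pow_ne_zero _ (X_sub_C_ne_zero ε))).1 hf
    obtain ⟨f', rfl⟩ := hd f hm0.1
    obtain ⟨k', rfl⟩ := hd k hm0.2
    exact ⟨(AdjoinRoot.mk _ f', AdjoinRoot.mk _ k'), by rw [hact0, map_mul, map_mul]⟩
  have h1 : act (L ^ (e - 1)) * (x - 1) = 0 := by
    refine LinearMap.ext fun m => hnd (LinearMap.ext fun m' => ?_)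
    rw [Module.End.mul_apply, LinearMap.sub_apply, Module.End.one_apply, map_sub, LinearMap.zero_apply, map_zero,
      LinearMap.zero_apply, ← Module.End.mul_apply, ← hxact, Module.End.mul_apply, map_sub, LinearMap.sub_apply,
      hx, htop, sub_self]
  have hmul : ∀ f f', act f * act f' = act (f * f') := fun f f' => LinearMap.ext fun m => by
    obtain ⟨r, s⟩ := m
    rw [Module.End.mul_apply, hact0, hact0, hact0, map_mul, mul_assoc, mul_assoc]
  have hnil : ∀ j m, ∃ m', ((x - 1) ^ j) m = act (L ^ j) m' := by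
    intro j
    induction j with
    | zero => intro m; exact ⟨m, by obtain ⟨r, s⟩ := m; rw [pow_zero, pow_zero, hact0, map_one, one_mul, one_mul]; rfl⟩
    | succ j ih =>
      intro m
      obtain ⟨m', hm'⟩ := ih m
      obtain ⟨m'', hm''⟩ := hker ((x - 1) m') (by rw [← Module.End.mul_apply, h1]; rfl)
      refine ⟨m'', ?_⟩
      rw [pow_succ', Module.End.mul_apply, hm', ← Module.End.mul_apply,
        show (x - 1) * act (L ^ j) = act (L ^ j) * (x - 1) by rw [sub_mul, mul_sub, hxact, one_mul, mul_one],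
        Module.End.mul_apply, ← hm'', ← Module.End.mul_apply, hmul, ← pow_succ]
  have hxe : (x - 1) ^ e = 0 := by
    refine LinearMap.ext fun m => ?_
    obtain ⟨m', hm'⟩ := hnil e m
    rw [hm']
    obtain ⟨r, s⟩ := m'
    rw [hact0, AdjoinRoot.mk_self, zero_mul, zero_mul]
    rfl
  obtain ⟨k, hk⟩ := exists_pow_sq h2 x e hxe
  set y := x ^ k with hy
  have hyself : ∀ m m', B1 (y m) m' = B1 m (y m') := by
    have : ∀ k m m', B1 ((x ^ k) m) m' = B1 m ((x ^ k) m') := by
      intro k
      induction k with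
      | zero => intro m m'; rfl
      | succ k ih => intro m m'; rw [pow_succ, Module.End.mul_apply, ih, hxself, ← Module.End.mul_apply x, ← pow_succ', pow_succ]
    exact this k
  have hyB : ∀ m m', B2 m m' = B1 (y m) (y m') := fun m m' => by
    rw [hyself, ← Module.End.mul_apply y, ← sq, hk, ← hx, hxself]
  have hyinj : Function.Injective y := by
    refine (injective_iff_map_eq_zero y).2 fun m hm => hp'.pairPsi_injective ha' hB h2 ?_
    rw [map_zero]
    refine hp'.gen_nondeg ha' hB h2 (hp'.range_pairPsi ▸ LinearMap.mem_range_self _ m) fun z hz => ?_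
    rw [← hp'.range_pairPsi] at hz
    obtain ⟨m', rfl⟩ := hz
    show B2 m m' = 0
    rw [hyB, hm, map_zero, LinearMap.zero_apply]
  let Y : M ≃ₗ[F] M := LinearEquiv.ofBijective y ⟨hyinj, LinearMap.injective_iff_surjective.1 hyinj⟩
  let E : M ≃ₗ[F] pairGen a v w :=
    (LinearEquiv.ofInjective _ (hp.pairPsi_injective ha hB h2)).trans (LinearEquiv.ofEq _ _ hp.range_pairPsi)
  have hE : ∀ r, ((E r : pairGen a v w) : V) = Φ r := fun r => rfl
  refine ⟨Φ'.comp ((E.symm.trans Y.symm) : pairGen a v w →ₗ[F] M), ?_, ?_, ?_⟩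
  · rw [LinearMap.range_comp, LinearEquiv.range, Submodule.map_top]
    exact hp'.range_pairPsi
  · intro s t
    obtain ⟨m, rfl⟩ := E.surjective s
    obtain ⟨m', rfl⟩ := E.surjective t
    simp only [LinearMap.comp_apply, LinearEquiv.coe_coe, LinearEquiv.trans_apply, LinearEquiv.symm_apply_apply, hE]
    show B2 (Y.symm m) (Y.symm m') = B1 m m'
    rw [hyB]
    show B1 (Y (Y.symm m)) (Y (Y.symm m')) = B1 m m'
    rw [LinearEquiv.apply_symm_apply, LinearEquiv.apply_symm_apply]
  · intro s hs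
    obtain ⟨m, rfl⟩ := E.surjective s
    have e1 : (⟨a (E m : pairGen a v w), hs⟩ : pairGen a v w) = E (act X m) := by
      apply Subtype.ext
      show a (E m : pairGen a v w) = _
      rw [hE, hE, (hact X m).1, aeval_X]
    rw [e1]
    simp only [LinearMap.comp_apply, LinearEquiv.coe_coe, LinearEquiv.trans_apply, LinearEquiv.symm_apply_apply]
    have e2 : Y.symm (act X m) = act X (Y.symm m) := by
      rw [LinearEquiv.symm_apply_eq]
      show act X m = y (act X (Y.symm m))
      have hc : y * act X = act X * y := by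
        rw [hy]; exact (Commute.pow_left (show Commute x (act X) from hxact X) k).eq
      rw [← Module.End.mul_apply, hc, Module.End.mul_apply]
      exact congrArg (act X) (Y.apply_symm_apply m).symm
    rw [e2, (hact X _).2, aeval_X]

end Cfsg.Lib.ClassNumberO
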