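import Cfsg.Agent.Known.ClassNumberO.Upper
import Mathlib

/-! Counting labels without cyclic blocks of exponent one. -/

set_option autoImplicit false
set_option linter.style.haveILetI false

open Polynomial
open scoped Classical

namespace Cfsg.Lib.ClassNumberO

open ClassNumberSp (Key sgn Pal card_pal_le numNsq numOnes bits halves poly)

universe u

variable {F : Type u} [Field F]

/-- No cyclic block has exponent one. -/
def NoRegular (L : Multiset (Key F)) : Prop := ∀ Q, Key.cyc Q 1 ∉ L

theorem hasSingle_of_odd (h2 : (2 : F) ≠ 0) {L : Multiset (Key F)} (hL : ∀ k ∈ L, Valid k)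
    (hn : ∀ b e, numNsq L b e ≤ 1) {M : ℕ} (hsz : (L.map ClassNumberSp.Key.size).sum = M) (hM : Odd M) :
    HasSingle L := by
  by_contra h
  have hS := (data_mem h2 hL hn hsz {fun _ _ _ => false} (Finset.mem_singleton.2
    (funext fun r => funext fun b => funext fun c => bits_eq_zero h b c _))).1
  rw [patterns, Finset.mem_filter, Finset.mem_product, Finset.mem_singleton] at hS
  have hw : weight (fun (_ : Fin M) (_ _ : Bool) => false) = 0 := by simp [weight, bitCount]
  have h2' := hS.2
  simp only at h2'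
  have hbits : (fun (r : Fin M) b c => bits L b (2 * (r : ℕ) + 1) c) = fun _ _ _ => false := hS.1.2
  rw [hbits, hw, add_zero] at h2'
  obtain ⟨r, hr⟩ := hM
  omega

theorem poly_one_eq {L : Multiset (Key F)} (hL : ∀ k ∈ L, Valid k) (h : NoRegular L) :
    poly L 1 = (X - C (sgn F true)) ^ (2 * halves L true 1) * (X - C (sgn F false)) ^ (2 * halves L false 1) := by
  rw [poly, Multiset.prod_eq_one, one_mul]
  intro x hx
  obtain ⟨k, hk, rfl⟩ := Multiset.mem_map.1 hx
  rcases k with ⟨Q, e⟩ | ⟨b, e, s⟩ | ⟨b, e⟩ <;> simp only [ClassNumberSp.Key.part]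
  · exact if_neg fun he => h Q (by subst he; exact hk)
  · refine if_neg fun he => ?_
    subst he
    exact absurd (hL _ hk).2 (by decide)

variable (F) in
/-- The polynomials allowed at exponent one. -/
def PalOne (j : ℕ) : Type u :=
  {g : F[X] // ∃ h ≤ j, g = (X - C (sgn F true)) ^ (2 * h) * (X - C (sgn F false)) ^ (2 * (j - h))}

theorem card_palOne_le (j : ℕ) : Finite (PalOne F j) ∧ Nat.card (PalOne F j) ≤ j + 1 := by
  let f : Fin (j + 1) → PalOne F j := fun h => ⟨_, h, Nat.lt_succ_iff.1 h.isLt, rfl⟩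
  have hf : Function.Surjective f := fun ⟨g, h, hh, e⟩ => ⟨⟨h, by omega⟩, Subtype.ext e.symm⟩
  exact ⟨Finite.of_surjective f hf, (Nat.card_le_card_of_surjective f hf).trans_eq (Nat.card_fin _)⟩

/-- The weight of a pattern for labels without regular cyclic blocks. -/
def restTerm (q : ℕ) {N : ℕ} (d : Fin (N + 1) → ℕ) : ℕ := (d 0 + 1) * q ^ ∑ i : Fin N, d i.succ

/-- The number of normal multisets of labels without regular cyclic blocks. -/
theorem card_restricted_le [Fintype F] (h2 : (2 : F) ≠ 0) (N : ℕ) {ι : Type*}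
    (L : ι → Multiset (Key F)) (hinj : Function.Injective L) (hL : ∀ i, ∀ k ∈ L i, Valid k)
    (hn : ∀ i b e, numNsq (L i) b e ≤ 1) (hsz : ∀ i, ((L i).map ClassNumberSp.Key.size).sum = N + 1)
    (hreg : ∀ i, NoRegular (L i)) :
    Nat.card ι ≤ ∑ p ∈ patterns (N + 1) Finset.univ, restTerm (Fintype.card F) p.1 := by
  classical
  let T : (Fin (N + 1) → ℕ) → Fin (N + 1) → Type u := fun d => Fin.cons (PalOne F (d 0)) fun i => Pal F (d i.succ)
  have hfin : ∀ d i, Finite (T d i) := fun d i => by
    induction i using Fin.cases with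
    | zero => exact (card_palOne_le (F := F) _).1
    | succ i => exact (card_pal_le (F := F) _).1
  let mem := fun t => (data_mem h2 (hL t) (hn t) (hsz t) Finset.univ (Finset.mem_univ _)).1
  have hp0 : ∀ t, ∃ h ≤ (poly (L t) 1).natDegree / 2, poly (L t) 1 =
      (X - C (sgn F true)) ^ (2 * h) * (X - C (sgn F false)) ^ (2 * ((poly (L t) 1).natDegree / 2 - h)) := fun t => by
    have e := poly_one_eq (hL t) (hreg t)
    have hd : (poly (L t) 1).natDegree = 2 * halves (L t) true 1 + 2 * halves (L t) false 1 := by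
      rw [e, ((monic_X_sub_C _).pow _).natDegree_mul ((monic_X_sub_C _).pow _), natDegree_pow, natDegree_pow,
        natDegree_X_sub_C, natDegree_X_sub_C, mul_one, mul_one]
    exact ⟨halves (L t) true 1, by omega,
      by rw [show (poly (L t) 1).natDegree / 2 - halves (L t) true 1 = halves (L t) false 1 by omega]; exact e⟩
  let Φ : ι → Σ p : patterns (N + 1) (Finset.univ), (i : Fin (N + 1)) → T p.1.1 i := fun t =>
    ⟨⟨_, mem t⟩, Fin.cons (show PalOne F _ from ⟨poly (L t) 1, by simpa using hp0 t⟩) fun i =>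
      (show Pal F _ from ⟨poly (L t) ((i.succ : ℕ) + 1), (poly_props h2 (hL t) _).1,
        (Nat.two_mul_div_two_of_even (poly_props h2 (hL t) _).2.2.2).symm, (poly_props h2 (hL t) _).2.1⟩)⟩
  have hΦ : Function.Injective Φ := by
    intro t t' h
    refine hinj (eq_of_data h2 (hL t) (hL t') (hn t) (hn t') (fun e he => ?_) fun b r c => ?_)
    · by_cases hle : e ≤ N + 1
      · rcases eq_or_ne e 1 with rfl | he1
        · exact congrArg (fun x : Σ p : patterns (N + 1) (Finset.univ), (i : Fin (N + 1)) → T p.1.1 i =>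
            (show PalOne F (x.1.1.1 0) from x.2 0).1) h
        · have := congrArg (fun x : Σ p : patterns (N + 1) (Finset.univ), (i : Fin (N + 1)) → T p.1.1 i =>
            (show Pal F (x.1.1.1 (Fin.succ ⟨e - 2, by omega⟩)) from x.2 (Fin.succ ⟨e - 2, by omega⟩)).1) h
          simp only [Φ, Fin.cons_succ] at this
          have e' : ((Fin.succ (⟨e - 2, by omega⟩ : Fin N) : Fin (N + 1)) : ℕ) + 1 = e := by
            simp only [Fin.val_succ]; omega
          exact (congrArg (poly (L t)) e').symm.trans (this.trans (congrArg (poly (L t')) e'))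
      · rw [((data_mem h2 (hL t) (hn t) (hsz t) Finset.univ (Finset.mem_univ _)).2 e (by omega)).1,
          ((data_mem h2 (hL t') (hn t') (hsz t') Finset.univ (Finset.mem_univ _)).2 e (by omega)).1]
    · by_cases hr : r < N + 1
      · exact congrArg (fun x : Σ p : patterns (N + 1) (Finset.univ), (i : Fin (N + 1)) → T p.1.1 i =>
          x.1.1.2 ⟨r, hr⟩ b c) h
      · rw [((data_mem h2 (hL t) (hn t) (hsz t) Finset.univ (Finset.mem_univ _)).2 _ (by omega)).2 b c,
          ((data_mem h2 (hL t') (hn t') (hsz t') Finset.univ (Finset.mem_univ _)).2 _ (by omega)).2 b c]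
  refine (Nat.card_le_card_of_injective Φ hΦ).trans ?_
  rw [Nat.card_sigma, ← Finset.sum_coe_sort (patterns (N + 1) Finset.univ)]
  refine Finset.sum_le_sum fun p _ => ?_
  rw [Nat.card_pi, Fin.prod_univ_succ, restTerm, ← Finset.prod_pow_eq_pow_sum]
  exact Nat.mul_le_mul (card_palOne_le _).2 (Finset.prod_le_prod' fun i _ => (card_pal_le _).2)

end Cfsg.Lib.ClassNumberO
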