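import Cfsg.Agent.Known.ClassNumberO.Count
import Mathlib

/-! Bounding the sums over degree and bit patterns. -/

set_option autoImplicit false
set_option linter.style.haveILetI false

open scoped Classical

namespace Cfsg.Lib.ClassNumberO

/-- The coefficient of even parity in `(1 + z s)⁴`, `s² = y`. -/
def fa (y z : ℚ) : ℚ := 1 + 6 * z ^ 2 * y + z ^ 4 * y ^ 2

/-- The coefficient of odd parity in `(1 + z s)⁴`, `s² = y`. -/
def fb (y z : ℚ) : ℚ := 4 * z + 4 * z ^ 3 * y

/-- The parts of each parity of the product of the bit factors. -/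
def AB (y : ℚ) : ℕ → ℚ × ℚ
  | 0 => (1, 0)
  | K + 1 => ((AB y K).1 * fa y (y ^ K) + (AB y K).2 * fb y (y ^ K) * y,
      (AB y K).2 * fa y (y ^ K) + (AB y K).1 * fb y (y ^ K))

/-- The product bounding the polynomial part. -/
def polyCoef (y : ℚ) (K : ℕ) : ℚ := ∏ i ∈ Finset.range K, (1 - y ^ (i + 1))⁻¹

theorem weight_snoc {K : ℕ} (b : Fin K → Bool → Bool → Bool) (c : Bool → Bool → Bool) :
    weight (Fin.snoc (α := fun _ => Bool → Bool → Bool) b c) = weight b + (2 * K + 1) * bitCount c := by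
  rw [weight, Fin.sum_univ_castSucc, weight]
  simp

/-- The sum over bits of one parity. -/
noncomputable def bitSum (y : ℚ) (K ρ : ℕ) : ℚ :=
  ∑ b : Fin K → Bool → Bool → Bool, if weight b % 2 = ρ then y ^ (weight b / 2) else 0

/-- The sum over the bits at one exponent. -/
theorem sum_bits (f : ℕ → ℚ) : ∑ c : Bool → Bool → Bool, f (bitCount c) = f 0 + 4 * f 1 + 6 * f 2 + 4 * f 3 + f 4 := by
  let e : (Bool → Bool → Bool) ≃ (Bool × Bool) × (Bool × Bool) :=
    { toFun := fun c => ((c true false, c true true), (c false false, c false true))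
      invFun := fun p b c => if b then (if c then p.1.2 else p.1.1) else (if c then p.2.2 else p.2.1)
      left_inv := fun c => funext fun b => funext fun d => by cases b <;> cases d <;> rfl
      right_inv := fun p => by obtain ⟨⟨a, b⟩, c, d⟩ := p; rfl }
  rw [← Equiv.sum_comp e.symm]
  simp [Fintype.sum_prod_type, e, bitCount]
  ring

theorem bitSum_eq (y : ℚ) (K : ℕ) : bitSum y K 0 = (AB y K).1 ∧ bitSum y K 1 = (AB y K).2 := by
  induction K with
  | zero => simp [bitSum, weight, AB]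
  | succ K ih =>
    have step : ∀ ρ, ρ < 2 → bitSum y (K + 1) ρ = ∑ c : Bool → Bool → Bool, ((fun k =>
        bitSum y K ((ρ + k) % 2) * y ^ (K * k + (k + 1 - ρ) / 2)) (bitCount c)) := by
      intro ρ hρ
      unfold bitSum
      rw [← Equiv.sum_comp (Fin.snocEquiv fun _ : Fin (K + 1) => Bool → Bool → Bool), Fintype.sum_prod_type]
      refine Finset.sum_congr rfl fun c _ => ?_
      simp only [Finset.sum_mul]
      refine Finset.sum_congr rfl fun b _ => ?_
      have hw : weight ((Fin.snocEquiv fun _ : Fin (K + 1) => Bool → Bool → Bool) (c, b)) =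
          weight b + (2 * K + 1) * bitCount c := weight_snoc b c
      rw [hw, ite_mul, zero_mul]
      generalize bitCount c = k
      have hodd : (2 * K + 1) * k = 2 * (K * k) + k := by ring
      rw [hodd]
      by_cases h : weight b % 2 = (ρ + k) % 2
      · rw [if_pos h, if_pos (by omega), ← pow_add]
        congr 1
        omega
      · rw [if_neg h, if_neg (by omega)]
    constructor
    · rw [step 0 (by norm_num), sum_bits (fun k => bitSum y K ((0 + k) % 2) * y ^ (K * k + (k + 1 - 0) / 2))]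
      norm_num [ih.1, ih.2, AB, fa, fb]
      ring
    · rw [step 1 (by norm_num), sum_bits (fun k => bitSum y K ((1 + k) % 2) * y ^ (K * k + (k + 1 - 1) / 2))]
      norm_num [ih.1, ih.2, AB, fa, fb]
      ring

theorem AB_nonneg {y : ℚ} (hy : 0 ≤ y) (K : ℕ) : 0 ≤ (AB y K).1 ∧ 0 ≤ (AB y K).2 := by
  induction K with
  | zero => simp [AB]
  | succ K ih =>
    obtain ⟨h1, h2⟩ := ih
    simp only [AB, fa, fb]
    constructor <;> positivity

theorem AB_mono {y x : ℚ} (hy : 0 ≤ y) (hyx : y ≤ x) (K : ℕ) :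
    (AB y K).1 ≤ (AB x K).1 ∧ (AB y K).2 ≤ (AB x K).2 := by
  induction K with
  | zero => simp [AB]
  | succ K ih =>
    obtain ⟨h1, h2⟩ := ih
    obtain ⟨p1, p2⟩ := AB_nonneg hy K
    obtain ⟨q1, q2⟩ := AB_nonneg (hy.trans hyx) K
    have hz : y ^ K ≤ x ^ K := pow_le_pow_left₀ hy hyx K
    have hz0 : 0 ≤ y ^ K := by positivity
    have ha : fa y (y ^ K) ≤ fa x (x ^ K) := by unfold fa; gcongr
    have hx0 : 0 ≤ x := hy.trans hyx
    have hb : fb y (y ^ K) ≤ fb x (x ^ K) := by unfold fb; gcongr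
    have ha0 : 0 ≤ fa y (y ^ K) := by unfold fa; positivity
    have hb0 : 0 ≤ fb y (y ^ K) := by unfold fb; positivity
    have hb1 : 0 ≤ fb x (x ^ K) := hb0.trans hb
    simp only [AB]
    exact ⟨add_le_add (mul_le_mul h1 ha ha0 q1) (mul_le_mul (mul_le_mul h2 hb hb0 q2) hyx hy (mul_nonneg q2 hb1)),
      add_le_add (mul_le_mul h2 ha ha0 q2) (mul_le_mul h1 hb hb0 q1)⟩

theorem AB_third (K : ℕ) : (AB (1 / 3) K).1 ≤ 46 / 5 ∧ (AB (1 / 3) K).2 ≤ 159 / 10 := by
  have inv : ∀ K, 7 ≤ K → (AB (1 / 3) K).1 ≤ 46 / 5 * (1 - 9 / 2 * (1 / 3 : ℚ) ^ K) ∧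
      (AB (1 / 3) K).2 ≤ 159 / 10 * (1 - 9 / 2 * (1 / 3 : ℚ) ^ K) := by
    intro K hK
    induction K, hK using Nat.le_induction with
    | base => norm_num [AB, fa, fb]
    | succ K hK ih =>
      obtain ⟨h1, h2⟩ := ih
      obtain ⟨p1, p2⟩ := AB_nonneg (y := (1 / 3 : ℚ)) (by norm_num) K
      rw [pow_succ (1 / 3 : ℚ)]
      set z := (1 / 3 : ℚ) ^ K with hz
      have hz0 : 0 < z := by positivity
      have hz1 : z ≤ 1 / 2187 := le_trans (pow_le_pow_of_le_one (by norm_num) (by norm_num) hK) (by norm_num)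
      have hsq : z ^ 2 ≤ z / 2187 := by nlinarith
      have hcu : z ^ 3 ≤ z ^ 2 := by nlinarith
      have hqu : z ^ 4 ≤ z ^ 2 := by nlinarith
      have ha : fa (1 / 3) z ≤ 1 + z / 100 := by unfold fa; nlinarith
      have hb : fb (1 / 3) z ≤ 401 / 100 * z := by unfold fb; nlinarith
      have ha0 : 0 ≤ fa (1 / 3) z := by unfold fa; positivity
      have hb0 : 0 ≤ fb (1 / 3) z := by unfold fb; positivity
      constructor
      · calc _ = (AB (1 / 3) K).1 * fa (1 / 3) z + (AB (1 / 3) K).2 * fb (1 / 3) z * (1 / 3) := by rw [AB, ← hz]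
          _ ≤ 46 / 5 * (1 - 9 / 2 * z) * (1 + z / 100) + 159 / 10 * (1 - 9 / 2 * z) * (401 / 100 * z) * (1 / 3) :=
            add_le_add (mul_le_mul h1 ha ha0 (by nlinarith))
              (mul_le_mul_of_nonneg_right (mul_le_mul h2 hb hb0 (by nlinarith)) (by norm_num))
          _ ≤ _ := by nlinarith
      · calc _ = (AB (1 / 3) K).2 * fa (1 / 3) z + (AB (1 / 3) K).1 * fb (1 / 3) z := by rw [AB, ← hz]
          _ ≤ 159 / 10 * (1 - 9 / 2 * z) * (1 + z / 100) + 46 / 5 * (1 - 9 / 2 * z) * (401 / 100 * z) :=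
            add_le_add (mul_le_mul h2 ha ha0 (by nlinarith)) (mul_le_mul h1 hb hb0 (by nlinarith))
          _ ≤ _ := by nlinarith
  rcases le_or_gt 7 K with h | h
  · have : (0 : ℚ) ≤ (1 / 3) ^ K := by positivity
    obtain ⟨h1, h2⟩ := inv K h
    constructor <;> linarith
  · interval_cases K <;> norm_num [AB, fa, fb]

theorem bitSum_le {y : ℚ} (hy : 0 ≤ y) (hy' : y ≤ 1 / 3) (K : ℕ) :
    bitSum y K 0 ≤ 46 / 5 ∧ bitSum y K 1 ≤ 159 / 10 := by
  rw [(bitSum_eq y K).1, (bitSum_eq y K).2]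
  exact ⟨(AB_mono hy hy' K).1.trans (AB_third K).1, (AB_mono hy hy' K).2.trans (AB_third K).2⟩

theorem polyCoef_le {y : ℚ} (hy : 0 ≤ y) (hy' : y ≤ 1 / 3) (K : ℕ) : polyCoef y K ≤ 9 / 5 := by
  have hlt : ∀ i, (1 / 3 : ℚ) ^ (i + 1) < 1 := fun i => pow_lt_one₀ (by norm_num) (by norm_num) (by omega)
  have hmono : polyCoef y K ≤ polyCoef (1 / 3) K := by
    refine Finset.prod_le_prod (fun i _ => inv_nonneg.2 ?_) fun i _ => ?_
    · linarith [pow_le_pow_left₀ hy hy' (i + 1), hlt i]
    · refine inv_anti₀ (by linarith [hlt i]) ?_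
      linarith [pow_le_pow_left₀ hy hy' (i + 1)]
  refine hmono.trans ?_
  have inv : ∀ K, 6 ≤ K → polyCoef (1 / 3) K ≤ 9 / 5 * (1 - (1 / 3 : ℚ) ^ K) := by
    intro K hK
    induction K, hK using Nat.le_induction with
    | base => norm_num [polyCoef, Finset.prod_range_succ]
    | succ K hK ih =>
      rw [polyCoef, Finset.prod_range_succ, ← polyCoef, pow_succ (1 / 3 : ℚ)]
      set z := (1 / 3 : ℚ) ^ K with hz
      have hz0 : 0 < z := by positivity
      have hz1 : z ≤ 1 := pow_le_one₀ (by norm_num) (by norm_num)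
      calc polyCoef (1 / 3) K * (1 - z * (1 / 3))⁻¹ ≤ 9 / 5 * (1 - z) * (1 - z * (1 / 3))⁻¹ :=
            mul_le_mul_of_nonneg_right ih (inv_nonneg.2 (by linarith))
        _ ≤ _ := by
            rw [← div_eq_mul_inv, div_le_iff₀ (by linarith), mul_assoc]
            refine mul_le_mul_of_nonneg_left ?_ (by norm_num)
            nlinarith
  rcases le_or_gt 6 K with h | h
  · have : (0 : ℚ) ≤ (1 / 3) ^ K := by positivity
    linarith [inv K h]
  · interval_cases K <;> norm_num [polyCoef, Finset.prod_range_succ]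

theorem sum_patterns_le (q M : ℕ) (hq : 2 ≤ q) (S : Finset (Fin M → Bool → Bool → Bool)) :
    ((∑ p ∈ patterns M S, q ^ ∑ i, p.1 i : ℕ) : ℚ) ≤ polyCoef (1 / q) M *
      (∑ b ∈ S, if weight b % 2 = M % 2 then (1 / (q : ℚ)) ^ (weight b / 2) else 0) * (q : ℚ) ^ (M / 2) := by
  classical
  have hq0 : (0 : ℚ) < q := by exact_mod_cast (by omega : 0 < q)
  set y : ℚ := 1 / (q : ℚ) with hy
  have hy0 : 0 < y := by positivity
  have hy1 : y < 1 := by rw [hy, div_lt_one hq0]; exact_mod_cast (by omega : 1 < q)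
  have hpow : ∀ m, y ^ (m + 1) < 1 := fun m => pow_lt_one₀ hy0.le hy1 (by omega)
  let W : (Fin M → Bool → Bool → Bool) → ℚ := fun b => if weight b % 2 = M % 2 then y ^ (weight b / 2) else 0
  have hW0 : ∀ b, 0 ≤ W b := fun b => by dsimp only [W]; split_ifs <;> positivity
  have hterm : ∀ p ∈ patterns M S, ((q ^ ∑ i, p.1 i : ℕ) : ℚ) =
      (q : ℚ) ^ (M / 2) * ((∏ i : Fin M, y ^ ((i : ℕ) * p.1 i)) * W p.2) := by
    intro p hp
    rw [patterns, Finset.mem_filter] at hp
    have h2 := hp.2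
    simp only [W]
    rw [if_pos (by omega), Finset.prod_pow_eq_pow_sum, ← pow_add, hy, one_div, inv_pow, Nat.cast_pow]
    rw [eq_mul_inv_iff_mul_eq₀ (pow_ne_zero _ hq0.ne'), ← pow_add]
    congr 1
    have hsplit : ∑ i : Fin M, ((i : ℕ) + 1) * p.1 i = ∑ i : Fin M, (i : ℕ) * p.1 i + ∑ i : Fin M, p.1 i := by
      rw [← Finset.sum_add_distrib]; exact Finset.sum_congr rfl fun i _ => by ring
    omega
  push_cast at hterm ⊢
  rw [Finset.sum_congr rfl hterm, ← Finset.mul_sum, mul_comm]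
  refine mul_le_mul_of_nonneg_right ?_ (by positivity)
  let T : Fin M → Finset ℕ := fun i => if (i : ℕ) = 0 then {0} else Finset.range (M + 1)
  let g : (Fin M → ℕ) × (Fin M → Bool → Bool → Bool) → (Fin M → ℕ) × (Fin M → Bool → Bool → Bool) :=
    fun p => (fun i => if (i : ℕ) = 0 then 0 else p.1 i, p.2)
  have hval : ∀ p : (Fin M → ℕ) × (Fin M → Bool → Bool → Bool),
      (∏ i : Fin M, y ^ ((i : ℕ) * p.1 i)) * W p.2 = (∏ i : Fin M, y ^ ((i : ℕ) * (g p).1 i)) * W (g p).2 := fun p => by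
    refine congrArg₂ (· * ·) (Finset.prod_congr rfl fun i _ => ?_) rfl
    simp only [g]
    split_ifs with h <;> simp [h]
  rw [Finset.sum_congr rfl fun p _ => hval p,
    ← Finset.sum_image (f := fun p => (∏ i : Fin M, y ^ ((i : ℕ) * p.1 i)) * W p.2) (g := g) ?_]
  swap
  · intro p hp p' hp' h
    simp only [Finset.mem_coe, patterns, Finset.mem_filter] at hp hp'
    simp only [g, Prod.mk.injEq] at h
    obtain ⟨h1, h2⟩ := h
    refine Prod.ext (funext fun i => ?_) h2
    by_cases hi : (i : ℕ) = 0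
    · have e := hp.2.trans hp'.2.symm
      rw [h2, ← Finset.add_sum_erase _ _ (Finset.mem_univ i), ← Finset.add_sum_erase _ _ (Finset.mem_univ i)] at e
      have : ∑ x ∈ Finset.univ.erase i, ((x : ℕ) + 1) * p.1 x = ∑ x ∈ Finset.univ.erase i, ((x : ℕ) + 1) * p'.1 x :=
        Finset.sum_congr rfl fun x hx => by
          have hx0 : (x : ℕ) ≠ 0 := fun h0 => Finset.ne_of_mem_erase hx (Fin.ext (h0.trans hi.symm))
          have := congrFun h1 x
          rw [if_neg hx0, if_neg hx0] at this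
          rw [this]
      rw [this, hi] at e
      omega
    · have := congrFun h1 i
      rwa [if_neg hi, if_neg hi] at this
  refine le_trans (Finset.sum_le_sum_of_subset_of_nonneg (t := Fintype.piFinset T ×ˢ S) ?_
    (fun p _ _ => mul_nonneg (Finset.prod_nonneg fun i _ => by positivity) (hW0 _))) ?_
  · intro x hx
    obtain ⟨p, hp, rfl⟩ := Finset.mem_image.1 hx
    simp only [patterns, Finset.mem_filter, Finset.mem_product, Fintype.mem_piFinset] at hp
    simp only [g, T, Finset.mem_product, Fintype.mem_piFinset]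
    refine ⟨fun i => ?_, hp.1.2⟩
    split_ifs
    · simp
    · exact hp.1.1 i
  rw [Finset.sum_product]
  simp only
  rw [← Finset.sum_mul_sum, ← Finset.prod_univ_sum T (fun (i : Fin M) x => y ^ ((i : ℕ) * x))]
  refine mul_le_mul_of_nonneg_right ?_ (Finset.sum_nonneg fun b _ => hW0 b)
  rcases Nat.eq_zero_or_pos M with rfl | hn
  · simp [polyCoef]
  obtain ⟨m, rfl⟩ : ∃ m, M = m + 1 := ⟨M - 1, by omega⟩
  have step : ∀ i : Fin (m + 1), ∑ x ∈ T i, y ^ ((i : ℕ) * x) ≤ if (i : ℕ) = 0 then 1 else (1 - y ^ (i : ℕ))⁻¹ := by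
    intro i
    simp only [T]
    split_ifs with h
    · simp
    · obtain ⟨j, hj⟩ := Nat.exists_eq_succ_of_ne_zero h
      simp only [pow_mul, hj, Nat.succ_eq_add_one]
      have hx := hpow j
      rw [← one_div, le_div_iff₀ (by linarith)]
      rw [geom_sum_mul_neg]
      have : 0 ≤ (y ^ (j + 1)) ^ (m + 1 + 1) := by positivity
      linarith
  refine le_trans (Finset.prod_le_prod (fun i _ => Finset.sum_nonneg fun x _ => by positivity) fun i _ => step i) ?_
  rw [Fin.prod_univ_eq_prod_range (fun i => if i = 0 then (1 : ℚ) else (1 - y ^ i)⁻¹) (m + 1), polyCoef,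
    Finset.prod_range_succ', if_pos rfl, mul_one, Finset.prod_range_succ]
  simp only [Nat.add_one_ne_zero, if_false]
  refine le_mul_of_one_le_right (Finset.prod_nonneg fun i _ => inv_nonneg.2 (by linarith [hpow i])) ?_
  rw [one_le_inv₀ (by linarith [hpow m])]
  have : 0 ≤ y ^ (m + 1) := by positivity
  linarith

end Cfsg.Lib.ClassNumberO
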