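import Cfsg.Agent.Known.ClassNumberO.Series
import Cfsg.Agent.Known.ClassNumberO.Disc
import Mathlib

/-! The upper bound for the class number of an orthogonal group in odd characteristic. -/

set_option autoImplicit false
set_option linter.style.haveILetI false

open Polynomial
open scoped Classical

namespace Cfsg.Lib.ClassNumberO

open ClassNumberSp (Isom Key sgn Piece Normal numNsq numOnes bits sum_ite_eq_count)

universe u

section Toggle

variable {F : Type u} [Field F]

theorem numNsq_eq (M : Multiset (Key F)) (b : Bool) (e : ℕ) :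
    numNsq M b e = M.count (Key.one b e false) := by
  rw [numNsq, sum_ite_eq_count M (Key.one b e false) _ 1 ?_, mul_one]
  intro k _
  rcases k with ⟨Q, e'⟩ | ⟨b', e', s'⟩ | ⟨b', e'⟩ <;> simp [ClassNumberSp.Key.nsq]

theorem numOnes_eq (M : Multiset (Key F)) (b : Bool) (e : ℕ) :
    numOnes M b e = M.count (Key.one b e false) + M.count (Key.one b e true) := by
  induction M using Multiset.induction with
  | empty => simp [numOnes]
  | cons k M ih =>
    rw [numOnes, Multiset.map_cons, Multiset.sum_cons, ← numOnes, ih, Multiset.count_cons, Multiset.count_cons]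
    rcases k with ⟨Q, e'⟩ | ⟨b', e', s'⟩ | ⟨b', e'⟩
    · simp [ClassNumberSp.Key.ones]
    · simp only [ClassNumberSp.Key.ones, ClassNumberSp.Key.one.injEq]
      by_cases hbe : b' = b ∧ e' = e
      · obtain ⟨rfl, rfl⟩ := hbe
        cases s' <;> simp <;> omega
      · rw [if_neg hbe, if_neg (fun h => hbe ⟨h.1.symm, h.2.1.symm⟩), if_neg (fun h => hbe ⟨h.1.symm, h.2.1.symm⟩)]
        omega
    · simp [ClassNumberSp.Key.ones]

/-- Exchanging two labels in a multiset. -/
noncomputable def swapKey (L : Multiset (Key F)) (k k' : Key F) : Multiset (Key F) := k' ::ₘ L.erase k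

/-- There is a single block. -/
def HasSingle (L : Multiset (Key F)) : Prop := ∃ e, 0 < numOnes L true e + numOnes L false e

/-- The chosen eigenvalue and exponent of a single block. -/
noncomputable def pick (L : Multiset (Key F)) (h : HasSingle L) : Bool × ℕ :=
  (decide (0 < numOnes L true (Nat.find h)), Nat.find h)

theorem pick_pos (L : Multiset (Key F)) (h : HasSingle L) : 0 < numOnes L (pick L h).1 (pick L h).2 := by
  have := Nat.find_spec h
  simp only [pick]
  by_cases h1 : 0 < numOnes L true (Nat.find h)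
  · rw [decide_eq_true h1]; exact h1
  · rw [decide_eq_false h1]; omega

theorem pick_congr {L L' : Multiset (Key F)} (h : HasSingle L) (h' : HasSingle L')
    (he : ∀ b e, numOnes L b e = numOnes L' b e) : pick L h = pick L' h' := by
  have e1 : Nat.find h = Nat.find h' := Nat.find_congr' (fun {n} => by rw [he, he])
  simp only [pick, e1, he]

/-- Changing the type of one chosen single block. -/
noncomputable def toggle (L : Multiset (Key F)) : Multiset (Key F) :=
  if h : HasSingle L then
    (if numNsq L (pick L h).1 (pick L h).2 = 0 then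
      swapKey L (Key.one (pick L h).1 (pick L h).2 true) (Key.one (pick L h).1 (pick L h).2 false)
    else swapKey L (Key.one (pick L h).1 (pick L h).2 false) (Key.one (pick L h).1 (pick L h).2 true))
  else L

theorem toggle_spec {L : Multiset (Key F)} (h : HasSingle L) :
    ∃ (b : Bool) (e : ℕ) (s : Bool) (R : Multiset (Key F)), L = Key.one b e s ::ₘ R ∧
      toggle L = Key.one b e (!s) ::ₘ R ∧ (b, e) = pick L h ∧ (s = true ↔ numNsq L b e = 0) := by
  have hpos := pick_pos L h
  set b := (pick L h).1 with hb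
  set e := (pick L h).2 with he
  rw [numOnes_eq] at hpos
  by_cases h0 : numNsq L b e = 0
  · have hmem : Key.one b e true ∈ L := Multiset.count_pos.1 (by rw [numNsq_eq] at h0; omega)
    exact ⟨b, e, true, L.erase (Key.one b e true), (Multiset.cons_erase hmem).symm,
      by rw [toggle, dif_pos h, ← hb, ← he, if_pos h0]; rfl, rfl, iff_of_true rfl h0⟩
  · have hmem : Key.one b e false ∈ L := Multiset.count_pos.1 (by rw [numNsq_eq] at h0; omega)
    exact ⟨b, e, false, L.erase (Key.one b e false), (Multiset.cons_erase hmem).symm,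
      by rw [toggle, dif_pos h, ← hb, ← he, if_neg h0]; rfl, rfl, iff_of_false (by simp) h0⟩

theorem toggle_props {L : Multiset (Key F)} (hn : ∀ b e, numNsq L b e ≤ 1) (h : HasSingle L) :
    (∀ b e, numOnes (toggle L) b e = numOnes L b e) ∧ (∀ b e, numNsq (toggle L) b e ≤ 1) ∧
      HasSingle (toggle L) ∧ toggle (toggle L) = L := by
  obtain ⟨b, e, s, R, hL, hT, hp, hs⟩ := toggle_spec h
  have h1 : ∀ b' e', numOnes (toggle L) b' e' = numOnes L b' e' := fun b' e' => by
    rw [hT, hL, numOnes, numOnes, Multiset.map_cons, Multiset.map_cons, Multiset.sum_cons, Multiset.sum_cons]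
    rfl
  have h2 : ∀ b' e', numNsq (toggle L) b' e' ≤ 1 := fun b' e' => by
    have := hn b' e'
    have hbe := hn b e
    rw [hT, numNsq_eq, Multiset.count_cons]
    rw [hL, numNsq_eq, Multiset.count_cons] at this hbe
    rw [numNsq_eq, hL, Multiset.count_cons] at hs
    by_cases hq : (Key.one b' e' false : Key F) = Key.one b e (!s)
    · obtain ⟨rfl, rfl, hs'⟩ := ClassNumberSp.Key.one.inj hq
      have hst : s = true := by simpa using hs'.symm
      subst hst
      simp at hs ⊢
      omega
    · rw [if_neg hq]; omega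
  have h3 : HasSingle (toggle L) := by
    obtain ⟨x, hx⟩ := h
    exact ⟨x, by rw [h1, h1]; exact hx⟩
  refine ⟨h1, h2, h3, ?_⟩
  obtain ⟨b', e', s', R', hL', hT', hp', hs'⟩ := toggle_spec h3
  obtain ⟨rfl, rfl⟩ := Prod.mk.inj (hp'.trans ((pick_congr h3 h h1).trans hp.symm))
  have hss : s' = !s := by
    rw [numNsq_eq, hT, Multiset.count_cons] at hs'
    rw [numNsq_eq, hL, Multiset.count_cons] at hs
    have := hn b' e'
    rw [hL, numNsq_eq, Multiset.count_cons] at this
    cases s <;> cases s' <;> simp at * <;> first | omega | exact absurd hs' this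
  subst hss
  rw [hT'] at *
  rw [hT] at hL'
  rw [hL, (Multiset.cons_inj_right _).1 hL', Bool.not_not]

theorem bits_eq_zero {L : Multiset (Key F)} (h : ¬ HasSingle L) (b c : Bool) (e : ℕ) : bits L b e c = false := by
  have h1 : ∀ b, numOnes L b e = 0 := fun b => by
    by_contra hne
    exact h ⟨e, by cases b <;> omega⟩
  have h0 : numNsq L b e = 0 := by
    rw [numNsq_eq]
    have := h1 b
    rw [numOnes_eq] at this
    omega
  simp [bits, h1 b, h0]

end Toggle

section Group

variable {F : Type u} [Field F] [Fintype F] {ι : Type} [Fintype ι] [DecidableEq ι]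

/-- The maps of the isometry group are isometries of finite order. -/
theorem isom_toLin (Q : QuadraticForm F (ι → F)) (g : Cfsg.isometryGroup F (⇑Q)) :
    Isom (QuadraticMap.polarBilin Q) (Nat.card (Cfsg.isometryGroup F (⇑Q)))
      (Matrix.toLin' ((g : GL ι F) : Matrix ι ι F)) := by
  refine ⟨fun u w => ?_, ?_, Nat.card_pos⟩
  · have hQ : ∀ x, Q (((g : GL ι F) : Matrix ι ι F).mulVec x) = Q x := fun x => g.2 x x
    simp only [QuadraticMap.polarBilin_apply_apply, QuadraticMap.polar, Matrix.toLin'_apply, ← Matrix.mulVec_add, hQ]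
  · rw [← Matrix.toLin'_pow, ← Units.val_pow_eq_pow_val, ← SubmonoidClass.coe_pow, pow_card_eq_one', OneMemClass.coe_one,
      Units.val_one, Matrix.toLin'_one]
    rfl

theorem isConj_of_dec (Q : QuadraticForm F (ι → F)) (h2 : (2 : F) ≠ 0) (g g' : Cfsg.isometryGroup F (⇑Q))
    {L L' : List (Key F)}
    (hL : Dec (QuadraticMap.polarBilin Q) (Matrix.toLin' ((g : GL ι F) : Matrix ι ι F)) L ⊤)
    (hL' : Dec (QuadraticMap.polarBilin Q) (Matrix.toLin' ((g' : GL ι F) : Matrix ι ι F)) L' ⊤)
    (hnd : ∀ x, (∀ y, QuadraticMap.polarBilin Q x y = 0) → x = 0)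
    (h : L.Perm L') : IsConj g g' := by
  have hB : ∀ u w, QuadraticMap.polarBilin Q u w = QuadraticMap.polarBilin Q w u := fun u w => by
    simp only [QuadraticMap.polarBilin_apply_apply, QuadraticMap.polar_comm]
  obtain ⟨f, -, hfB, hfa⟩ := iso_of_dec (isom_toLin Q g) (isom_toLin Q g') hB h2 (hL.perm h hB) hL'
  let T : (ι → F) →ₗ[F] (ι → F) := f.comp (LinearEquiv.ofTop ⊤ rfl).symm.toLinearMap
  have hT : ∀ x, T x = f ⟨x, Submodule.mem_top⟩ := fun x => rfl
  have hTB : ∀ x y, QuadraticMap.polarBilin Q (T x) (T y) = QuadraticMap.polarBilin Q x y := fun x y => by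
    rw [hT, hT]; exact hfB _ _
  have hTQ : ∀ x, Q (T x) = Q x := fun x => by
    have h1 := hTB x x
    simp only [QuadraticMap.polarBilin_apply_apply, QuadraticMap.polar_self, smul_eq_mul] at h1
    exact mul_left_cancel₀ h2 (by simpa using h1)
  have hinj : Function.Injective T := (injective_iff_map_eq_zero T).2 fun x hx => hnd x fun y => by
    rw [← hTB, hx, map_zero, LinearMap.zero_apply]
  have hu : IsUnit (LinearMap.toMatrix' T) := by
    rw [← Matrix.mulVec_injective_iff_isUnit]
    intro x y hxy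
    rw [LinearMap.toMatrix'_mulVec, LinearMap.toMatrix'_mulVec] at hxy
    exact hinj hxy
  obtain ⟨u, hu⟩ := hu
  refine isConj_iff.2 ⟨⟨u, fun x _ => ?_⟩, mul_inv_eq_iff_eq_mul.2 (Subtype.ext (Units.ext ?_))⟩
  · show Q ((u : Matrix ι ι F).mulVec x) = Q x
    rw [hu, LinearMap.toMatrix'_mulVec]
    exact hTQ x
  show (u : Matrix ι ι F) * ((g : GL ι F) : Matrix ι ι F) = ((g' : GL ι F) : Matrix ι ι F) * (u : Matrix ι ι F)
  rw [hu]
  apply Matrix.toLin'.injective
  rw [Matrix.toLin'_mul, Matrix.toLin'_mul, Matrix.toLin'_toMatrix']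
  refine LinearMap.ext fun x => ?_
  show T (Matrix.toLin' ((g : GL ι F) : Matrix ι ι F) x) = Matrix.toLin' ((g' : GL ι F) : Matrix ι ι F) (T x)
  rw [hT, hT]
  exact hfa ⟨x, Submodule.mem_top⟩ Submodule.mem_top

theorem dec_valid {V : Type*} [AddCommGroup V] [Module F V] {B : LinearMap.BilinForm F V} {a : Module.End F V}
    {L : List (Key F)} {W : Submodule F V} (h : Dec B a L W) {k : Key F} (hk : k ∈ L) : Valid k := by
  obtain ⟨U, -, hU⟩ := h.exists_mem hk
  rcases k with ⟨Q, e⟩ | ⟨b, e, s⟩ | ⟨b, e⟩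
  · exact ⟨hU.1, hU.2.1⟩
  · exact hU.2.1
  · obtain ⟨v, w, hp, -⟩ := hU
    exact ⟨hp.pos, hp.even⟩

omit [Fintype F] in
theorem numNsq_le_one {L : List (Key F)} (h : Normal L) (b : Bool) (e : ℕ) : numNsq (L : Multiset (Key F)) b e ≤ 1 := by
  rw [numNsq_eq, Multiset.coe_count]
  by_contra hlt
  have hmem : Key.one b e false ∈ L := List.count_pos_iff.1 (by omega)
  refine h b e _ (List.perm_cons_erase hmem) (List.count_pos_iff.1 ?_)
  rw [List.count_erase_self]
  omega

/-- Twice the class number is bounded by all labels plus the labels without single blocks. -/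
theorem two_mul_card_classes_le (Q : QuadraticForm F (ι → F)) (h2 : (2 : F) ≠ 0)
    (hQ : (QuadraticMap.polarBilin Q).Nondegenerate) {M : ℕ} (hM : Fintype.card ι = M) :
    2 * Nat.card (ConjClasses (Cfsg.isometryGroup F (⇑Q))) ≤
      ∑ p ∈ patterns M Finset.univ, Fintype.card F ^ ∑ i, p.1 i +
        ∑ p ∈ patterns M {fun _ _ _ => false}, Fintype.card F ^ ∑ i, p.1 i := by
  have hnd : ∀ x, (∀ y, QuadraticMap.polarBilin Q x y = 0) → x = 0 := hQ.1
  have hB : ∀ u w, QuadraticMap.polarBilin Q u w = QuadraticMap.polarBilin Q w u := fun u w => by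
    simp only [QuadraticMap.polarBilin_apply_apply, QuadraticMap.polar_comm]
  have htop : ∀ g : Cfsg.isometryGroup F (⇑Q),
      Piece (QuadraticMap.polarBilin Q) (Matrix.toLin' ((g : GL ι F) : Matrix ι ι F)) ⊤ := fun g =>
    ⟨fun _ _ _ => Submodule.mem_top, fun x _ h => hnd x fun y => h y Submodule.mem_top⟩
  have hdec : ∀ C : ConjClasses (Cfsg.isometryGroup F (⇑Q)), ∃ L, Dec (QuadraticMap.polarBilin Q)
      (Matrix.toLin' (((Quotient.out C : Cfsg.isometryGroup F (⇑Q)) : GL ι F) : Matrix ι ι F)) L ⊤ ∧ Normal L := fun C =>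
    exists_dec (isom_toLin Q _) hB h2 _ ⊤ (htop _) le_rfl
  choose L hL hLn using hdec
  let l : ConjClasses (Cfsg.isometryGroup F (⇑Q)) → Multiset (Key F) := fun C => ↑(L C)
  have hinj : Function.Injective l := fun C C' h => by
    rw [← Quotient.out_eq C, ← Quotient.out_eq C']
    exact Quotient.sound (isConj_of_dec Q h2 _ _ (hL C) (hL C') hnd (Multiset.coe_eq_coe.1 h))
  have hv : ∀ C, ∀ k ∈ l C, Valid k := fun C k hk => dec_valid (hL C) (Multiset.mem_coe.1 hk)
  have hn : ∀ C b e, numNsq (l C) b e ≤ 1 := fun C => numNsq_le_one (hLn C)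
  have hsz : ∀ C, ((l C).map ClassNumberSp.Key.size).sum = M := fun C => by
    rw [Multiset.map_coe, Multiset.sum_coe, ← (hL C).finrank (isom_toLin Q _) hB h2, finrank_top, Module.finrank_pi, hM]
  have hsplit : Nat.card (ConjClasses (Cfsg.isometryGroup F (⇑Q))) =
      Nat.card {C // HasSingle (l C)} + Nat.card {C // ¬ HasSingle (l C)} := by
    rw [← Nat.card_sum]; exact Nat.card_congr (Equiv.sumCompl _).symm
  have hnone := (card_labels_le h2 M {fun _ _ _ => false} (fun C : {C // ¬ HasSingle (l C)} => l C.1)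
    (fun C C' h => Subtype.ext (hinj h)) (fun C => hv C.1) (fun C => hn C.1) (fun C => hsz C.1) (fun C => by
      rw [Finset.mem_singleton]
      exact funext fun r => funext fun b => funext fun c => bits_eq_zero C.2 b c _)).2
  let J := ConjClasses (Cfsg.isometryGroup F (⇑Q)) ⊕ {C // HasSingle (l C)}
  let Φ : J → Multiset (Key F) := Sum.elim l fun C => toggle (l C.1)
  have hΦ : Function.Injective Φ := by
    have key : ∀ C C' (h : HasSingle (l C')), l C ≠ toggle (l C') := by
      intro C C' h heq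
      obtain ⟨b, e, s, R, hR, hT, -, -⟩ := toggle_spec h
      rw [hT] at heq
      induction R using Quotient.inductionOn with
      | _ R =>
        exact not_flip h2 hB hnd (isom_toLin Q _) (isom_toLin Q _)
          ((hL C').perm (Multiset.coe_eq_coe.1 hR) hB) ((hL C).perm (Multiset.coe_eq_coe.1 heq) hB)
    rintro (C | C) (C' | C') h
    · exact congrArg Sum.inl (hinj h)
    · exact absurd h (key C C'.1 C'.2)
    · exact absurd h.symm (key C' C.1 C.2)
    · refine congrArg Sum.inr (Subtype.ext (hinj ?_))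
      rw [← (toggle_props (hn C.1) C.2).2.2.2, ← (toggle_props (hn C'.1) C'.2).2.2.2]
      exact congrArg toggle h
  have hall := card_labels_le h2 M Finset.univ Φ hΦ
    (by
      rintro (C | C) k hk
      · exact hv C k hk
      · obtain ⟨b, e, s, R, hR, hT, -, -⟩ := toggle_spec C.2
        simp only [Φ, Sum.elim_inr, hT, Multiset.mem_cons] at hk
        rcases hk with rfl | hk
        · exact hv C.1 (Key.one b e s) (hR ▸ Multiset.mem_cons_self _ _)
        · exact hv C.1 k (hR ▸ Multiset.mem_cons_of_mem hk))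
    (by rintro (C | C); exacts [hn C, (toggle_props (hn C.1) C.2).2.1])
    (by
      rintro (C | C)
      · exact hsz C
      · obtain ⟨b, e, s, R, hR, hT, -, -⟩ := toggle_spec C.2
        have := hsz C.1
        rw [hR] at this
        simp only [Φ, Sum.elim_inr, hT]
        simpa [ClassNumberSp.Key.size] using this)
    (fun _ => Finset.mem_univ _)
  have h1 := hall.2
  rw [Nat.card_sum] at h1
  omega

end Group

/-- The numerical bound in even dimension. -/
theorem even_bound (q n : ℕ) (hq : 3 ≤ q) :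
    ((∑ p ∈ patterns (2 * n) Finset.univ, q ^ ∑ i, p.1 i +
      ∑ p ∈ patterns (2 * n) {fun _ _ _ => false}, q ^ ∑ i, p.1 i : ℕ) : ℚ) ≤ 19 * (q : ℚ) ^ n := by
  have hq0 : (0 : ℚ) < q := by exact_mod_cast (by omega : 0 < q)
  have hy : 1 / (q : ℚ) ≤ 1 / 3 := one_div_le_one_div_of_le (by norm_num) (by exact_mod_cast hq)
  have hy0 : 0 ≤ 1 / (q : ℚ) := by positivity
  have hP := polyCoef_le hy0 hy (2 * n)
  have hP0 : 0 ≤ polyCoef (1 / (q : ℚ)) (2 * n) := Finset.prod_nonneg fun i _ => inv_nonneg.2 (by
    have : (1 / (q : ℚ)) ^ (i + 1) ≤ 1 := pow_le_one₀ hy0 (by linarith)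
    linarith)
  have h1 := sum_patterns_le q (2 * n) (by omega) Finset.univ
  have h0 := sum_patterns_le q (2 * n) (by omega) {fun _ _ _ => false}
  have hw : weight (fun (_ : Fin (2 * n)) (_ _ : Bool) => false) = 0 := by simp [weight, bitCount]
  rw [show (2 * n) / 2 = n by omega, Nat.mul_mod_right] at h1 h0
  rw [Finset.sum_singleton, hw, Nat.zero_mod, if_pos rfl, Nat.zero_div, pow_zero, mul_one] at h0
  rw [← bitSum] at h1
  have hA := (bitSum_le hy0 hy (2 * n)).1
  have hAB : 0 ≤ bitSum (1 / (q : ℚ)) (2 * n) 0 := by rw [(bitSum_eq _ _).1]; exact (AB_nonneg hy0 _).1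
  have hqn : (0 : ℚ) ≤ (q : ℚ) ^ n := by positivity
  have := mul_le_mul hP hA hAB (by norm_num)
  push_cast at h1 h0 ⊢
  nlinarith

end Cfsg.Lib.ClassNumberO
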